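import Cfsg.Agent.LFType10.Elements

/-!
Linear isometries preserving the short orbit that are trivial on a given subspace.
-/
set_option autoImplicit false

namespace Cfsg.Agent.LFType10

open Cfsg.Agent.LFType23

/-- Vectors with their scalar multiples. -/
def dbl (l : List ℕ) : List ℕ := l.flatMap fun a => [a, app omL a]

/-- A basis adapted to the intersection subspace. -/
def baseD : List ℕ := [1365, 2730, 10, 15, 34, 51, 130, 195, 514, 771, 6, 11]

/-- The unit bits in this basis. -/
def baseDI : List ℕ := [2052, 3080, 2056, 3084, 2100, 3096, 2244, 3144, 2820, 3336, 3065, 3422]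

/-- A basis adapted to the fixed subspace. -/
def baseU : List ℕ := [85, 170, 301, 566, 1063, 2105, 5, 10, 6, 11, 17, 34]

/-- The unit bits in this basis. -/
def baseUI : List ℕ := [640, 960, 704, 832, 1664, 3008, 1729, 2882, 2244, 3144, 2128, 3232]

/-- Possible images of a short vector `r` when the vectors `prev` go to `imgs`. -/
def candI (prev imgs : List ℕ) (r : ℕ) : List ℕ :=
  smallL.filter fun x => (List.range prev.length).all fun k =>
    bfN x (imgs.getD k 0) == bfN r (prev.getD k 0)

/-- The sixteen sign patterns. -/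
def signs : List (List ℕ) :=
  (List.range 16).map fun k => (List.range 4).map fun i => if k.testBit i then 1365 else 0

/-- Candidates trivial on the intersection subspace. -/
def candD : List (List ℕ) :=
  signs.flatMap fun e =>
    let im := [1365, 10 ^^^ e.getD 0 0, 34 ^^^ e.getD 1 0, 130 ^^^ e.getD 2 0, 514 ^^^ e.getD 3 0]
    (candI (baseD.take 10) (dbl im) 6).map fun x => cmp (dbl (im ++ [x])) baseDI

/-- Candidates fixing the subspace. -/
def candU : List (List ℕ) :=
  (candI (baseU.take 6) (baseU.take 6) 5).flatMap fun x1 =>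
    (candI (baseU.take 8) (baseU.take 6 ++ dbl [x1]) 6).flatMap fun x2 =>
      (candI (baseU.take 10) (baseU.take 6 ++ dbl [x1] ++ dbl [x2]) 17).map fun x3 =>
        cmp (baseU.take 6 ++ dbl [x1] ++ dbl [x2] ++ dbl [x3]) baseUI

/-- The sixteen maps with odd part fixing the subspace. -/
def RT : List (List ℕ) := RL.map fun l => cmp l (trL tA)

theorem cand_check : (cmp baseD baseDI == idL && cmp baseU baseUI == idL &&
    dbl [1365, 10, 34, 130, 514, 6] == baseD && dbl [85, 301, 1063, 5, 6, 17] == baseU &&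
    smallB 6 && smallB 5 && smallB 17 &&
    (candD.all fun l => WL.contains l || (smallL.any fun a => !smallB (app l a))) &&
    (candU.all fun l => RL.contains l || RT.contains l || (smallL.any fun a => !smallB (app l a)))) = true := by
  decide +kernel

theorem coded_of_base {f : V → V} (hf : ∀ u w, f (u + w) = f u + f w) {B Bi : List ℕ}
    (h : cmp B Bi = idL) : Coded f (cmp (B.map fun b => enc (f (dec b))) Bi) := by
  have key : ∀ (l : List ℕ) (m : ℕ), enc (f (dec (app l m))) = app (l.map fun b => enc (f (dec b))) m := by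
    have h0 : f 0 = 0 := by
      have := hf 0 0
      rw [add_zero] at this
      exact left_eq_add.1 this
    intro l
    induction l with
    | nil => intro m; simp [app, dec_zero, h0, enc_zero]
    | cons a l ih =>
      intro m
      simp only [app, List.map_cons, dec_xor, hf, enc_add, ih]
      congr 1
      split_ifs
      · rfl
      · rw [dec_zero, h0, enc_zero]
  intro u
  rw [app_cmp, ← key, ← app_cmp, h, idL_app, dec_enc]

theorem no_moved {f : Equiv.Perm V} (hf : Good f) {l : List ℕ} (hc : Coded f l) :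
    (smallL.any fun a => !smallB (app l a)) = false := by
  rw [List.any_eq_false]
  intro a ha
  have h4 : a < 4096 := List.mem_range.1 (List.mem_filter.1 ha).1
  have h := hf.2.2.2 (dec a) (mem_smallL.1 (by rw [enc_dec h4]; exact ha))
  rw [small_iff, hc, enc_dec h4] at h
  simp [h]

theorem mem_candI {f : V → V} (hb : ∀ u w, bf (f u) (f w) = bf u w) (hs : ∀ u, Small u → Small (f u))
    {r : ℕ} (hr : r < 4096) (hr' : smallB r = true) {prev : List ℕ} :
    enc (f (dec r)) ∈ candI prev (prev.map fun b => enc (f (dec b))) r := by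
  rw [candI, List.mem_filter]
  refine ⟨mem_smallL.2 (hs _ ((small_iff _).2 (by rw [enc_dec hr]; exact hr'))),
    List.all_eq_true.2 fun k hk => ?_⟩
  have hk' := List.mem_range.1 hk
  rw [beq_iff_eq, bfN, bfN, dec_enc, List.getD_eq_getElem (l := List.map _ _) _ (by simpa using hk'),
    List.getD_eq_getElem (l := prev) _ hk', List.getElem_map, dec_enc, hb]

theorem map_dbl {f : V → V} (hlin : ∀ u, f (om u) = om (f u)) :
    ∀ l : List ℕ, (∀ a ∈ l, a < 4096) →
      (dbl l).map (fun b => enc (f (dec b))) = dbl (l.map fun b => enc (f (dec b)))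
  | [], _ => rfl
  | a :: l, h => by
    have h' := map_dbl hlin l fun b hb => h b (List.mem_cons_of_mem _ hb)
    simp only [dbl, List.flatMap_cons, List.map_append, List.map_cons, List.map_nil] at h' ⊢
    rw [h']
    have ha := h a (List.mem_cons_self ..)
    have e : dec (app omL a) = om (dec a) := by
      rw [← dec_enc (om (dec a)), om_coded, enc_dec ha]
    rw [e, hlin, om_coded]

theorem linTriv {f : Equiv.Perm V} (hf : Good f) (hlin : ∀ u, f (om u) = om (f u))
    (h1 : f (dec 1365) = dec 1365)
    (hd : ∀ a ∈ [10, 34, 130, 514], f (dec a) = dec a ∨ f (dec a) = dec a + dec 1365) :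
    ∃ l ∈ WL, Coded f l := by
  have hc := cand_check
  simp only [Bool.and_eq_true, beq_iff_eq] at hc
  obtain ⟨⟨⟨⟨⟨⟨⟨⟨hB, -⟩, hdbl⟩, -⟩, hs⟩, -⟩, -⟩, hall⟩, -⟩ := hc
  have he : ∀ a ∈ [10, 34, 130, 514], ∃ b : Bool, enc (f (dec a)) = a ^^^ (if b then 1365 else 0) := by
    intro a ha
    have h4 : a < 4096 := (by decide : ∀ a ∈ [10, 34, 130, 514], a < 4096) a ha
    rcases hd a ha with e | e
    · exact ⟨false, by rw [e, enc_dec h4]; simp⟩
    · exact ⟨true, by rw [e, enc_add, enc_dec h4, enc_dec (by norm_num)]; rfl⟩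
  obtain ⟨b0, e0⟩ := he 10 (by simp)
  obtain ⟨b1, e1⟩ := he 34 (by simp)
  obtain ⟨b2, e2⟩ := he 130 (by simp)
  obtain ⟨b3, e3⟩ := he 514 (by simp)
  set e : List ℕ := [if b0 then 1365 else 0, if b1 then 1365 else 0, if b2 then 1365 else 0,
    if b3 then 1365 else 0] with hedef
  have hmem : e ∈ signs := by
    rw [hedef]; cases b0 <;> cases b1 <;> cases b2 <;> cases b3 <;> decide
  have him : ([1365, 10, 34, 130, 514] : List ℕ).map (fun b => enc (f (dec b))) =
      [1365, 10 ^^^ e.getD 0 0, 34 ^^^ e.getD 1 0, 130 ^^^ e.getD 2 0, 514 ^^^ e.getD 3 0] := by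
    simp only [List.map_cons, List.map_nil, h1, e0, e1, e2, e3, enc_dec (show 1365 < 4096 by norm_num), hedef]
    rfl
  have h10 : baseD.take 10 = dbl [1365, 10, 34, 130, 514] := by decide +kernel
  have hx := mem_candI hf.2.1 hf.2.2.2 (r := 6) (by norm_num) hs (prev := baseD.take 10)
  have ext := coded_of_base hf.1 hB
  rw [← hdbl, map_dbl hlin _ (by decide),
    show ([1365, 10, 34, 130, 514, 6] : List ℕ) = [1365, 10, 34, 130, 514] ++ [6] from rfl,
    List.map_append, him, List.map_cons, List.map_nil] at ext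
  rw [h10, map_dbl hlin _ (by decide), him] at hx
  have hin : cmp (dbl ([1365, 10 ^^^ e.getD 0 0, 34 ^^^ e.getD 1 0, 130 ^^^ e.getD 2 0, 514 ^^^ e.getD 3 0] ++
      [enc (f (dec 6))])) baseDI ∈ candD := by
    rw [candD, List.mem_flatMap]
    refine ⟨e, hmem, List.mem_map.2 ⟨_, ?_, rfl⟩⟩
    rw [h10]; exact hx
  have := List.all_eq_true.1 hall _ hin
  rw [no_moved hf ext, Bool.or_false, List.contains_iff_mem] at this
  exact ⟨_, this, ext⟩

theorem fixU {f : Equiv.Perm V} (hf : Good f) (hlin : ∀ u, f (om u) = om (f u))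
    (h : ∀ a ∈ [85, 301, 1063], f (dec a) = dec a) :
    (∃ l ∈ RL, Coded f l) ∨ ∃ l ∈ RT, Coded f l := by
  have hc := cand_check
  simp only [Bool.and_eq_true, beq_iff_eq] at hc
  obtain ⟨⟨⟨⟨⟨⟨⟨⟨-, hB⟩, -⟩, hdbl⟩, hs6⟩, hs5⟩, hs17⟩, -⟩, hall⟩ := hc
  have him : ([85, 301, 1063] : List ℕ).map (fun b => enc (f (dec b))) = [85, 301, 1063] := by
    simp [h, enc_dec (show 85 < 4096 by norm_num), enc_dec (show 301 < 4096 by norm_num),
      enc_dec (show 1063 < 4096 by norm_num)]
  have t6 : baseU.take 6 = dbl [85, 301, 1063] := by decide +kernel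
  have t8 : baseU.take 8 = dbl ([85, 301, 1063] ++ [5]) := by decide +kernel
  have t10 : baseU.take 10 = dbl ([85, 301, 1063] ++ [5] ++ [6]) := by decide +kernel
  have dapp : ∀ a b : List ℕ, dbl (a ++ b) = dbl a ++ dbl b := fun a b => List.flatMap_append
  have hx1 := mem_candI hf.2.1 hf.2.2.2 (r := 5) (by norm_num) hs5 (prev := baseU.take 6)
  rw [t6, map_dbl hlin _ (by decide), him] at hx1
  have hx2 := mem_candI hf.2.1 hf.2.2.2 (r := 6) (by norm_num) hs6 (prev := baseU.take 8)
  rw [t8, map_dbl hlin _ (by decide), List.map_append, him, dapp, List.map_cons, List.map_nil] at hx2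
  have hx3 := mem_candI hf.2.1 hf.2.2.2 (r := 17) (by norm_num) hs17 (prev := baseU.take 10)
  rw [t10, map_dbl hlin _ (by decide), List.map_append, List.map_append, him, dapp, dapp] at hx3
  simp only [List.map_cons, List.map_nil] at hx3
  have ext := coded_of_base hf.1 hB
  rw [← hdbl, map_dbl hlin _ (by decide),
    show ([85, 301, 1063, 5, 6, 17] : List ℕ) = [85, 301, 1063] ++ [5] ++ [6] ++ [17] from rfl,
    List.map_append, List.map_append, List.map_append, him, dapp, dapp, dapp] at ext
  simp only [List.map_cons, List.map_nil] at ext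
  have hin : cmp (dbl [85, 301, 1063] ++ dbl [enc (f (dec 5))] ++ dbl [enc (f (dec 6))] ++
      dbl [enc (f (dec 17))]) baseUI ∈ candU := by
    simp only [candU, List.mem_flatMap, List.mem_map]
    refine ⟨enc (f (dec 5)), ?_, enc (f (dec 6)), ?_, enc (f (dec 17)), ?_, ?_⟩
    · rw [t6]; exact hx1
    · rw [t6, t8, dapp]; exact hx2
    · rw [t6, t10, dapp, dapp]; exact hx3
    · rw [t6]
  have := List.all_eq_true.1 hall _ hin
  rw [no_moved hf ext, Bool.or_false, Bool.or_eq_true, List.contains_iff_mem, List.contains_iff_mem] at this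
  rcases this with e | e
  · exact Or.inl ⟨_, e, ext⟩
  · exact Or.inr ⟨_, e, ext⟩

end Cfsg.Agent.LFType10
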