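import Cfsg.Agent.LFType10.Scalar
import Cfsg.Agent.LFType10.ClassData

/-!
Checks on the certificates for the classes of the outer elements.
-/
set_option autoImplicit false

namespace Cfsg.Agent.LFType10

open Cfsg.Agent.LFType23

/-- The listed map with the given index. -/
def RLi (i : ℕ) : List ℕ := RL.getD i []

/-- The images of a listed map plus one. -/
def inn (i : ℕ) : List ℕ := innerL.getD i []

/-- The monomial generator with the given index. -/
def gUi (j : ℕ) : List ℕ := gU.getD j idL

/-- The transporting map. -/
def transL : List ℕ := wordL allGens transW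

theorem class_inner_check : ((List.range 16).all fun i => i == 0 ||
    (((List.range (inn i).length).all fun k =>
      let w := (inn i).getD k 0
      let n := (innerW.getD i []).getD k 0
      Ulist.contains w && decide (n < 4096) && (n ^^^ app (RLi i) n == w) &&
        ((bfN n w == bfN n (app omL w)) == !(smallB w))) &&
    Ulist.all fun w => (inn i).contains w ||
      (fixB.getD i []).any fun y => decide (y < 4096) && app (RLi i) y == y && !(bfN y w))) = true := by
  decide +kernel

/-- A step in the orbit certificate of outer states. -/
def stepB (k : ℕ) : Bool :=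
  let s := outSt.getD k (0, 0, 0, 0)
  decide (1 ≤ s.1 ∧ s.1 < 16) && Ulist.contains s.2.1 && !(inn s.1).contains s.2.1 &&
    (k == 0 ||
      (decide (s.2.2.1 < k) &&
        let t := outSt.getD s.2.2.1 (0, 0, 0, 0)
        if s.2.2.2 < 2 then
          LFType10.cmp (RLi s.1) (gUi s.2.2.2) == LFType10.cmp (gUi s.2.2.2) (RLi t.1) &&
            app (gUi s.2.2.2) t.2.1 == s.2.1
        else s.1 == t.1 && (inn s.1).contains (s.2.1 ^^^ t.2.1)))

theorem outer_check : (((List.range outSt.length).all stepB) &&
    (let keys := outSt.map fun s => (s.1, s.2.1)
     (List.range 16).all fun i => i == 0 || Ulist.all fun w => (inn i).contains w || keys.contains (i, w))) =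
    true := by decide +kernel

theorem small_check : (((List.range smallSt.length).all fun k =>
      let s := smallSt.getD k (0, 0, 0)
      Ulist.contains s.1 && smallB s.1 && (k == 0 ||
        (decide (s.2.1 < k) && decide (s.2.2 < 2) && app (gUi s.2.2) (smallSt.getD s.2.1 (0, 0, 0)).1 == s.1))) &&
    (Ulist.all fun w => !smallB w || (smallSt.map fun s => s.1).contains w) &&
    (gU.length == 2) && (gU.all fun g => LFType10.cmp g omL == LFType10.cmp omL g)) = true := by
  decide +kernel

theorem dlist_check₁ : ∀ d ∈ Dlist, ∃ a b, enc (dSet (rot 1 (1, 0)) a b) = d := by decide +kernel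

theorem dlist_check₂ : ∀ a b, enc (dSet (rot 1 (1, 0)) a b) ∈ Dlist := by decide +kernel

theorem trans_check : (app transL 1365 == 85 &&
    LFType10.cmp (wordL allGens transWI) transL == idL && bnd transL &&
    (Dlist.all fun d => DvL.contains (app transL d)) && (DvL.all fun d => (Dlist.map (app transL)).contains d) &&
    (DvL.all fun d => decide (d < 4096)) && Ulist.contains 85 &&
    RWi == [0, 1, 8, 11] &&
    ((List.range 16).all fun i => RWi.contains i || !(DvL.all fun d => app (RLi i) d == d || app (RLi i) d == d ^^^ 85)) &&
    UDL == Ulist.filter DvL.contains && UDL.Nodup && UDL.length == 16 &&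
    (UDL.filter smallB).length == 6 && (Ulist.filter smallB).length == 18 &&
    (([1, 8, 11] : List ℕ).all fun i => Ulist.all fun w =>
      (DvL.any fun d => app (RLi i) d == d && !(bfN w d)) ||
        (UDL.filter fun u => (inn i).contains (w ^^^ u)).length == 8)) = true := by decide +kernel

end Cfsg.Agent.LFType10
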