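import Cfsg.Agent.LFType10.Short

/-!
Counting in the intersection with a conjugate of the extraspecial subgroup determines the noncentral class in
the large elementary abelian subgroup; it is one class of the normaliser.
-/
set_option autoImplicit false
set_option linter.constructorNameAsVariable false

namespace Cfsg.Agent.LFType10

open Cfsg.Agent.LFType23

variable {G : Type*} [Group G] [Finite G] {z : G} {Q : Subgroup G} (C : Ctx z Q)

theorem trans_facts : app transL 1365 = 85 ∧ 85 ∈ Ulist ∧ (∀ d ∈ Dlist, app transL d ∈ DvL) ∧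
    (∀ d ∈ DvL, d ∈ Dlist.map (app transL)) ∧ ∀ d ∈ Dlist, d < 4096 := by decide +kernel

theorem RWi_eq : RWi = [0, 1, 8, 11] := by decide +kernel

theorem DvL_lt : ∀ d ∈ DvL, d < 4096 := by decide +kernel

theorem RWi_check : ((List.range 16).all fun i => RWi.contains i ||
    !(DvL.all fun d => app (RLi i) d == d || app (RLi i) d == d ^^^ 85)) = true := by decide +kernel

theorem UDL_facts : UDL = Ulist.filter DvL.contains ∧ UDL.Nodup ∧ UDL.length = 16 ∧ (0 : ℕ) ∈ UDL ∧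
    (UDL.filter smallB).length = 6 ∧ (Ulist.filter smallB).length = 18 ∧ Ulist.Nodup ∧
    (Ulist.filter smallB).Nodup ∧ Ulist.length = 64 := by decide +kernel

theorem coset_check : (([1, 8, 11] : List ℕ).all fun i => Ulist.all fun w =>
    (DvL.any fun d => app (RLi i) d == d && !(bfN w d)) ||
      (UDL.filter fun u => (inn i).contains (w ^^^ u)).length == 8) = true := by decide +kernel

theorem exists_trans : ∃ m ∈ Nt C, m * z * m⁻¹ ∈ Q ∧ C.F.mu (m * z * m⁻¹) = dec 85 ∧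
    (∀ x ∈ Q, x ∈ Q.map (MulAut.conj m).toMonoidHom → enc (C.F.mu x) ∈ DvL) ∧
    (∀ d ∈ DvL, ∃ x ∈ Q, x ∈ Q.map (MulAut.conj m).toMonoidHom ∧ C.F.mu x = dec d) := by
  obtain ⟨happ, h85, hD1, hD2, hD0⟩ := trans_facts
  obtain ⟨h, hh, he⟩ := realL_word (realL_allGens C.hcl) transW
  have hs : C.s ∈ Q := C.S.link.mem
  set s' := h * C.s * h⁻¹ with hs'
  have hsQ : s' ∈ Q := C.F.normal h hh _ hs
  have hsmu : C.F.mu s' = dec 85 := by
    rw [hs', C.F.pi_mu h hh _ hs, C.S.vec, he.apply, Ctx.enc_one6]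
    exact congrArg dec happ
  have hsU : s' ∈ Ut C.F := ⟨hsQ, by rw [hsmu]; exact inU_dec h85⟩
  have hzs : h * C.g * z * (h * C.g)⁻¹ = s' := by rw [hs', ← C.hg]; group
  obtain ⟨m, hm, hme⟩ := fusion C (z_mem_Ct C) (g := h * C.g) (by rw [hzs]; exact Ut_le_Ct C.F hsU)
  rw [hzs] at hme
  set c := (h * C.g)⁻¹ * m with hc'
  have hcz : Commute c z := by
    show c * z = z * c
    rw [hc']
    calc (h * C.g)⁻¹ * m * z = (h * C.g)⁻¹ * (m * z * m⁻¹) * m := by group
      _ = z * ((h * C.g)⁻¹ * m) := by rw [hme, ← hzs]; group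
  have hR : Q.map (MulAut.conj m).toMonoidHom = C.R.map (MulAut.conj h).toMonoidHom := by
    have hmc : m = h * C.g * c := by rw [hc']; group
    have e1 : Q.map (MulAut.conj m).toMonoidHom =
        (Q.map (MulAut.conj c).toMonoidHom).map (MulAut.conj (h * C.g)).toMonoidHom := by
      rw [Subgroup.map_map]
      congr 1
      ext x
      simp [hmc, MulAut.conj_apply, mul_assoc]
    rw [e1, conj_Q C hcz, C.hR, Subgroup.map_map]
    congr 1
    ext x
    simp [MulAut.conj_apply, mul_assoc]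
  have hdb : ∀ u : V, u ∈ C.S.link.dbar ↔ enc u ∈ Dlist := fun u => by
    rw [C.S.mem_dbar_iff]
    refine ⟨fun ⟨a, b, e⟩ => e ▸ dlist_check₂ a b, fun hu => ?_⟩
    obtain ⟨a, b, e⟩ := dlist_check₁ _ hu
    exact ⟨a, b, enc_injective e⟩
  refine ⟨m, hm, hme ▸ hsQ, by rw [hme, hsmu], fun x hx hxR => ?_, fun d hd => ?_⟩
  · rw [hR] at hxR
    obtain ⟨y, hy, rfl⟩ := hxR
    change h * y * h⁻¹ ∈ Q at hx
    show enc (C.F.mu (h * y * h⁻¹)) ∈ DvL
    have hyQ : y ∈ Q := by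
      have := C.F.normal h⁻¹ hh.inv_left _ hx
      rwa [show h⁻¹ * (h * y * h⁻¹) * h⁻¹⁻¹ = y by group] at this
    have hd : enc (C.F.mu y) ∈ Dlist := (hdb _).1 ⟨y, hyQ, hy, rfl⟩
    rw [C.F.pi_mu h hh y hyQ, he]
    exact hD1 _ hd
  · obtain ⟨d0, hd0, rfl⟩ := List.mem_map.1 (hD2 d hd)
    have h0 : d0 < 4096 := hD0 _ hd0
    obtain ⟨y, hyQ, hyR, hye⟩ := (hdb (dec d0)).2 (by rw [enc_dec h0]; exact hd0)
    refine ⟨h * y * h⁻¹, C.F.normal h hh y hyQ, by rw [hR]; exact ⟨y, hyR, rfl⟩, ?_⟩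
    rw [C.F.pi_mu h hh y hyQ, hye, he.apply, enc_dec h0]
    rfl

/-- The number of signs giving a noncentral element. -/
noncomputable def nu (i n : ℕ) : ℕ := by
  classical exact (Finset.univ.filter fun e : ZMod 2 => IsT C (el C (dec n) e (pf C i))).card

/-- The parameters of the subspace part. -/
def Dom0 : Finset (ℕ × ℕ × ZMod 2) := ({0} : Finset ℕ) ×ˢ (Ulist.toFinset ×ˢ Finset.univ)

theorem mem_Dom0 {t : ℕ × ℕ × ZMod 2} : t ∈ Dom0 ↔ t.1 = 0 ∧ t.2.1 ∈ Ulist := by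
  unfold Dom0
  rw [Finset.mem_product, Finset.mem_product, Finset.mem_singleton, List.mem_toFinset]
  exact ⟨fun h => ⟨h.1, h.2.1⟩, fun h => ⟨h.1, h.2, Finset.mem_univ _⟩⟩

theorem card_Dom0 : Dom0.card = 128 := by
  unfold Dom0
  rw [Finset.card_product, Finset.card_product, Finset.card_singleton, Finset.card_univ, ZMod.card,
    List.toFinset_card_of_nodup UDL_facts.2.2.2.2.2.2.1, UDL_facts.2.2.2.2.2.2.2.2]

theorem card_small_Dom0 : (Dom0.filter fun t => smallB t.2.1 = true).card = 36 := by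
  have e : (Dom0.filter fun t => smallB t.2.1 = true) =
      ({0} : Finset ℕ) ×ˢ ((Ulist.filter smallB).toFinset ×ˢ Finset.univ) := by
    ext t
    rw [Finset.mem_filter, mem_Dom0, Finset.mem_product, Finset.mem_product, Finset.mem_singleton,
      List.mem_toFinset, List.mem_filter]
    exact ⟨fun h => ⟨h.1.1, ⟨h.1.2, h.2⟩, Finset.mem_univ _⟩, fun h => ⟨⟨h.1, h.2.1.1⟩, h.2.1.2⟩⟩
  rw [e, Finset.card_product, Finset.card_product, Finset.card_singleton, Finset.card_univ, ZMod.card,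
    List.toFinset_card_of_nodup UDL_facts.2.2.2.2.2.2.2.1, UDL_facts.2.2.2.2.2.1]

/-- A coset of the common part of the two subspaces. -/
def cosetS (w : ℕ) : Finset ℕ := UDL.toFinset.image (w ^^^ ·)

theorem mem_cosetS {w n : ℕ} : n ∈ cosetS w ↔ ∃ u ∈ UDL, w ^^^ u = n := by
  unfold cosetS
  rw [Finset.mem_image]
  exact exists_congr fun u => by rw [List.mem_toFinset]

theorem card_cosetS (w : ℕ) : (cosetS w).card = 16 := by
  unfold cosetS
  rw [Finset.card_image_of_injective _ (fun a b h => Nat.xor_right_injective h),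
    List.toFinset_card_of_nodup UDL_facts.2.1, UDL_facts.2.2.1]

theorem sum_cosetS (w : ℕ) (f : ℕ → ℕ) : ∑ n ∈ cosetS w, f n = ∑ u ∈ UDL.toFinset, f (w ^^^ u) := by
  unfold cosetS
  rw [Finset.sum_image fun a _ b _ h => Nat.xor_right_injective h]

/-- The parameters with index in the four listed ones and vector in a coset. -/
def Pset (w : ℕ → ℕ) : Finset (ℕ × ℕ × ZMod 2) :=
  ({0, 1, 8, 11} : Finset ℕ).biUnion fun i => ({i} : Finset ℕ) ×ˢ (cosetS (w i) ×ˢ Finset.univ)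

theorem mem_Pset {w : ℕ → ℕ} {t : ℕ × ℕ × ZMod 2} :
    t ∈ Pset w ↔ t.1 ∈ RWi ∧ t.2.1 ∈ cosetS (w t.1) := by
  unfold Pset
  simp only [Finset.mem_biUnion, Finset.mem_product, Finset.mem_singleton, Finset.mem_univ, and_true, RWi_eq]
  constructor
  · rintro ⟨i, hi, rfl, h⟩
    exact ⟨by simpa using hi, h⟩
  · rintro ⟨hi, h⟩
    exact ⟨t.1, by simpa using hi, rfl, h⟩

theorem card_filter_Pset (w : ℕ → ℕ) (T : ℕ × ℕ × ZMod 2 → Prop) [DecidablePred T] :
    ((Pset w).filter T).card =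
      ∑ i ∈ ({0, 1, 8, 11} : Finset ℕ), ∑ n ∈ cosetS (w i), (Finset.univ.filter fun e => T (i, n, e)).card := by
  unfold Pset
  have hd : ∀ a b : ℕ, a ≠ b → Disjoint (({a} : Finset ℕ) ×ˢ (cosetS (w a) ×ˢ (Finset.univ : Finset (ZMod 2))))
      (({b} : Finset ℕ) ×ˢ (cosetS (w b) ×ˢ (Finset.univ : Finset (ZMod 2)))) := by
    intro a b hab
    rw [Finset.disjoint_left]
    intro t ha hb
    simp only [Finset.mem_product, Finset.mem_singleton] at ha hb
    exact hab (ha.1.symm.trans hb.1)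
  rw [Finset.filter_biUnion, Finset.card_biUnion fun a _ b _ hab =>
      Finset.disjoint_of_subset_left (Finset.filter_subset _ _)
        (Finset.disjoint_of_subset_right (Finset.filter_subset _ _) (hd a b hab))]
  refine Finset.sum_congr rfl fun i _ => ?_
  rw [Finset.card_filter, Finset.sum_product, Finset.sum_singleton, Finset.sum_product]
  exact Finset.sum_congr rfl fun n _ => (Finset.card_filter _ _).symm

theorem card_Pset (w : ℕ → ℕ) : (Pset w).card = 128 := by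
  classical
  rw [← Finset.filter_true_of_mem (s := Pset w) (p := fun _ => True) fun _ _ => trivial, card_filter_Pset]
  simp only [Finset.filter_true_of_mem (fun _ _ => trivial), Finset.card_univ, ZMod.card, Finset.sum_const,
    card_cosetS, smul_eq_mul]
  rfl

attribute [irreducible] Dom0 cosetS Pset

theorem el_zero_isT {n : ℕ} (hn : n ∈ Ulist) (e : ZMod 2) :
    IsT C (el C (dec n) e (pf C 0)) ↔ smallB n = true := by
  have h0 : C.F.mu (zp C e) = 0 := by
    unfold zp; split_ifs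
    exacts [C.F.mu_one, C.F.mu_z]
  rw [pf_zero, el, mul_one, isT_Ut C (mul_mem (pl_spec C (inU_dec hn)).1 (zp_mem_Ut C e)), small_iff,
    C.F.mu_mul _ (pl_spec C (inU_dec hn)).1.1 _ (zp_mem_Ut C e).1, (pl_spec C (inU_dec hn)).2.1, h0, add_zero,
    enc_dec (enc_lt_U hn)]

theorem nu_zero {n : ℕ} (hn : n ∈ Ulist) : nu C 0 n = if smallB n then 2 else 0 := by
  classical
  unfold nu
  split_ifs with h
  · rw [Finset.filter_true_of_mem fun e _ => (el_zero_isT C hn e).2 h]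
    rfl
  · rw [Finset.filter_false_of_mem fun e _ => fun ht => h ((el_zero_isT C hn e).1 ht)]
    rfl

theorem nu_base {i : ℕ} (hi : 1 ≤ i) (hi' : i < 16) : nu C i 0 = nu C 1 0 := by
  classical
  obtain ⟨k, -, -, hF, hcode, hel⟩ := one_move C hi hi'
  obtain ⟨d, hd⟩ := Fx_pm C hF (pf_spec C hi').1 hcode (pf_spec C hi').2
  unfold nu
  refine Finset.card_bij (fun e _ => e + d) (fun e he => ?_) (fun a _ b _ h => add_right_cancel h) fun e he => ?_
  · rw [Finset.mem_filter] at he ⊢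
    refine ⟨Finset.mem_univ _, ?_⟩
    have h := he.2
    rwa [hd, dec_zero, ← hel, isT_conj, ← dec_zero] at h
  · refine ⟨e + d, ?_, by rw [add_assoc, (by decide : ∀ x : ZMod 2, x + x = 0) d, add_zero]⟩
    rw [Finset.mem_filter] at he ⊢
    refine ⟨Finset.mem_univ _, ?_⟩
    rw [hd, dec_zero, add_assoc, (by decide : ∀ x : ZMod 2, x + x = 0) d, add_zero, ← hel, isT_conj, ← dec_zero]
    exact he.2

theorem nu_inner {i n : ℕ} (hi : 1 ≤ i) (hi' : i < 16) (hn : n ∈ Ulist) (hin : n ∈ inn i) :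
    nu C i n = nu C i 0 := by
  classical
  have key : ∀ e, IsT C (el C (dec n) e (pf C i)) ↔ IsT C (el C 0 (e + sg (dec n)) (pf C i)) :=
    inner_isT C hi hi' (pf_spec C hi').1 (pf_spec C hi').2 (by rwa [enc_dec (enc_lt_U hn)])
  unfold nu
  refine Finset.card_bij (fun e _ => e + sg (dec n)) (fun e he => ?_) (fun a _ b _ h => add_right_cancel h)
    fun e he => ?_
  · rw [Finset.mem_filter] at he ⊢
    exact ⟨Finset.mem_univ _, by rw [dec_zero]; exact (key e).1 he.2⟩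
  · have hs := (by decide : ∀ x : ZMod 2, x + x = 0) (sg (dec n))
    refine ⟨e + sg (dec n), ?_, by rw [add_assoc, hs, add_zero]⟩
    rw [Finset.mem_filter] at he ⊢
    refine ⟨Finset.mem_univ _, (key _).2 ?_⟩
    rw [add_assoc, hs, add_zero, ← dec_zero]
    exact he.2

include C in
theorem conj_shift (m : G) {a x : G} (ha : a ∈ Q.map (MulAut.conj m).toMonoidHom)
    (hx : x ∈ Q.map (MulAut.conj m).toMonoidHom) :
    a * x * a⁻¹ = x ∨ a * x * a⁻¹ = x * (m * z * m⁻¹) := by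
  obtain ⟨a, ha, rfl⟩ := ha
  obtain ⟨x, hx, rfl⟩ := hx
  show m * a * m⁻¹ * (m * x * m⁻¹) * (m * a * m⁻¹)⁻¹ = m * x * m⁻¹ ∨
    m * a * m⁻¹ * (m * x * m⁻¹) * (m * a * m⁻¹)⁻¹ = m * x * m⁻¹ * (m * z * m⁻¹)
  rw [show m * a * m⁻¹ * (m * x * m⁻¹) * (m * a * m⁻¹)⁻¹ = m * (a * x * a⁻¹) * m⁻¹ by group, C.F.comm a ha x hx]
  split_ifs
  · exact Or.inl rfl
  · right; group

theorem mu_zp (e : ZMod 2) : C.F.mu (zp C e) = 0 := by
  unfold zp; split_ifs
  exacts [C.F.mu_one, C.F.mu_z]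

theorem mu_pz {n : ℕ} (hn : n ∈ Ulist) (e : ZMod 2) :
    C.F.mu (pl C (dec n) * zp C e) = dec n := by
  rw [C.F.mu_mul _ (pl_spec C (inU_dec hn)).1.1 _ (zp_mem_Ut C e).1, (pl_spec C (inU_dec hn)).2.1, mu_zp,
    add_zero]

/-- The conditions on a parameter of an element of the conjugate. -/
theorem inter_cond {m : G} (hsQ : m * z * m⁻¹ ∈ Q) (hsmu : C.F.mu (m * z * m⁻¹) = dec 85)
    (hD : ∀ x ∈ Q, x ∈ Q.map (MulAut.conj m).toMonoidHom → enc (C.F.mu x) ∈ DvL)
    (hD' : ∀ d ∈ DvL, ∃ x ∈ Q, x ∈ Q.map (MulAut.conj m).toMonoidHom ∧ C.F.mu x = dec d)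
    {i n : ℕ} {e : ZMod 2} (hi : i < 16) (hn : n ∈ Ulist)
    (ha : el C (dec n) e (pf C i) ∈ Q.map (MulAut.conj m).toMonoidHom) :
    i ∈ RWi ∧ (i = 0 → n ∈ UDL) ∧ ∀ d ∈ DvL, app (RLi i) d = d → bfN n d = true := by
  obtain ⟨hp, hpe⟩ := pf_spec C hi
  have hcode := el_code C (inU_dec hn) e hp hpe
  have haz := comm_z (el_mem C (inU_dec hn) e hp)
  have hq := mul_mem (pl_spec C (inU_dec hn)).1 (zp_mem_Ut C e)
  refine ⟨?_, fun h0 => ?_, fun d hd hfix => ?_⟩
  · have h := List.all_eq_true.1 RWi_check i (List.mem_range.2 hi)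
    simp only [Bool.or_eq_true, List.contains_iff_mem, Bool.not_eq_true'] at h
    refine h.resolve_right fun hf => ?_
    rw [List.all_eq_false] at hf
    obtain ⟨d, hd, hdf⟩ := hf
    apply hdf
    obtain ⟨x, hxQ, hxR, hxe⟩ := hD' d hd
    have e1 : enc (C.F.mu (el C (dec n) e (pf C i) * x * (el C (dec n) e (pf C i))⁻¹)) = app (RLi i) d := by
      rw [C.F.pi_mu _ haz x hxQ, hxe, hcode, enc_dec (DvL_lt d hd)]
    simp only [Bool.or_eq_true, beq_iff_eq]
    rcases conj_shift C m ha hxR with h | h <;> rw [h] at e1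
    · left; rw [← e1, hxe, enc_dec (DvL_lt d hd)]
    · right
      rw [← e1, C.F.mu_mul x hxQ _ hsQ, hsmu, hxe, enc_add, enc_dec (DvL_lt d hd), enc_dec (by norm_num)]
  · subst h0
    rw [pf_zero, el, mul_one] at ha
    have h := hD _ hq.1 ha
    rw [mu_pz C hn, enc_dec (enc_lt_U hn)] at h
    rw [UDL_facts.1, List.mem_filter]
    exact ⟨hn, List.contains_iff_mem.2 h⟩
  · obtain ⟨x, hxQ, hxR, hxe⟩ := hD' d hd
    have hpx : pf C i * x * (pf C i)⁻¹ = x := fixed_commute C hp hxQ (by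
      rw [hxe, hpe.apply, enc_dec (DvL_lt d hd), hfix])
    have hax : el C (dec n) e (pf C i) * x * (el C (dec n) e (pf C i))⁻¹ =
        if bf (dec n) (dec d) = 0 then x else x * z := by
      rw [el, show pl C (dec n) * zp C e * pf C i * x * (pl C (dec n) * zp C e * pf C i)⁻¹ =
        pl C (dec n) * zp C e * (pf C i * x * (pf C i)⁻¹) * (pl C (dec n) * zp C e)⁻¹ by group, hpx,
        C.F.comm _ hq.1 x hxQ, mu_pz C hn, hxe]
    rw [bfN, decide_eq_true_eq]
    by_contra hb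
    rw [if_neg hb] at hax
    rcases conj_shift C m ha hxR with h | h <;> rw [h] at hax
    · exact C.F.z_ne (mul_eq_left.1 hax.symm)
    · have h2 := congrArg (fun g : G => enc (C.F.mu g)) (mul_left_cancel hax)
      simp only [hsmu, C.F.mu_z, enc_zero, enc_dec (show 85 < 4096 by norm_num)] at h2
      omega

theorem inter_diff {m : G} (hD : ∀ x ∈ Q, x ∈ Q.map (MulAut.conj m).toMonoidHom → enc (C.F.mu x) ∈ DvL)
    {i n n' : ℕ} {e e' : ZMod 2} (hi : i < 16) (hn : n ∈ Ulist) (hn' : n' ∈ Ulist)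
    (ha : el C (dec n) e (pf C i) ∈ Q.map (MulAut.conj m).toMonoidHom)
    (ha' : el C (dec n') e' (pf C i) ∈ Q.map (MulAut.conj m).toMonoidHom) : n ^^^ n' ∈ UDL := by
  have hpp : pf C i * pf C i = 1 := elementary_Ct C _ (pf_spec C hi).1.1
  have hq := mul_mem (pl_spec C (inU_dec hn)).1 (zp_mem_Ut C e)
  have hq' := mul_mem (pl_spec C (inU_dec hn')).1 (zp_mem_Ut C e')
  have hmul := mul_mem ha ha'
  have e3 : ∀ a p b : G, p * b = b * p → p * p = 1 → a * p * (b * p) = a * b := fun a p b h1 h2 => by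
    rw [mul_assoc a p, ← mul_assoc p b p, h1, mul_assoc b p p, h2, mul_one]
  rw [el, el, e3 _ _ _ (Ct_comm C _ (pf_spec C hi).1.1 _ (Ut_le_Ct C.F hq')) hpp] at hmul
  have h := hD _ (mul_mem hq hq').1 hmul
  rw [C.F.mu_mul _ hq.1 _ hq'.1, mu_pz C hn, mu_pz C hn', enc_add, enc_dec (enc_lt_U hn),
    enc_dec (enc_lt_U hn')] at h
  rw [UDL_facts.1, List.mem_filter]
  refine ⟨?_, List.contains_iff_mem.2 h⟩
  have hU := inU_add (inU_dec hn) (inU_dec hn')
  rwa [InU, enc_add, enc_dec (enc_lt_U hn), enc_dec (enc_lt_U hn')] at hU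

theorem sum_coset_zero : ∑ n ∈ cosetS 0, nu C 0 n = 12 := by
  obtain ⟨hUD, hnd, -, -, h6, -⟩ := UDL_facts
  rw [sum_cosetS, Finset.sum_congr rfl fun n hn => (congrArg (nu C 0) (Nat.zero_xor n)).trans (nu_zero C
    (List.mem_of_mem_filter (hUD ▸ List.mem_toFinset.1 hn : n ∈ Ulist.filter DvL.contains))),
    ← Finset.sum_filter, Finset.sum_const, smul_eq_mul, ← List.toFinset_filter,
    List.toFinset_card_of_nodup (hnd.filter _)]
  simp [h6]

theorem nu_outer {c : Prop} [Decidable c] (hc : ∀ i, 1 ≤ i → i < 16 → ∀ w : V, InU w → enc w ∉ inn i →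
    ∀ p, Fx C p → Coded (C.F.pi p) (RLi i) → ∀ e, (IsT C (el C w e p) ↔ c))
    {i n : ℕ} (hi : 1 ≤ i) (hi' : i < 16) (hn : n ∈ Ulist) (hno : n ∉ inn i) :
    nu C i n = if c then 2 else 0 := by
  classical
  have key : ∀ e, IsT C (el C (dec n) e (pf C i)) ↔ c := fun e =>
    hc i hi hi' _ (inU_dec hn) (by rwa [enc_dec (enc_lt_U hn)]) _ (pf_spec C hi').1 (pf_spec C hi').2 e
  unfold nu
  split_ifs with h
  · rw [Finset.filter_true_of_mem fun e _ => (key e).2 h]; rfl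
  · rw [Finset.filter_false_of_mem fun e _ => fun ht => h ((key e).1 ht)]; rfl

theorem sum_coset {c : Prop} [Decidable c] (hc : ∀ i, 1 ≤ i → i < 16 → ∀ w : V, InU w → enc w ∉ inn i →
    ∀ p, Fx C p → Coded (C.F.pi p) (RLi i) → ∀ e, (IsT C (el C w e p) ↔ c))
    {i w : ℕ} (hi : i ∈ ([1, 8, 11] : List ℕ)) (hw : w ∈ Ulist)
    (hperp : ∀ d ∈ DvL, app (RLi i) d = d → bfN w d = true) :
    ∑ n ∈ cosetS w, nu C i n = 8 * nu C 1 0 + 8 * (if c then 2 else 0) := by
  classical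
  obtain ⟨hUD, hnd, hlen, -⟩ := UDL_facts
  obtain ⟨h1, h16⟩ : 1 ≤ i ∧ i < 16 := (by decide : ∀ j ∈ ([1, 8, 11] : List ℕ), 1 ≤ j ∧ j < 16) i hi
  have h8 := List.all_eq_true.1 (List.all_eq_true.1 coset_check i hi) _ hw
  simp only [Bool.or_eq_true, List.any_eq_true, Bool.and_eq_true, beq_iff_eq, Bool.not_eq_true'] at h8
  have h8' := h8.resolve_left fun ⟨d, hd, hfix, hb⟩ => by
    rw [hperp d hd hfix] at hb; exact Bool.noConfusion hb
  have hU : ∀ u ∈ UDL, w ^^^ u ∈ Ulist := fun u hu => by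
    rw [hUD, List.mem_filter] at hu
    have h := inU_add (inU_dec hw) (inU_dec hu.1)
    rwa [InU, enc_add, enc_dec (enc_lt_U hw), enc_dec (enc_lt_U hu.1)] at h
  rw [sum_cosetS,
    ← Finset.sum_filter_add_sum_filter_not UDL.toFinset (fun u => (inn i).contains (w ^^^ u) = true)]
  have e1 : (UDL.toFinset.filter fun u => (inn i).contains (w ^^^ u) = true).card = 8 := by
    rw [← List.toFinset_filter, List.toFinset_card_of_nodup (hnd.filter _)]
    simpa using h8'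
  have e2 : (UDL.toFinset.filter fun u => ¬ (inn i).contains (w ^^^ u) = true).card = 8 := by
    have h := Finset.card_filter_add_card_filter_not (s := UDL.toFinset) (fun u => (inn i).contains (w ^^^ u) = true)
    rw [e1, List.toFinset_card_of_nodup hnd, hlen] at h
    omega
  have s1 : ∀ u ∈ UDL.toFinset.filter (fun u => (inn i).contains (w ^^^ u) = true), nu C i (w ^^^ u) = nu C 1 0 :=
    fun u hu => (nu_inner C h1 h16 (hU u (List.mem_toFinset.1 (Finset.mem_filter.1 hu).1))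
      (List.contains_iff_mem.1 (Finset.mem_filter.1 hu).2)).trans (nu_base C h1 h16)
  have s2 : ∀ u ∈ UDL.toFinset.filter (fun u => ¬ (inn i).contains (w ^^^ u) = true),
      nu C i (w ^^^ u) = if c then 2 else 0 :=
    fun u hu => nu_outer C hc h1 h16 (hU u (List.mem_toFinset.1 (Finset.mem_filter.1 hu).1))
      (fun hh => (Finset.mem_filter.1 hu).2 (List.contains_iff_mem.2 hh))
  rw [Finset.sum_congr rfl s1, Finset.sum_congr rfl s2, Finset.sum_const, e1, Finset.sum_const, e2, smul_eq_mul,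
    smul_eq_mul]

/-- The status of the elements with outer vectors, and the number of noncentral lifts. -/
theorem class_count : (∀ i, 1 ≤ i → i < 16 → ∀ n ∈ Ulist, n ∉ inn i → ∀ e, ¬ IsT C (el C (dec n) e (pf C i))) ∧
    (∀ i, 1 ≤ i → i < 16 → ∃! e, IsT C (el C 0 e (pf C i))) ∧
    ∃ m ∈ Nt C, ∃ u ∈ Ut C.F, IsT C u ∧ ∃ t ∈ Dom, 1 ≤ t.1 ∧ par C t = m * u * m⁻¹ := by
  classical
  obtain ⟨m, hm, hsQ, hsmu, hD, hD'⟩ := exists_trans C
  obtain ⟨c, hcout⟩ := outer_const C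
  -- the image of the subspace part
  have hex : ∀ t ∈ Dom0, ∃ t' ∈ Dom, par C t' = m * par C t * m⁻¹ ∧
      par C t' ∈ Q.map (MulAut.conj m).toMonoidHom := by
    intro t ht
    obtain ⟨h0, hn⟩ := mem_Dom0.1 ht
    have hU : par C t ∈ Ut C.F := by
      rw [par, h0, pf_zero, el, mul_one]
      exact mul_mem (pl_spec C (inU_dec hn)).1 (zp_mem_Ut C _)
    obtain ⟨t', ht', e⟩ := par_surj C (((mem_Nt C).1 hm _).1 (Ut_le_Ct C.F hU))
    exact ⟨t', ht', e, e ▸ ⟨_, hU.1, rfl⟩⟩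
  choose! f hfD hfe hfR using hex
  have hfinj : ∀ t ∈ Dom0, ∀ t' ∈ Dom0, f t = f t' → t = t' := fun t ht t' ht' e => by
    have hD1 : ∀ t ∈ Dom0, t ∈ Dom := fun t ht => mem_Dom.2 ⟨by
      have := (mem_Dom0.1 ht).1; omega, (mem_Dom0.1 ht).2⟩
    have h := (hfe t ht).symm.trans ((congrArg (par C) e).trans (hfe t' ht'))
    exact par_inj C (hD1 t ht) (hD1 t' ht') (mul_left_cancel (mul_right_cancel h))
  obtain ⟨w, hw0, hw⟩ : ∃ w : ℕ → ℕ, w 0 = 0 ∧ ∀ t ∈ Dom0, (f t).1 ≠ 0 →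
      ∃ t' ∈ Dom0, (f t').1 = (f t).1 ∧ w (f t).1 = (f t').2.1 := by
    refine ⟨fun i => if i = 0 then 0 else
      if h : ∃ t' ∈ Dom0, (f t').1 = i then (f (Classical.choose h)).2.1 else 0, if_pos rfl, fun t ht h0 => ?_⟩
    have h : ∃ t' ∈ Dom0, (f t').1 = (f t).1 := ⟨t, ht, rfl⟩
    refine ⟨_, (Classical.choose_spec h).1, (Classical.choose_spec h).2, ?_⟩
    simp only [if_neg h0, dif_pos h]
  have hKP : Dom0.image f ⊆ Pset w := by
    intro s hs
    obtain ⟨t, ht, rfl⟩ := Finset.mem_image.1 hs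
    obtain ⟨hi, hn⟩ := mem_Dom.1 (hfD t ht)
    obtain ⟨h1, h2, -⟩ := inter_cond C hsQ hsmu hD hD' hi hn (hfR t ht)
    refine mem_Pset.2 ⟨h1, mem_cosetS.2 ⟨w (f t).1 ^^^ (f t).2.1, ?_,
      by rw [← Nat.xor_assoc, Nat.xor_self, Nat.zero_xor]⟩⟩
    by_cases h0 : (f t).1 = 0
    · rw [h0, hw0, Nat.zero_xor]; exact h2 h0
    · obtain ⟨t', ht', e1, e2⟩ := hw t ht h0
      have hR' := hfR t' ht'
      rw [par, e1] at hR'
      rw [e2]
      exact inter_diff C hD hi (mem_Dom.1 (hfD t' ht')).2 hn hR' (hfR t ht)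
  have hK : Dom0.image f = Pset w := Finset.eq_of_subset_of_card_le hKP (by
    rw [card_Pset, Finset.card_image_of_injOn fun a ha b hb e => hfinj a ha b hb e, card_Dom0])
  have hT36 : ((Pset w).filter fun t => IsT C (par C t)).card = 36 := by
    rw [← hK, Finset.filter_image, Finset.card_image_of_injOn fun a ha b hb e =>
      hfinj a (Finset.mem_filter.1 ha).1 b (Finset.mem_filter.1 hb).1 e, ← card_small_Dom0]
    refine congrArg Finset.card (Finset.filter_congr fun t ht => ?_)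
    obtain ⟨h0, hn⟩ := mem_Dom0.1 ht
    rw [hfe t ht, isT_conj, par, h0]
    exact el_zero_isT C hn _
  have hperp : ∀ i ∈ ([1, 8, 11] : List ℕ),
      w i ∈ Ulist ∧ ∀ d ∈ DvL, app (RLi i) d = d → bfN (w i) d = true := by
    intro i hi
    have hPi : (i, w i, (0 : ZMod 2)) ∈ Pset w := mem_Pset.2 ⟨by rw [RWi_eq]; simp only [List.mem_cons] at hi ⊢; tauto,
      mem_cosetS.2 ⟨0, UDL_facts.2.2.2.1, Nat.xor_zero _⟩⟩
    rw [← hK] at hPi
    obtain ⟨t, ht, e⟩ := Finset.mem_image.1 hPi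
    obtain ⟨hi', hn⟩ := mem_Dom.1 (hfD t ht)
    have hR := hfR t ht
    rw [e] at hi' hn hR
    exact ⟨hn, (inter_cond C hsQ hsmu hD hD' hi' hn hR).2.2⟩
  have hsum : ((Pset w).filter fun t => IsT C (par C t)).card =
      ∑ i ∈ ({0, 1, 8, 11} : Finset ℕ), ∑ n ∈ cosetS (w i), nu C i n := by
    rw [card_filter_Pset]
    rfl
  rw [hsum, Finset.sum_insert (by decide), Finset.sum_insert (by decide), Finset.sum_insert (by decide),
    Finset.sum_singleton, hw0, sum_coset_zero C,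
    sum_coset C hcout (i := 1) (by simp) (hperp 1 (by simp)).1 (hperp 1 (by simp)).2,
    sum_coset C hcout (i := 8) (by simp) (hperp 8 (by simp)).1 (hperp 8 (by simp)).2,
    sum_coset C hcout (i := 11) (by simp) (hperp 11 (by simp)).1 (hperp 11 (by simp)).2] at hT36
  have hN : nu C 1 0 = 1 ∧ ¬ c := by
    split_ifs at hT36 with h
    · omega
    · exact ⟨by omega, h⟩
  refine ⟨fun i hi hi' n hn hno e ht => hN.2 ((hcout i hi hi' _ (inU_dec hn)
    (by rwa [enc_dec (enc_lt_U hn)]) _ (pf_spec C hi').1 (pf_spec C hi').2 e).1 ht), fun i hi hi' => ?_, ?_⟩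
  · have h := nu_base C hi hi'
    rw [hN.1, nu, Finset.card_eq_one] at h
    obtain ⟨e, he⟩ := h
    have hm : ∀ x, IsT C (el C (dec 0) x (pf C i)) ↔ x = e := fun x => by
      simpa using Finset.ext_iff.1 he x
    simp only [dec_zero] at hm
    exact ⟨e, (hm e).2 rfl, fun x hx => (hm x).1 hx⟩
  · have hpos : ∑ n ∈ cosetS (w 1), nu C 1 n ≠ 0 := by
      rw [sum_coset C hcout (i := 1) (by simp) (hperp 1 (by simp)).1 (hperp 1 (by simp)).2, hN.1]; omega
    obtain ⟨n, hn, hn0⟩ := Finset.exists_ne_zero_of_sum_ne_zero hpos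
    obtain ⟨e, he⟩ := Finset.card_pos.1 (Nat.pos_of_ne_zero hn0)
    have hmem : (1, n, e) ∈ Dom0.image f := by
      rw [hK]
      exact mem_Pset.2 ⟨by rw [RWi_eq]; simp, hn⟩
    obtain ⟨t0, ht0, e0⟩ := Finset.mem_image.1 hmem
    have hT : IsT C (par C (f t0)) := by rw [e0]; exact (Finset.mem_filter.1 he).2
    rw [hfe t0 ht0, isT_conj] at hT
    refine ⟨m, hm, _, ?_, hT, f t0, hfD t0 ht0, by rw [e0], hfe t0 ht0⟩
    rw [par, (mem_Dom0.1 ht0).1, pf_zero, el, mul_one]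
    exact mul_mem (pl_spec C (inU_dec (mem_Dom0.1 ht0).2)).1 (zp_mem_Ut C _)

theorem inner_unique {i : ℕ} (hi : 1 ≤ i) (hi' : i < 16) :
    ∃ e, ∀ x, IsT C (el C 0 x (pf C i)) ↔ x = e :=
  let ⟨e, he, hu⟩ := (class_count C).2.1 i hi hi'
  ⟨e, fun x => ⟨hu x, fun h => h ▸ he⟩⟩

open Classical in
/-- The noncentral lift. -/
noncomputable def av (i : ℕ) : G :=
  if h : 1 ≤ i ∧ i < 16 then el C 0 (Classical.choose (inner_unique C h.1 h.2)) (pf C i) else 1

theorem av_spec {i : ℕ} (hi : 1 ≤ i) (hi' : i < 16) :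
    Fx C (av C i) ∧ Coded (C.F.pi (av C i)) (RLi i) ∧ IsT C (av C i) ∧
      ∀ e, (IsT C (el C 0 e (av C i)) ↔ e = 0) := by
  rw [av, dif_pos ⟨hi, hi'⟩]
  set e0 := Classical.choose (inner_unique C hi hi') with he0
  have h := Classical.choose_spec (inner_unique C hi hi')
  obtain ⟨hp, hpe⟩ := pf_spec C hi'
  have hF : Fx C (el C 0 e0 (pf C i)) := by
    rw [el, pl_zero, one_mul]
    unfold zp; split_ifs
    · rwa [one_mul]
    · exact Fx_mul C (Fx_z C) hp
  refine ⟨hF, el_code C inU_zero _ hp hpe, (h e0).2 rfl, fun e => ?_⟩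
  have : el C 0 e (el C 0 e0 (pf C i)) = el C 0 (e + e0) (pf C i) := by
    simp only [el, pl_zero, one_mul, zp_add, mul_assoc]
  rw [this, h]
  exact (by decide : ∀ a b : ZMod 2, a + b = b ↔ a = 0) e e0

/-- The description of the noncentral class in the large elementary abelian subgroup. -/
theorem isT_iff {i : ℕ} (hi : 1 ≤ i) (hi' : i < 16) {n : ℕ} (hn : n ∈ Ulist) (e : ZMod 2) :
    IsT C (el C (dec n) e (av C i)) ↔ n ∈ inn i ∧ e = sg (dec n) := by
  obtain ⟨hF, hcode, -, hu⟩ := av_spec C hi hi'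
  by_cases h : n ∈ inn i
  · rw [inner_isT C hi hi' hF hcode (by rwa [enc_dec (enc_lt_U hn)]) e, hu]
    simp only [h, true_and]
    exact (by decide : ∀ a b : ZMod 2, a + b = 0 ↔ a = b) e (sg (dec n))
  · simp only [h, false_and, iff_false]
    obtain ⟨hp, hpe⟩ := pf_spec C hi'
    obtain ⟨d, hd⟩ := Fx_pm C hp hF hpe hcode
    rw [hd]
    exact (class_count C).1 i hi hi' n hn h _

theorem av_unique {i : ℕ} (hi : 1 ≤ i) (hi' : i < 16) {p : G} (hp : Fx C p)
    (hpe : Coded (C.F.pi p) (RLi i)) (ht : IsT C p) : p = av C i := by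
  obtain ⟨hF, hcode, -, hu⟩ := av_spec C hi hi'
  obtain ⟨d, hd⟩ := Fx_pm C hF hp hcode hpe
  have h := hd 0 0
  simp only [el, pl_zero, one_mul, zero_add] at h
  have h1 : zp C (0 : ZMod 2) = 1 := if_pos rfl
  rw [h1, one_mul] at h
  rw [h, show zp C d * av C i = el C 0 d (av C i) by simp [el, pl_zero], hu] at ht
  rw [h, ht, h1, one_mul]

/-- All noncentral elements are conjugate under the normaliser. -/
theorem isT_orbit {a b : G} (ha : a ∈ Ct C.F) (hb : b ∈ Ct C.F) (hta : IsT C a) (htb : IsT C b) :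
    ∃ m ∈ Nt C, m * a * m⁻¹ = b := by
  obtain ⟨m0, hm0, u0, hu0, htu0, t0, ht0, h10, e0⟩ := (class_count C).2.2
  have hav : ∀ {x : G}, x ∈ Ct C.F → IsT C x → x ∉ Ut C.F → ∃ m ∈ Nt C, m * av C 1 * m⁻¹ = x := by
    intro x hx htx hxU
    obtain ⟨t, ht, rfl⟩ := par_surj C hx
    obtain ⟨hi', hn⟩ := mem_Dom.1 ht
    have hi : 1 ≤ t.1 := by
      by_contra h
      refine hxU ?_
      rw [par, show t.1 = 0 by omega, pf_zero, el, mul_one]
      exact mul_mem (pl_spec C (inU_dec hn)).1 (zp_mem_Ut C _)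
    obtain ⟨hF, hcode, hT, -⟩ := av_spec C hi hi'
    obtain ⟨d, hd⟩ := Fx_pm C hF (pf_spec C hi').1 hcode (pf_spec C hi').2
    rw [par, hd] at htx ⊢
    obtain ⟨hin, he⟩ := (isT_iff C hi hi' hn _).1 htx
    obtain ⟨-, n, hfac⟩ := inn_fact C hi hi' (w := dec t.2.1) (by rwa [enc_dec (enc_lt_U hn)])
    obtain ⟨hk, hs⟩ := hfac _ hF hcode
    obtain ⟨q, hq, hqe⟩ := C.F.mu_surj (dec n)
    rw [← hqe] at hk hs
    obtain ⟨-, hc⟩ := conj_el C hq hF inU_zero 0 hk
    rw [zero_add, bf_comm _ 0, bf_zero_left, add_zero, hs, zero_add] at hc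
    have hel0 : el C 0 0 (av C t.1) = av C t.1 := by simp [el, pl_zero, zp]
    rw [hel0] at hc
    obtain ⟨k, hk1, hkz, hkF, hkcode, hkel⟩ := one_move C hi hi'
    obtain ⟨hF1, hcode1, hT1, -⟩ := av_spec C (i := 1) le_rfl (by norm_num)
    have hkav : k * av C 1 * k⁻¹ = av C t.1 := by
      have e1 : ∃ e, av C 1 = el C 0 e (pf C 1) := ⟨_, by rw [av, dif_pos ⟨le_rfl, by norm_num⟩]⟩
      obtain ⟨e, he1⟩ := e1
      refine av_unique C hi hi' ?_ ?_ ((isT_conj C _ k).2 hT1)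
      · rw [he1, hkel, el, pl_zero, one_mul]
        unfold zp; split_ifs
        · rwa [one_mul]
        · exact Fx_mul C (Fx_z C) hkF
      · rw [he1, hkel]; exact el_code C inU_zero _ hkF hkcode
    refine ⟨q * k, mul_mem (Q_le_Nt C hq) hk1, ?_⟩
    rw [show q * k * av C 1 * (q * k)⁻¹ = q * (k * av C 1 * k⁻¹) * q⁻¹ by group, hkav, hc, he]
  have hbase : ∀ {x : G}, x ∈ Ct C.F → IsT C x → ∃ m ∈ Nt C, m * u0 * m⁻¹ = x := by
    intro x hx htx
    by_cases hxU : x ∈ Ut C.F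
    · exact small_conj C hu0 hxU htu0 htx
    · obtain ⟨m1, hm1, e1⟩ := hav hx htx hxU
      have h2 : par C t0 ∉ Ut C.F := fun h => by
        obtain ⟨hi', hn⟩ := mem_Dom.1 ht0
        have hc := el_code C (inU_dec hn) t0.2.2 (pf_spec C hi').1 (pf_spec C hi').2
        have hid : Coded (C.F.pi (par C t0)) (RLi 0) := fun u => by
          rw [RLi_zero, C.F.pi_eq_self_of_mem h.1, idL_app]
        have := RLi_inj hi' (by norm_num) (code_inj (RLi_mem hi') (RLi_mem (by norm_num)) hc hid)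
        omega
      obtain ⟨m2, hm2, e2⟩ := hav (par_mem C ht0) (by rw [e0, isT_conj]; exact htu0) h2
      refine ⟨m1 * m2⁻¹ * m0, mul_mem (mul_mem hm1 (inv_mem hm2)) hm0, ?_⟩
      rw [show m1 * m2⁻¹ * m0 * u0 * (m1 * m2⁻¹ * m0)⁻¹ = m1 * (m2⁻¹ * (m0 * u0 * m0⁻¹) * m2) * m1⁻¹ by group,
        ← e0, ← e2, show m2⁻¹ * (m2 * av C 1 * m2⁻¹) * m2 = av C 1 by group, e1]
  obtain ⟨m1, h1, e1⟩ := hbase ha hta
  obtain ⟨m2, h2, e2⟩ := hbase hb htb
  refine ⟨m2 * m1⁻¹, mul_mem h2 (inv_mem h1), ?_⟩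
  rw [← e1, ← e2]; group

end Cfsg.Agent.LFType10
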