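import Cfsg.Agent.LFType23.Coord

/-!
Coded vectors and coded linear maps of the coordinate space: a vector is a twelve-bit number, a map
is the list of the images of the twelve unit bits.
-/
set_option autoImplicit false

namespace Cfsg.Agent.LFType10

open Cfsg.Agent.LFType23

/-- The code of an entry. -/
def c2 (p : F4) : ℕ := p.1.val + 2 * p.2.val

/-- The code of a vector. -/
def enc (u : V) : ℕ :=
  c2 (u 0) + 4 * (c2 (u 1) + 4 * (c2 (u 2) + 4 * (c2 (u 3) + 4 * (c2 (u 4) + 4 * c2 (u 5)))))

theorem c2_lt : ∀ p : F4, c2 p < 4 := by decide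

theorem c2_inj : ∀ p q : F4, c2 p = c2 q → p = q := by decide

theorem digit_lt {a b n : ℕ} (ha : a < 4) (hb : b < n) : a + 4 * b < 4 * n := by omega

theorem digit_eq {a b a' b' : ℕ} (ha : a < 4) (ha' : a' < 4) (h : a + 4 * b = a' + 4 * b') :
    a = a' ∧ b = b' := by omega

theorem enc_lt_check (u : V) : enc u < 4096 :=
  (digit_lt (c2_lt _) (digit_lt (c2_lt _) (digit_lt (c2_lt _) (digit_lt (c2_lt _) (digit_lt (c2_lt _)
    (c2_lt _)))))).trans_le (le_refl 4096)

theorem enc_injective {u w : V} (h : enc u = enc w) : u = w := by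
  obtain ⟨h0, h⟩ := digit_eq (c2_lt _) (c2_lt _) h
  obtain ⟨h1, h⟩ := digit_eq (c2_lt _) (c2_lt _) h
  obtain ⟨h2, h⟩ := digit_eq (c2_lt _) (c2_lt _) h
  obtain ⟨h3, h⟩ := digit_eq (c2_lt _) (c2_lt _) h
  obtain ⟨h4, h5⟩ := digit_eq (c2_lt _) (c2_lt _) h
  funext i
  match i with
  | 0 => exact c2_inj _ _ h0
  | 1 => exact c2_inj _ _ h1
  | 2 => exact c2_inj _ _ h2
  | 3 => exact c2_inj _ _ h3
  | 4 => exact c2_inj _ _ h4
  | 5 => exact c2_inj _ _ h5

/-- One bit as an element of `ZMod 2`. -/
def bit2 (n k : ℕ) : ZMod 2 := if n.testBit k then 1 else 0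

/-- The vector of a code. -/
def dec (n : ℕ) : V := fun i => (bit2 n (2 * (i : ℕ)), bit2 n (2 * (i : ℕ) + 1))

/-- Application of a coded map. -/
def app : List ℕ → ℕ → ℕ
  | [], _ => 0
  | a :: l, n => (if n % 2 = 1 then a else 0) ^^^ app l (n / 2)

theorem enc_dec_check : ((List.range 4096).all fun n => enc (dec n) == n) = true := by decide +kernel

theorem enc_dec {n : ℕ} (h : n < 4096) : enc (dec n) = n :=
  beq_iff_eq.1 (List.all_eq_true.1 enc_dec_check n (List.mem_range.2 h))

theorem dec_enc (u : V) : dec (enc u) = u := enc_injective (enc_dec (enc_lt_check u))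

theorem dec_xor (m n : ℕ) : dec (m ^^^ n) = dec m + dec n := by
  have h : ∀ a b : Bool, (if (a != b) then (1 : ZMod 2) else 0) =
      (if a then 1 else 0) + (if b then 1 else 0) := by decide
  funext i
  simp only [dec, bit2, Pi.add_apply, Prod.mk_add_mk, Nat.testBit_xor]
  rw [h, h]

theorem dec_zero : dec 0 = 0 := by
  funext i; simp [dec, bit2]

theorem enc_zero : enc 0 = 0 := by rw [← dec_zero, enc_dec (by norm_num)]

theorem xor_lt {m n : ℕ} (hm : m < 4096) (hn : n < 4096) : m ^^^ n < 4096 :=
  Nat.xor_lt_two_pow (n := 12) hm hn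

theorem enc_add (u w : V) : enc (u + w) = enc u ^^^ enc w := by
  rw [← enc_dec (xor_lt (enc_lt_check u) (enc_lt_check w)), dec_xor, dec_enc, dec_enc]

theorem app_zero : ∀ l : List ℕ, app l 0 = 0
  | [] => rfl
  | a :: l => by simp [app, app_zero l]

theorem app_xor : ∀ (l : List ℕ) (m n : ℕ), app l (m ^^^ n) = app l m ^^^ app l n
  | [], _, _ => by simp [app]
  | a :: l, m, n => by
    simp only [app]
    rw [show (m ^^^ n) / 2 = m / 2 ^^^ n / 2 from Nat.xor_div_two .., app_xor l]
    have key : ∀ k, (k % 2 = 1) = (k.testBit 0 = true) := fun k => by simp [Nat.testBit_zero]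
    simp only [key, Nat.testBit_xor]
    cases m.testBit 0 <;> cases n.testBit 0 <;> simp [Nat.xor_assoc, Nat.xor_left_comm]

theorem app_lt : ∀ (l : List ℕ), (∀ a ∈ l, a < 4096) → ∀ n, app l n < 4096
  | [], _, _ => by simp [app]
  | a :: l, h, n => by
    simp only [app]
    refine xor_lt ?_ (app_lt l (fun b hb => h b (List.mem_cons_of_mem _ hb)) _)
    split_ifs
    · exact h a (List.mem_cons_self ..)
    · norm_num

/-- The composite of coded maps: first the second argument. -/
def cmp (l m : List ℕ) : List ℕ := m.map (app l)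

theorem app_cmp (l : List ℕ) : ∀ (m : List ℕ) (n : ℕ), app (cmp l m) n = app l (app m n)
  | [], _ => by simp [cmp, app, app_zero]
  | a :: m, n => by
    show app (app l a :: cmp l m) n = _
    simp only [app]
    rw [app_xor, app_cmp l m]
    congr 1
    split_ifs
    · rfl
    · rw [app_zero]

/-- A map of vectors is given by a coded map. -/
def Coded (f : V → V) (l : List ℕ) : Prop := ∀ u, enc (f u) = app l (enc u)

theorem Coded.comp {f g : V → V} {l m : List ℕ} (hf : Coded f l) (hg : Coded g m) :
    Coded (f ∘ g) (cmp l m) := fun u => by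
  rw [app_cmp, Function.comp_apply, hf, hg]

theorem Coded.apply {f : V → V} {l : List ℕ} (hf : Coded f l) (u : V) : f u = dec (app l (enc u)) := by
  rw [← hf u, dec_enc]

theorem Coded.eq {f g : V → V} {l : List ℕ} (hf : Coded f l) (hg : Coded g l) : f = g :=
  funext fun u => by rw [hf.apply, hg.apply]

/-- The code of a function, read on the unit bits. -/
def tab (f : V → V) : List ℕ := (List.range 12).map fun k => enc (f (dec (2 ^ k)))

theorem additive_ext {f g : V → V} (hf : ∀ u w, f (u + w) = f u + f w) (hg : ∀ u w, g (u + w) = g u + g w)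
    (h : ∀ k < 12, f (dec (2 ^ k)) = g (dec (2 ^ k))) (u : V) : f u = g u := by
  have key : ∀ b n, n < 2 ^ b → b ≤ 12 → f (dec n) = g (dec n) := by
    intro b
    induction b with
    | zero =>
      intro n hn _
      obtain rfl : n = 0 := by simpa using hn
      have e0 : ∀ {e : V → V}, (∀ u w, e (u + w) = e u + e w) → e 0 = 0 := fun he => by
        have := he 0 0
        rw [add_zero] at this
        exact left_eq_add.1 this
      rw [dec_zero, e0 hf, e0 hg]
    | succ b ih =>
      intro n hn hb
      by_cases hlt : n < 2 ^ b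
      · exact ih n hlt (by omega)
      · have h2 : n ^^^ 2 ^ b < 2 ^ b := by
          refine Nat.lt_pow_two_of_testBit _ fun j hj => ?_
          rw [Nat.testBit_xor]
          rcases hj.lt_or_eq with h1 | h1
          · rw [Nat.testBit_two_pow_of_ne (by omega),
              Nat.testBit_lt_two_pow (lt_of_lt_of_le hn (Nat.pow_le_pow_right (by norm_num) (by omega)))]
            rfl
          · subst h1
            obtain ⟨i, hi, ht⟩ := Nat.exists_ge_and_testBit_of_ge_two_pow (Nat.le_of_not_lt hlt)
            have : i = b := by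
              by_contra hne
              rw [Nat.testBit_lt_two_pow (lt_of_lt_of_le hn (Nat.pow_le_pow_right (by norm_num) (by omega)))] at ht
              exact Bool.false_ne_true ht
            subst this
            simp [ht]
        rw [show n = (n ^^^ 2 ^ b) ^^^ 2 ^ b by rw [Nat.xor_assoc, Nat.xor_self, Nat.xor_zero],
          dec_xor, hf, hg, ih _ h2 (by omega), h b (by omega)]
  rw [← dec_enc u]
  exact key 12 _ (enc_lt_check u) le_rfl

theorem coded_tab {f : V → V} (hf : ∀ u w, f (u + w) = f u + f w) : Coded f (tab f) := by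
  have hl : ∀ a ∈ tab f, a < 4096 := fun a ha => by
    obtain ⟨k, _, rfl⟩ := List.mem_map.1 ha
    exact enc_lt_check _
  intro u
  have := additive_ext hf (g := fun u => dec (app (tab f) (enc u)))
    (fun u w => by simp only [enc_add, app_xor, dec_xor])
    (fun k hk => by
      have e : ∀ (l : List ℕ) (k : ℕ) (h : k < l.length), app l (2 ^ k) = l[k] := by
        intro l
        induction l with
        | nil => intro k h; simp at h
        | cons a l ih =>
          intro k h
          rcases k with _ | k
          · simp [app, app_zero]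
          · simp [app, Nat.pow_succ, ih k (by simpa using h)]
      show _ = dec _
      rw [enc_dec (Nat.pow_lt_pow_right (by norm_num) hk), e _ _ (by simp [tab, hk])]
      simp [tab, dec_enc]) u
  rw [this, enc_dec (app_lt _ hl _)]

end Cfsg.Agent.LFType10
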