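import Cfsg.Agent.LFType10.Base

/-!
Elementary abelian groups of linear maps inside the coded Sylow subgroup, with their fixed spaces.
-/
set_option autoImplicit false

namespace Cfsg.Agent.LFType10

open Cfsg.Agent.LFType23

/-- The linear involutions and the identity of the coded Sylow subgroup. -/
def linInv : List (List ℕ) := PL.filter fun l => LFType10.cmp l omL == LFType10.cmp omL l && LFType10.cmp l l == idL

/-- The list in normal order generated by a span and one more map. -/
def extend (H : List (List ℕ)) (g : List ℕ) : List (List ℕ) :=
  linInv.filter fun l => H.contains l || (H.map (LFType10.cmp g)).contains l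

/-- The next layer of elementary abelian groups. -/
def layer (Hs : List (List (List ℕ))) : List (List (List ℕ)) :=
  (Hs.flatMap fun H => ((linInv.filter fun g => !H.contains g &&
    H.all fun h => LFType10.cmp g h == LFType10.cmp h g).map (extend H))).eraseDups

/-- The groups of order `2 ^ k`. -/
def elem : ℕ → List (List (List ℕ))
  | 0 => [[idL]]
  | k + 1 => layer (elem k)

/-- The defects of a code under some maps. -/
def defect (gs : List (List ℕ)) (n : ℕ) : List ℕ := gs.map fun l => app l n ^^^ n

/-- An upper bound for the number of common fixed vectors. -/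
def fixN (gs : List (List ℕ)) : ℕ :=
  let lo := (List.range 64).map (defect gs)
  ((List.range 64).map fun hi => let k := defect gs (64 * hi); (lo.filter (· == k)).length).sum

theorem elem_check : ((elem 5).isEmpty &&
    ((elem 4).all fun H => (RL.all H.contains) || decide (fixN H < 64)) &&
    (linInv.all fun l => l == idL || decide (fixN [l] ≤ 256)) &&
    RL.all linInv.contains && linInv.Nodup && RL.Nodup && PL.Nodup) = true := by
  decide +kernel

theorem fixN_bound (gs : List (List ℕ)) (X : Finset V)
    (h : ∀ u ∈ X, ∀ l ∈ gs, app l (enc u) = enc u) : X.card ≤ fixN gs := by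
  classical
  let lo := (List.range 64).map (defect gs)
  let T : Finset (ℕ × ℕ) := ((Finset.range 64) ×ˢ (Finset.range 64)).filter
    fun p => defect gs p.2 = defect gs (64 * p.1)
  have h1 : X.card ≤ T.card := by
    refine Finset.card_le_card_of_injOn (fun u => (enc u / 64, enc u % 64)) (fun u hu => ?_) ?_
    · have h4 := enc_lt_check u
      simp only [T, Finset.mem_coe, Finset.mem_filter, Finset.mem_product, Finset.mem_range]
      refine ⟨⟨Nat.div_lt_of_lt_mul (by omega), Nat.mod_lt _ (by norm_num)⟩, ?_⟩
      refine List.map_congr_left fun l hl => ?_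
      have e := h u hu l hl
      have hxor : enc u = enc u % 64 ^^^ 64 * (enc u / 64) := by
        conv_lhs => rw [← Nat.mod_add_div (enc u) 64]
        refine Nat.eq_of_testBit_eq fun i => ?_
        rw [show 64 * (enc u / 64) = 2 ^ 6 * (enc u / 64) by norm_num, Nat.testBit_xor, add_comm,
          Nat.testBit_two_pow_mul_add _ (Nat.mod_lt _ (by norm_num)), Nat.testBit_two_pow_mul]
        split_ifs with hi
        · simp [show ¬ 6 ≤ i by omega]
        · rw [show (enc u % 64).testBit i = false from Nat.testBit_lt_two_pow
            (lt_of_lt_of_le (Nat.mod_lt _ (by norm_num)) (Nat.pow_le_pow_right (n := 2) (by norm_num) (by omega : 6 ≤ i)))]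
          simp [show 6 ≤ i by omega]
      generalize enc u % 64 = a at hxor ⊢
      generalize enc u / 64 = b at hxor ⊢
      rw [hxor, app_xor] at e
      calc app l a ^^^ a = (app l a ^^^ app l (64 * b)) ^^^ (app l (64 * b) ^^^ a) := by
            rw [Nat.xor_assoc, ← Nat.xor_assoc (app l (64 * b)), Nat.xor_self, Nat.zero_xor]
        _ = (a ^^^ 64 * b) ^^^ (app l (64 * b) ^^^ a) := by rw [e]
        _ = app l (64 * b) ^^^ 64 * b := by
            simp [Nat.xor_comm, Nat.xor_left_comm, Nat.xor_assoc]
    · intro a _ b _ e
      simp only [Prod.mk.injEq] at e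
      refine enc_injective ?_
      rw [← Nat.mod_add_div (enc a) 64, ← Nat.mod_add_div (enc b) 64, e.1, e.2]
  refine h1.trans ?_
  have h2 : T.card = ∑ hi ∈ Finset.range 64, ((Finset.range 64).filter fun j => defect gs j = defect gs (64 * hi)).card := by
    rw [← Finset.card_sigma]
    refine Finset.card_nbij' (fun p => ⟨p.1, p.2⟩) (fun p => (p.1, p.2)) ?_ ?_ ?_ ?_ <;>
      intro p <;> simp [T, and_assoc]
  rw [h2]
  refine le_of_eq ?_
  rw [fixN]
  show _ = ((List.range 64).map _).sum
  rw [← List.sum_toFinset _ List.nodup_range, List.toFinset_range]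
  refine Finset.sum_congr rfl fun hi _ => ?_
  dsimp only
  rw [List.filter_map, List.length_map, ← List.toFinset_card_of_nodup (List.nodup_range.filter _),
    List.toFinset_filter, List.toFinset_range]
  exact congrArg Finset.card (Finset.filter_congr fun j _ => by
    simp only [Function.comp_apply, beq_iff_eq])

end Cfsg.Agent.LFType10
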