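import Cfsg.Agent.LFType10.Maps
import Cfsg.Agent.LFType10.Data

/-!
The coded maps of the data file are realised in the centraliser.
-/
set_option autoImplicit false

namespace Cfsg.Agent.LFType10

open Cfsg.Agent.LFType23

/-- A transvection, coded. -/
def trL (r : ℕ) : List ℕ :=
  (List.range 12).map fun k => (2 ^ k) ^^^
    ((if bfN (2 ^ k) (app omL r) then 0 else r) ^^^ (if bfN (2 ^ k) r then 0 else app omL r))

/-- A monomial map, coded. -/
def monoL (p : List (Fin 6) × List (ZMod 3)) : List ℕ :=
  tab fun u i => rot (p.2.getD i.1 0) (u (p.1.getD i.1 0))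

/-- Evaluation of a word. -/
def wordL (gens : List (List ℕ)) (w : List ℕ) : List ℕ :=
  w.foldr (fun k acc => cmp (gens.getD k idL) acc) idL

/-- The generators of the words. -/
def allGens : List (List ℕ) := genW ++ [bridge, bridgeI]

/-- The commutator of the first transvection with a word. -/
def commW (w wi : List ℕ) : List ℕ :=
  cmp (cmp (trL tA) (cmp (wordL allGens w) (trL tA))) (wordL allGens wi)

/-- The monomial pairs behind the generators. -/
def genP : List (List (Fin 6) × List (ZMod 3)) :=
  [([1, 2, 0, 3, 4, 5], [0, 0, 0, 0, 0, 0]), ([2, 0, 1, 3, 4, 5], [0, 0, 0, 0, 0, 0]),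
   ([1, 2, 3, 4, 0, 5], [0, 0, 0, 0, 0, 0]), ([4, 0, 1, 2, 3, 5], [0, 0, 0, 0, 0, 0]),
   ([0, 1, 2, 4, 5, 3], [0, 0, 0, 0, 0, 0]), ([0, 1, 2, 5, 3, 4], [0, 0, 0, 0, 0, 0]),
   ([0, 1, 2, 3, 4, 5], [1, 2, 0, 0, 0, 0]), ([0, 1, 2, 3, 4, 5], [2, 1, 0, 0, 0, 0])]

/-- An admissible monomial pair. -/
def EvenMono (p : List (Fin 6) × List (ZMod 3)) : Prop :=
  (∃ σ : Equiv.Perm (Fin 6), Equiv.Perm.sign σ = 1 ∧ ∀ i : Fin 6, σ i = p.1.getD i.1 0) ∧
    ∑ i : Fin 6, p.2.getD i.1 0 = 0

theorem evenMono_check : ∀ p ∈ genP ++ monoP ++ monoU ++ [monoS], EvenMono p := by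
  unfold EvenMono
  decide +kernel

theorem realL_mono {G : Type*} [Group G] {z : G} {Q : Subgroup G} (F : Frame z Q)
    {p : List (Fin 6) × List (ZMod 3)} (hp : EvenMono p) : RealL F (monoL p) := by
  obtain ⟨⟨σ, hσ, hs⟩, ha⟩ := hp
  obtain ⟨h, hh, he⟩ := F.perm_mem σ hσ
  obtain ⟨k, hk, ke⟩ := F.diag_mem (fun i : Fin 6 => p.2.getD i.1 0) ha
  refine ⟨k * h, hk.mul_left hh, ?_⟩
  have hadd : ∀ u w : V, (fun i : Fin 6 => rot (p.2.getD i.1 0) ((u + w) (p.1.getD i.1 0))) =
      (fun i : Fin 6 => rot (p.2.getD i.1 0) (u (p.1.getD i.1 0))) +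
      fun i : Fin 6 => rot (p.2.getD i.1 0) (w (p.1.getD i.1 0)) :=
    fun u w => funext fun i => rot_add _ _ _
  intro u
  rw [F.pi_mul hk hh, ke, he]
  have := coded_tab (f := fun u (i : Fin 6) => rot (p.2.getD i.1 0) (u (p.1.getD i.1 0))) hadd u
  rw [monoL, ← this]
  congr 1
  funext i
  show rot _ (u (σ i)) = _
  rw [hs]

theorem gens_check : (genP.map monoL == genW && bnd allGens.flatten &&
    goodB (trL tA) && cmp (trL tA) (trL tA) == idL &&
    (bridge == cmp (cmp (trL tA) (cmp (wordL genW bridgeW) (trL tA))) (wordL genW bridgeWI)) &&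
    cmp (wordL genW bridgeW) (wordL genW bridgeWI) == idL && cmp bridge bridgeI == idL) = true := by
  decide +kernel

theorem pairs_check : (pairs.all fun p =>
    cmp (wordL allGens p.2.1.1) (wordL allGens p.2.1.2) == idL &&
    cmp (wordL allGens p.2.2.1) (wordL allGens p.2.2.2) == idL &&
    bnd (cmp (trL p.1.1) (trL tA)) &&
    cmp (commW p.2.1.1 p.2.1.2) (cmp (trL p.1.1) (trL tA)) == idL &&
    cmp (cmp (trL p.1.1) (trL tA)) (commW p.2.2.1 p.2.2.2) == cmp (trL p.1.1) (trL p.1.2)) = true := by
  decide +kernel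

variable {G : Type*} [Group G] [Finite G] {z : G} {Q : Subgroup G} {F : Frame z Q}

theorem realL_word {gens : List (List ℕ)} (h : ∀ g ∈ gens, RealL F g) (w : List ℕ) : RealL F (wordL gens w) := by
  induction w with
  | nil => exact realL_id F
  | cons k w ih =>
    refine RealL.comp ?_ ih
    rw [List.getD_eq_getElem?_getD]
    rcases e : gens[k]? with _ | g
    · exact realL_id F
    · exact h g (List.mem_of_getElem? e)

theorem realL_genW (F : Frame z Q) : ∀ g ∈ genW, RealL F g := by
  have hc := gens_check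
  simp only [Bool.and_eq_true, beq_iff_eq] at hc
  intro g hg
  rw [← hc.1.1.1.1.1.1, List.mem_map] at hg
  obtain ⟨p, hp, rfl⟩ := hg
  exact realL_mono F (evenMono_check p (by simp [hp]))

theorem realL_commA (hcl : F.Classes 1) {g gi : List ℕ} (hg : RealL F g) (hgi : RealL F gi) :
    RealL F (cmp (cmp (trL tA) (cmp g (trL tA))) gi) := by
  have hc := gens_check
  simp only [Bool.and_eq_true, beq_iff_eq] at hc
  have hb : bnd (trL tA) = true := by
    have h := hc.1.1.1.1.2
    simp only [goodB, Bool.and_eq_true] at h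
    exact h.1.1.1
  exact (RealL.conj hcl hg hc.1.1.1.1.2 hb hc.1.1.1.2 hc.1.1.1.2).comp hgi

theorem realL_allGens (hcl : F.Classes 1) : ∀ g ∈ allGens, RealL F g := by
  have hc := gens_check
  simp only [Bool.and_eq_true, beq_iff_eq] at hc
  have hbr : RealL F bridge := by
    rw [hc.1.1.2]
    exact realL_commA hcl (realL_word (realL_genW F) _) (realL_word (realL_genW F) _)
  intro g hg
  simp only [allGens, List.mem_append, List.mem_cons, List.not_mem_nil, or_false] at hg
  rcases hg with hg | rfl | rfl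
  · exact realL_genW F g hg
  · exact hbr
  · refine hbr.inv ?_ hc.2
    exact List.all_eq_true.2 fun a ha => List.all_eq_true.1 hc.1.1.1.1.1.2 a
      (List.mem_flatten.2 ⟨bridgeI, by simp [allGens], ha⟩)

theorem realL_pair (hcl : F.Classes 1) {p} (hp : p ∈ pairs) : RealL F (cmp (trL p.1.1) (trL p.1.2)) := by
  have h := List.all_eq_true.1 pairs_check p hp
  simp only [Bool.and_eq_true, beq_iff_eq] at h
  have ha : ∀ w wi, RealL F (commW w wi) := fun w wi =>
    realL_commA hcl (realL_word (realL_allGens hcl) _) (realL_word (realL_allGens hcl) _)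
  rw [← h.2]
  exact ((ha _ _).inv h.1.1.2 h.1.2).comp (ha _ _)

/-- A certified closure of a list of maps. -/
def closB (gens els : List (List ℕ)) (cert : List (ℕ × ℕ)) : Bool :=
  els.getD 0 [] == idL && cert.length == els.length &&
    (List.range els.length).all fun i => i == 0 ||
      (decide ((cert.getD i (0, 0)).2 < i) &&
        els.getD i [] == cmp (gens.getD (cert.getD i (0, 0)).1 idL) (els.getD (cert.getD i (0, 0)).2 []))

theorem realL_clos {gens els : List (List ℕ)} {cert : List (ℕ × ℕ)} (h : closB gens els cert = true)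
    (hg : ∀ g ∈ gens, RealL F g) : ∀ g ∈ els, RealL F g := by
  simp only [closB, Bool.and_eq_true, beq_iff_eq] at h
  obtain ⟨⟨h0, -⟩, hall⟩ := h
  have key : ∀ i, i < els.length → RealL F (els.getD i []) := by
    intro i
    induction i using Nat.strong_induction_on with
    | _ i ih =>
      intro hi
      have := List.all_eq_true.1 hall i (List.mem_range.2 hi)
      simp only [Bool.or_eq_true, Bool.and_eq_true, beq_iff_eq, decide_eq_true_eq] at this
      rcases this with rfl | ⟨hlt, e⟩
      · rw [h0]; exact realL_id F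
      · rw [e]
        refine RealL.comp ?_ (ih _ hlt (lt_trans hlt hi))
        rw [List.getD_eq_getElem?_getD]
        rcases e' : gens[(cert.getD i (0, 0)).1]? with _ | g
        · exact realL_id F
        · exact hg g (List.mem_of_getElem? e')
  intro g hg'
  obtain ⟨i, hi, rfl⟩ := List.getElem_of_mem hg'
  have := key i hi
  rwa [List.getD_eq_getElem (l := els) (d := []) hi] at this

/-- The generators of the sixteen maps fixing the subspace. -/
def RG : List (List ℕ) := (pairs.take 4).map fun p => cmp (trL p.1.1) (trL p.1.2)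

/-- The generators of the sixteen linear maps trivial on the intersection subspace. -/
def WG : List (List ℕ) := ((pairs.drop 4).take 4).map fun p => cmp (trL p.1.1) (trL p.1.2)

/-- The generators of the Sylow subgroup. -/
def PG : List (List ℕ) := RG ++ monoP.map monoL ++ [suL]

theorem clos_check : (closB RG RL RLc && closB WG WL WLc && closB PG PL PLc) = true := by decide +kernel

theorem semi_check : (cmp (cmp (trL 1366) (trL 5)) w0L == monoM && cmp monoM (monoL monoS) == suL &&
    (pairs.drop 9).take 1 == [((1366, 5), ((pairs.getD 9 default).2))]) = true := by decide +kernel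

theorem realL_RL (hcl : F.Classes 1) : ∀ g ∈ RL, RealL F g := by
  have hc := clos_check
  simp only [Bool.and_eq_true] at hc
  refine realL_clos hc.1.1 fun g hg => ?_
  obtain ⟨p, hp, rfl⟩ := List.mem_map.1 hg
  exact realL_pair hcl (List.mem_of_mem_take hp)

theorem realL_WL (hcl : F.Classes 1) : ∀ g ∈ WL, RealL F g := by
  have hc := clos_check
  simp only [Bool.and_eq_true] at hc
  refine realL_clos hc.1.2 fun g hg => ?_
  obtain ⟨p, hp, rfl⟩ := List.mem_map.1 hg
  exact realL_pair hcl (List.mem_of_mem_drop (List.mem_of_mem_take hp))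

theorem realL_suL (hcl : F.Classes 1) (hw : RealL F w0L) : RealL F suL := by
  have hc := semi_check
  simp only [Bool.and_eq_true, beq_iff_eq] at hc
  have hp : ((1366, 5), ((pairs.getD 9 default).2)) ∈ pairs := by
    refine List.mem_of_mem_drop (List.mem_of_mem_take (i := 1) (l := pairs.drop 9) ?_)
    rw [hc.2]; exact List.mem_singleton_self _
  have hM : RealL F monoM := by
    rw [← hc.1.1]
    exact (realL_pair hcl hp).comp hw
  rw [← hc.1.2]
  exact hM.comp (realL_mono F (evenMono_check monoS (by simp)))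

theorem realL_PL (hcl : F.Classes 1) (hw : RealL F w0L) : ∀ g ∈ PL, RealL F g := by
  have hc := clos_check
  simp only [Bool.and_eq_true] at hc
  refine realL_clos hc.2 fun g hg => ?_
  simp only [PG, List.mem_append, List.mem_cons, List.not_mem_nil, or_false] at hg
  rcases hg with (hg | hg) | rfl
  · obtain ⟨p, hp, rfl⟩ := List.mem_map.1 hg
    exact realL_pair hcl (List.mem_of_mem_take hp)
  · obtain ⟨p, hp, rfl⟩ := List.mem_map.1 hg
    exact realL_mono F (evenMono_check p (by simp [hp]))
  · exact realL_suL hcl hw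

end Cfsg.Agent.LFType10
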