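import Cfsg.Agent.LFType10.Thompson
import Cfsg.Prelude.Def_Transfer

/-!
The coded group is a Sylow subgroup of the whole group; the large elementary abelian subgroup is
weakly closed, so its normaliser controls fusion in it.
-/
set_option autoImplicit false

namespace Cfsg.Agent.LFType10

open Cfsg.Agent.LFType23

variable {G : Type*} [Group G] [Finite G] {z : G} {Q : Subgroup G} (C : Ctx z Q)

/-- The normaliser of the large elementary abelian subgroup. -/
def Nt : Subgroup G := Subgroup.normalizer (Ct C.F : Set G)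

theorem mem_Nt {m : G} : m ∈ Nt C ↔ ∀ a, a ∈ Ct C.F ↔ m * a * m⁻¹ ∈ Ct C.F :=
  Subgroup.mem_normalizer_iff

theorem z_mem_Ct : z ∈ Ct C.F := Ut_le_Ct C.F (z_mem_Ut C.F)

theorem Syl_center {a : G} (ha : a ∈ Syl C) (hc : ∀ q ∈ Q, Commute a q) : a = 1 ∨ a = z := by
  have hQ : a ∈ Q := C.F.faithful a ha.1 fun u => by
    obtain ⟨q, hq, rfl⟩ := C.F.mu_surj u
    rw [← C.F.pi_mu a ha.1 q hq, (hc q hq).eq, mul_inv_cancel_right]
  refine (C.F.mu_eq_zero a hQ).1 (bf_nondeg fun w => ?_)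
  obtain ⟨q, hq, rfl⟩ := C.F.mu_surj w
  exact (C.F.commute_iff hQ hq).1 (hc q hq)

theorem normalizer_fix {n : G} (hn : n ∈ Subgroup.normalizer (Syl C : Set G)) : Commute n z := by
  rw [Subgroup.mem_normalizer_iff] at hn
  have hzS : z ∈ Syl C := Q_le_Syl C C.F.z_mem
  have h1 : n * z * n⁻¹ ∈ Syl C := (hn z).1 hzS
  have h2 : ∀ q ∈ Q, Commute (n * z * n⁻¹) q := by
    intro q hq
    have hq' : n⁻¹ * q * n ∈ Syl C := (hn _).2 (by
      rw [show n * (n⁻¹ * q * n) * n⁻¹ = q by group]; exact Q_le_Syl C hq)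
    have e := hq'.1.eq
    show n * z * n⁻¹ * q = q * (n * z * n⁻¹)
    calc n * z * n⁻¹ * q = n * (z * (n⁻¹ * q * n)) * n⁻¹ := by group
      _ = n * ((n⁻¹ * q * n) * z) * n⁻¹ := by rw [e]
      _ = q * (n * z * n⁻¹) := by group
  rcases Syl_center C h1 h2 with e | e
  · exact absurd (conj_eq_one_iff.1 e) C.F.z_ne
  · exact mul_inv_eq_iff_eq_mul.1 e

/-- The coded group is a Sylow subgroup of the whole group. -/
theorem exists_sylow : ∃ S : Sylow 2 G, (S : Subgroup G) = Syl C := by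
  haveI : Fact (Nat.Prime 2) := ⟨Nat.prime_two⟩
  have hP : IsPGroup 2 (Syl C) := IsPGroup.of_card (card_Syl C)
  obtain ⟨S, hS⟩ := hP.exists_le_sylow
  refine ⟨S, le_antisymm ?_ hS⟩
  by_contra hne
  have hK : IsPGroup 2 ((S : Subgroup G) ⊓ Subgroup.normalizer (Syl C : Set G) : Subgroup G) :=
    S.isPGroup'.to_le inf_le_left
  have hKC : (S : Subgroup G) ⊓ Subgroup.normalizer (Syl C : Set G) ≤ Subgroup.centralizer ({z} : Set G) :=
    fun n hn => Subgroup.mem_centralizer_singleton_iff.2 (normalizer_fix C hn.2)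
  obtain ⟨k, hk⟩ := hK.exists_card_eq
  have h1 : Nat.card ((S : Subgroup G) ⊓ Subgroup.normalizer (Syl C : Set G) : Subgroup G) ≤ 2 ^ 21 := by
    have h2 := Subgroup.card_dvd_of_le hKC
    rw [hk, card_cent C] at h2
    rw [hk]
    refine Nat.pow_le_pow_right (by norm_num) ?_
    exact (Nat.Prime.pow_dvd_iff_le_factorization Nat.prime_two (by norm_num)).1 h2 |>.trans (le_of_eq factor_two)
  have heq : Syl C = (S : Subgroup G) ⊓ Subgroup.normalizer (Syl C : Set G) :=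
    Subgroup.eq_of_le_of_card_ge (le_inf hS Subgroup.le_normalizer) (by rw [card_Syl C]; exact h1)
  -- normalisers grow in a finite 2-group
  haveI : Group.IsNilpotent (S : Subgroup G) := S.isPGroup'.isNilpotent
  have hN : NormalizerCondition (S : Subgroup G) := normalizerCondition_of_isNilpotent
  have htop : (Syl C).subgroupOf (S : Subgroup G) ≠ ⊤ := fun e => hne (Subgroup.subgroupOf_eq_top.1 e)
  obtain ⟨x, hx, hxn⟩ := SetLike.exists_of_lt (hN _ (lt_top_iff_ne_top.2 htop))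
  apply hxn
  rw [Subgroup.mem_subgroupOf, heq, Subgroup.mem_inf]
  refine ⟨x.2, Subgroup.mem_normalizer_iff.2 fun a => ?_⟩
  rw [Subgroup.mem_normalizer_iff] at hx
  constructor
  · intro ha
    have := (hx ⟨a, hS ha⟩).1 (Subgroup.mem_subgroupOf.2 ha)
    exact Subgroup.mem_subgroupOf.1 this
  · intro ha
    have haS : a ∈ (S : Subgroup G) := by
      have := mul_mem (mul_mem ((S : Subgroup G).inv_mem x.2) (hS ha)) x.2
      rwa [show (x : G)⁻¹ * ((x : G) * a * (x : G)⁻¹) * x = a by group] at this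
    exact Subgroup.mem_subgroupOf.1 ((hx ⟨a, haS⟩).2 (Subgroup.mem_subgroupOf.2 ha))

/-- Every 2-subgroup lies in a conjugate of the coded group. -/
theorem exists_conj_Syl {P : Subgroup G} (hP : IsPGroup 2 P) :
    ∃ h : G, P ≤ (Syl C).map (MulAut.conj h).toMonoidHom := by
  haveI : Fact (Nat.Prime 2) := ⟨Nat.prime_two⟩
  obtain ⟨S, hS⟩ := hP.exists_le_sylow
  obtain ⟨S0, hS0⟩ := exists_sylow C
  obtain ⟨h, hh⟩ := MulAction.exists_smul_eq G S0 S
  refine ⟨h, hS.trans (le_of_eq ?_)⟩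
  rw [← hh, Sylow.coe_subgroup_smul, hS0]
  rfl

theorem conj_Ct_props (g : G) :
    (∀ a ∈ (Ct C.F).map (MulAut.conj g).toMonoidHom, ∀ b ∈ (Ct C.F).map (MulAut.conj g).toMonoidHom, a * b = b * a) ∧
    (∀ a ∈ (Ct C.F).map (MulAut.conj g).toMonoidHom, a * a = 1) ∧
    Nat.card ((Ct C.F).map (MulAut.conj g).toMonoidHom) = 2 ^ 11 := by
  refine ⟨?_, ?_, ?_⟩
  · rintro _ ⟨a, ha, rfl⟩ _ ⟨b, hb, rfl⟩
    rw [← map_mul, ← map_mul, Ct_comm C a ha b hb]
  · rintro _ ⟨a, ha, rfl⟩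
    rw [← map_mul, elementary_Ct C a ha, map_one]
  · rw [Subgroup.card_map_of_injective (MulAut.conj g).injective, card_Ct C]

/-- The subgroup is weakly closed. -/
theorem weakly_closed {P : Subgroup G} (hP : IsPGroup 2 P) (h1 : Ct C.F ≤ P) {g : G}
    (hg : (Ct C.F).map (MulAut.conj g).toMonoidHom ≤ P) : (Ct C.F).map (MulAut.conj g).toMonoidHom = Ct C.F := by
  obtain ⟨h, hh⟩ := exists_conj_Syl C hP
  obtain ⟨c1, c2, c3⟩ := conj_Ct_props C g
  exact (unique_conj C (hg.trans hh) c1 c2 (le_of_eq c3.symm)).trans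
    (unique_conj C (h1.trans hh) (Ct_comm C) (elementary_Ct C) (le_of_eq (card_Ct C).symm)).symm

theorem normal_of_map_eq {g : G} (h : (Ct C.F).map (MulAut.conj g).toMonoidHom = Ct C.F) : g ∈ Nt C := by
  refine (mem_Nt C).2 fun a => ⟨fun ha => h ▸ ⟨a, ha, rfl⟩, fun ha => ?_⟩
  rw [← h] at ha
  obtain ⟨b, hb, e⟩ := ha
  rwa [← (MulAut.conj g).injective (e : MulAut.conj g b = MulAut.conj g a)]

/-- The normaliser controls fusion. -/
theorem fusion {a g : G} (ha : a ∈ Ct C.F) (hga : g * a * g⁻¹ ∈ Ct C.F) :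
    ∃ m ∈ Nt C, m * a * m⁻¹ = g * a * g⁻¹ := by
  haveI : Fact (Nat.Prime 2) := ⟨Nat.prime_two⟩
  set b := g * a * g⁻¹ with hb
  set K := Subgroup.centralizer ({b} : Set G) with hK
  have h1 : Ct C.F ≤ K := fun x hx => Subgroup.mem_centralizer_singleton_iff.2 (Ct_comm C x hx b hga)
  have h2 : (Ct C.F).map (MulAut.conj g).toMonoidHom ≤ K := fun x hx =>
    Subgroup.mem_centralizer_singleton_iff.2 ((conj_Ct_props C g).1 x hx b ⟨a, ha, rfl⟩)
  have hpg : IsPGroup 2 (Ct C.F) := IsPGroup.of_card (card_Ct C)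
  have p1 : IsPGroup 2 ((Ct C.F).subgroupOf K) := hpg.of_equiv (Subgroup.subgroupOfEquivOfLe h1).symm
  have p2 : IsPGroup 2 (((Ct C.F).map (MulAut.conj g).toMonoidHom).subgroupOf K) :=
    (IsPGroup.of_card (conj_Ct_props C g).2.2).of_equiv (Subgroup.subgroupOfEquivOfLe h2).symm
  obtain ⟨S1, hS1⟩ := p1.exists_le_sylow
  obtain ⟨S2, hS2⟩ := p2.exists_le_sylow
  obtain ⟨h, hh⟩ := MulAction.exists_smul_eq K S2 S1
  refine ⟨(h : G) * g, normal_of_map_eq C (weakly_closed C (S1.isPGroup'.map K.subtype) ?_ ?_), ?_⟩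
  · intro x hx
    exact ⟨⟨x, h1 hx⟩, hS1 (Subgroup.mem_subgroupOf.2 hx), rfl⟩
  · rintro _ ⟨x, hx, rfl⟩
    have hy : g * x * g⁻¹ ∈ (Ct C.F).map (MulAut.conj g).toMonoidHom := ⟨x, hx, rfl⟩
    refine ⟨h * ⟨g * x * g⁻¹, h2 hy⟩ * h⁻¹, ?_, ?_⟩
    · rw [← hh, SetLike.mem_coe, Sylow.coe_subgroup_smul]
      exact Subgroup.smul_mem_pointwise_smul _ (MulAut.conj h) _ (hS2 (Subgroup.mem_subgroupOf.2 hy))
    · show (h : G) * (g * x * g⁻¹) * (h : G)⁻¹ = (h : G) * g * x * ((h : G) * g)⁻¹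
      group
  · have hc : Commute (h : G) b := Subgroup.mem_centralizer_singleton_iff.1 h.2
    rw [show (h : G) * g * a * ((h : G) * g)⁻¹ = (h : G) * b * (h : G)⁻¹ by rw [hb]; group, hc.eq,
      mul_inv_cancel_right]

theorem Nt_of_inU {h : G} (hh : Commute h z) (hU : ∀ u, InU u → InU (C.F.pi h u)) : h ∈ Nt C := by
  refine (mem_Nt C).2 fun a => ⟨conj_Ct C hh hU, fun ha => ?_⟩
  have := conj_Ct C hh.inv_left (fun u hu => inU_back C hh hU (by
    rwa [← C.F.pi_mul hh hh.inv_left, mul_inv_cancel, C.F.pi_one])) ha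
  rwa [show h⁻¹ * (h * a * h⁻¹) * h⁻¹⁻¹ = a by group] at this

theorem Q_le_Nt : Q ≤ Nt C := fun q hq => Nt_of_inU C (C.F.le_cent q hq) fun u hu => by
  rwa [C.F.pi_eq_self_of_mem hq]

/-- The Thompson subgroup of a Sylow subgroup. -/
theorem thompson_eq (T : Sylow 2 G) :
    ∃ g : G, Cfsg.thompsonSubgroupOf 2 (T : Subgroup G) = (Ct C.F).map (MulAut.conj g).toMonoidHom := by
  classical
  haveI : Fact (Nat.Prime 2) := ⟨Nat.prime_two⟩
  obtain ⟨S0, hS0⟩ := exists_sylow C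
  obtain ⟨g, hg⟩ := MulAction.exists_smul_eq G S0 T
  have hT : (T : Subgroup G) = (Syl C).map (MulAut.conj g).toMonoidHom := by
    rw [← hg, Sylow.coe_subgroup_smul, hS0]; rfl
  refine ⟨g, ?_⟩
  generalize (T : Subgroup G) = P at hT
  subst hT
  set P := (Syl C).map (MulAut.conj g).toMonoidHom
  set A := (Ct C.F).map (MulAut.conj g).toMonoidHom
  have hAP : A ≤ P := Subgroup.map_mono (Ct_le_Syl C)
  obtain ⟨c1, c2, c3⟩ := conj_Ct_props C g
  have hel : Cfsg.IsElementaryAbelian 2 (A.subgroupOf P) :=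
    ⟨⟨⟨fun a b => Subtype.ext (Subtype.ext (c1 _ a.2 _ b.2))⟩⟩, fun a ha => Subtype.ext (by
      rw [SubmonoidClass.coe_pow, pow_two, OneMemClass.coe_one]; exact c2 _ ha)⟩
  have hcA : Nat.card (A.subgroupOf P) = 2 ^ 11 := by
    rw [Nat.card_congr (Subgroup.subgroupOfEquivOfLe hAP).toEquiv, c3]
  have huniq : ∀ B : Subgroup P, Cfsg.IsElementaryAbelian 2 B → 2 ^ 11 ≤ Nat.card B → B = A.subgroupOf P := by
    intro B hB hcard
    refine Subgroup.map_injective P.subtype_injective ?_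
    rw [Subgroup.map_subgroupOf_eq_of_le hAP]
    refine unique_conj C (Subgroup.map_subtype_le B) ?_ ?_ ?_
    · rintro _ ⟨a, ha, rfl⟩ _ ⟨b, hb, rfl⟩
      haveI := hB.1
      rw [← map_mul, ← map_mul]
      exact congrArg P.subtype (congrArg Subtype.val (mul_comm' (⟨a, ha⟩ : B) ⟨b, hb⟩))
    · rintro _ ⟨a, ha, rfl⟩
      rw [← map_mul, ← pow_two, hB.2 a ha, map_one]
    · rwa [Subgroup.card_map_of_injective P.subtype_injective]
  have hmax : Cfsg.maxElementaryAbelianSubgroups 2 P = {A.subgroupOf P} := by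
    ext B
    rw [Set.mem_singleton_iff]
    refine ⟨fun hB => huniq B hB.1 (hcA ▸ hB.2 _ hel), fun hB => ?_⟩
    subst hB
    exact ⟨hel, fun B hB => by
      by_contra h
      exact h (le_of_eq (congrArg (fun H : Subgroup P => Nat.card H) (huniq B hB (by rw [hcA] at h; omega))))⟩
  rw [Cfsg.thompsonSubgroupOf, Cfsg.thompsonSubgroup, hmax, sSup_singleton,
    Subgroup.map_subgroupOf_eq_of_le hAP]

end Cfsg.Agent.LFType10
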