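import Cfsg.Agent.LFType10.Gamma

/-!
The order of the group of semilinear isometries preserving the short orbit is less than three times
the order of the centraliser modulo its extraspecial subgroup.
-/
set_option autoImplicit false

namespace Cfsg.Agent.LFType10

open Cfsg.Agent.LFType23

/-- The polar form on codes. -/
def bfN (m n : ℕ) : Bool := decide (bf (dec m) (dec n) = 0)

/-- Candidates for the image of `r` when the listed vectors are fixed. -/
def cand (prev : List ℕ) (r : ℕ) : List ℕ :=
  smallL.filter fun x => prev.all fun p => bfN x p == bfN r p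

/-- The chain of fixed vectors, each with its multiple by the scalar. -/
def base (k : ℕ) : List ℕ :=
  [5, 10, 524, 772, 3439, 1717, 112, 144, 1702, 3067, 194, 67].take (2 * k)

theorem base_check : (base 6 == [5, 10, 524, 772, 3439, 1717, 112, 144, 1702, 3067, 194, 67] &&
    [5, 524, 3439, 112, 1702, 194].map (app omL) == [10, 772, 1717, 144, 3067, 67] &&
    ([5, 524, 3439, 112, 1702, 194].all smallB) &&
    app omL 10 == 15 && smallL.length == 378 &&
    (cand (base 1) 524).length == 80 && (cand (base 2) 3439).length == 28 &&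
    (cand (base 3) 112).length == 12 && (cand (base 4) 1702).length == 1 &&
    (cand (base 5) 194).length == 2 &&
    ((List.range 12).all fun k => (List.range 4096).any fun m => app (base 6) m == 2 ^ k)) = true := by
  decide +kernel

theorem om_coded (u : V) : enc (om u) = app omL (enc u) := coded_tab om_add u

theorem fix_app {f : V → V} (hf : ∀ u w, f (u + w) = f u + f w) : ∀ (l : List ℕ),
    (∀ a ∈ l, f (dec a) = dec a) → ∀ n, f (dec (app l n)) = dec (app l n)
  | [], _, _ => by
    have := hf 0 0
    rw [add_zero] at this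
    simp only [app, dec_zero]
    exact left_eq_add.1 this
  | a :: l, h, n => by
    simp only [app]
    rw [dec_xor, hf, fix_app hf l (fun b hb => h b (List.mem_cons_of_mem _ hb))]
    split_ifs
    · rw [h a (List.mem_cons_self ..)]
    · have := hf 0 0
      rw [add_zero] at this
      rw [dec_zero, left_eq_add.1 this]

theorem card_le : Nat.card Gam ≤ 40642560 := by
  classical
  have hc := base_check
  simp only [Bool.and_eq_true, beq_iff_eq] at hc
  obtain ⟨⟨⟨⟨⟨⟨⟨⟨⟨⟨hb, hom⟩, hsm⟩, h15⟩, hl⟩, c1⟩, c2⟩, c3⟩, c4⟩, c5⟩, hspan⟩ := hc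
  have hsmall : ∀ a ∈ [5, 524, 3439, 112, 1702, 194], Small (dec a) := fun a ha => by
    have h1 : smallB a = true := List.all_eq_true.1 hsm a ha
    rw [small_iff, enc_dec]
    · exact h1
    · rcases List.mem_cons.1 ha with rfl | ha
      · norm_num
      · revert a; decide
  let H : ℕ → Subgroup (Equiv.Perm V) := fun k =>
    { carrier := {f | Good f ∧ ∀ a ∈ base k, f (dec a) = dec a}
      mul_mem' := fun {f g} hf hg => ⟨Gam.mul_mem hf.1 hg.1, fun a ha => by
        rw [Equiv.Perm.mul_apply, hg.2 a ha, hf.2 a ha]⟩
      one_mem' := ⟨Gam.one_mem, fun _ _ => rfl⟩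
      inv_mem' := fun {f} hf => ⟨Gam.inv_mem hf.1, fun a ha => by
        rw [Equiv.Perm.inv_eq_iff_eq, hf.2 a ha]⟩ }
  have lin : ∀ {f : Equiv.Perm V}, Good f → f (dec 5) = dec 5 → f (dec 10) = dec 10 →
      ∀ u, f (om u) = om (f u) := by
    intro f hf h5 h10
    rcases hf.2.2.1 with h | h
    · exact h
    · exfalso
      have e : om (dec 5) = dec 10 := enc_injective (by
        rw [om_coded, enc_dec (by norm_num), enc_dec (by norm_num)]
        exact List.cons.inj hom |>.1)
      have := h (dec 5)
      rw [e, h10, h5, e] at this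
      exact absurd this.symm (by
        intro h'
        have := congrArg enc h'
        rw [om_coded, enc_dec (by norm_num), h15] at this
        omega)
  -- one step of the chain
  have step : ∀ k r, k < 6 → r ∈ [5, 524, 3439, 112, 1702, 194] → r < 4096 →
      base (k + 1) = base k ++ [r, app omL r] → (1 ≤ k) → ∀ n, (cand (base k) r).length = n →
      Nat.card (H k) ≤ n * Nat.card (H (k + 1)) := by
    intro k r _ hr hr' hbase hk n hn
    refine le_trans (card_le_mul_stab (H k) (dec r) n ((cand (base k) r).map dec).toFinset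
      (le_trans (List.toFinset_card_le _) (by rw [List.length_map, hn])) ?_) ?_
    · intro f hf
      rw [List.mem_toFinset, List.mem_map]
      refine ⟨enc (f (dec r)), ?_, dec_enc _⟩
      rw [cand, List.mem_filter]
      refine ⟨mem_smallL.2 (hf.1.2.2.2 _ (hsmall r hr)), List.all_eq_true.2 fun p hp => ?_⟩
      rw [beq_iff_eq, bfN, bfN, dec_enc]
      conv_lhs => rw [← hf.2 p hp, hf.1.2.1]
    · refine Nat.mul_le_mul le_rfl (Nat.card_le_card_of_injective (fun f => (⟨f.1, f.2.1.1, ?_⟩ : H (k + 1)))
        fun a b e => Subtype.ext (congrArg (fun t : H (k + 1) => t.1) e))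
      intro a ha
      rw [hbase, List.mem_append] at ha
      rcases ha with ha | ha
      · exact f.2.1.2 a ha
      · have hfr : f.1 (dec r) = dec r := f.2.2
        have h5 : 5 ∈ base k ∧ 10 ∈ base k := by
          obtain ⟨j, rfl⟩ : ∃ j, k = j + 1 := ⟨k - 1, by omega⟩
          constructor <;> simp [base, Nat.mul_succ, List.take_succ_cons]
        rw [List.mem_cons, List.mem_singleton] at ha
        rcases ha with rfl | rfl
        · exact hfr
        · have : dec (app omL r) = om (dec r) := by rw [← dec_enc (om (dec r)), om_coded, enc_dec hr']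
          rw [this, lin f.2.1.1 (f.2.1.2 5 h5.1) (f.2.1.2 10 h5.2), hfr]
  -- the first two vectors
  have s0 : Nat.card Gam ≤ 378 * (2 * Nat.card (H 1)) := by
    refine le_trans (card_le_mul_stab Gam (dec 5) 378 (smallL.map dec).toFinset
      (le_trans (List.toFinset_card_le _) (by rw [List.length_map, hl])) fun f hf => ?_) ?_
    · rw [List.mem_toFinset, List.mem_map]
      exact ⟨_, mem_smallL.2 (hf.2.2.2 _ (hsmall 5 (by simp))), dec_enc _⟩
    · refine Nat.mul_le_mul le_rfl ?_
      refine le_trans (card_le_mul_stab _ (dec 10) 2 {dec 10, dec 15} Finset.card_le_two ?_) ?_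
      · intro f hf
        have h5 : f (dec 5) = dec 5 := hf.2
        have e : om (dec 5) = dec 10 := enc_injective (by
          rw [om_coded, enc_dec (by norm_num), enc_dec (by norm_num)]
          exact List.cons.inj hom |>.1)
        have e' : om (dec 10) = dec 15 := enc_injective (by
          rw [om_coded, enc_dec (by norm_num), enc_dec (by norm_num), h15])
        rcases hf.1.2.2.1 with h | h <;>
          · rw [← e, h, h5, e]
            simp [e']
      · refine Nat.mul_le_mul le_rfl (Nat.card_le_card_of_injective
          (fun f => (⟨f.1, f.2.1.1, ?_⟩ : H 1)) fun a b e => Subtype.ext (congrArg (fun t : H 1 => t.1) e))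
        intro a ha
        simp only [base, List.take_succ_cons, List.take_zero, List.mem_cons, List.not_mem_nil, or_false] at ha
        rcases ha with rfl | rfl
        · exact f.2.1.2
        · exact f.2.2
  obtain ⟨hom1, hom2, hom3, hom4, hom5, hom6⟩ : app omL 5 = 10 ∧ app omL 524 = 772 ∧ app omL 3439 = 1717 ∧
      app omL 112 = 144 ∧ app omL 1702 = 3067 ∧ app omL 194 = 67 := by
    simpa using hom
  have s1 := step 1 524 (by norm_num) (by simp) (by norm_num) (by rw [hom2]; rfl) le_rfl 80 c1
  have s2 := step 2 3439 (by norm_num) (by simp) (by norm_num) (by rw [hom3]; rfl) (by norm_num) 28 c2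
  have s3 := step 3 112 (by norm_num) (by simp) (by norm_num) (by rw [hom4]; rfl) (by norm_num) 12 c3
  have s4 := step 4 1702 (by norm_num) (by simp) (by norm_num) (by rw [hom5]; rfl) (by norm_num) 1 c4
  have s5 := step 5 194 (by norm_num) (by simp) (by norm_num) (by rw [hom6]; rfl) (by norm_num) 2 c5
  have s6 : Nat.card (H 6) = 1 := by
    have : H 6 = ⊥ := by
      refine (Subgroup.eq_bot_iff_forall _).2 fun f hf => Equiv.ext fun u => ?_
      refine additive_ext hf.1.1 (g := id) (fun _ _ => rfl) (fun k hk => ?_) u
      obtain ⟨m, _, hm⟩ := List.any_eq_true.1 (List.all_eq_true.1 hspan k (List.mem_range.2 hk))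
      rw [beq_iff_eq] at hm
      rw [← hm]
      exact fix_app hf.1.1 _ hf.2 m
    rw [this, Subgroup.card_bot]
  calc Nat.card Gam ≤ 378 * (2 * (80 * (28 * (12 * (1 * (2 * Nat.card (H 6))))))) := by
        refine s0.trans (Nat.mul_le_mul le_rfl (Nat.mul_le_mul le_rfl ?_))
        refine s1.trans (Nat.mul_le_mul le_rfl ?_)
        refine s2.trans (Nat.mul_le_mul le_rfl ?_)
        refine s3.trans (Nat.mul_le_mul le_rfl ?_)
        exact s4.trans (Nat.mul_le_mul le_rfl s5)
    _ = 40642560 := by rw [s6]

end Cfsg.Agent.LFType10
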