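import Cfsg.Agent.LFType10.Code
import Cfsg.Agent.LFType23.Orbit

/-!
The semilinear isometries preserving the short orbit, and the bound on their number.
-/
set_option autoImplicit false

namespace Cfsg.Agent.LFType10

open Cfsg.Agent.LFType23

/-- The short orbit for the class parameter one. -/
def Small (u : V) : Prop := qf u = 0 ∧ u ≠ 0 ∧ ¬ big 1 u

instance (u : V) : Decidable (Small u) := by unfold Small; infer_instance

/-- The codes of the short orbit, as a bit mask. -/
def smallM : ℕ :=
  148911498418594684741551492680134422351936038006009311236805487910781670985626768505827941084590323560191951288681030554005521579530219636424825232733176583684510223627804249576949117696699664225352205465152734079452297449565219539095640770190228016329737484716668801274167300474475560092823074004722101423933637558186102866802757865306465831582116527637380881256280888052709224641873151159099950045356017083993522633222011714209517843374688337523992683594811849861528499978899096801324943118679845641572346008782643882829203739355605314210304920370643582459620817285561841730481451091504090534803867034417684565225538074149404464092855628462531749430375543537928728464934328372013051036747788173108537904269638681550602040594181309780386599233560612042637620105092532849885859096192160446092728456129506475892608009833901585379629816311097274353803150645727849436721959298651404123953355280766771127174004527681859336828428017821074764303425770833688474340817281225683028941119681742536621768102317157418830468087853242483112099856162805185240610195658338342439964493193117762566194825080852675550073312353269660818011232620413111330194952857613709011668837622296617966320549159197903272587320658474219227538763080451432864508997344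

/-- The short orbit on codes. -/
def smallB (n : ℕ) : Bool := smallM.testBit n

theorem smallB_check : ((List.range 4096).all fun n => smallB n == decide (Small (dec n))) = true := by
  decide +kernel

theorem small_iff (u : V) : Small u ↔ smallB (enc u) = true := by
  have h := beq_iff_eq.1 (List.all_eq_true.1 smallB_check (enc u) (List.mem_range.2 (enc_lt_check u)))
  rw [dec_enc] at h
  rw [h, decide_eq_true_iff]

/-- The codes of the short orbit, as a list. -/
def smallL : List ℕ := (List.range 4096).filter smallB

theorem mem_smallL {u : V} : enc u ∈ smallL ↔ Small u := by
  rw [smallL, List.mem_filter, small_iff, List.mem_range]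
  exact ⟨fun h => h.2, fun h => ⟨enc_lt_check u, h⟩⟩

/-- The multiplication by the scalar, coded. -/
def omL : List ℕ := tab om

/-- Semilinear isometries preserving the short orbit. -/
def Good (f : Equiv.Perm V) : Prop :=
  (∀ u w, f (u + w) = f u + f w) ∧ (∀ u w, bf (f u) (f w) = bf u w) ∧
    ((∀ u, f (om u) = om (f u)) ∨ (∀ u, f (om u) = om (om (f u)))) ∧ ∀ u, Small u → Small (f u)

/-- The monoid of these maps. -/
def goodMonoid : Submonoid (Equiv.Perm V) where
  carrier := {f | Good f}
  mul_mem' := by
    rintro f g ⟨fa, fb, fl, fs⟩ ⟨ga, gb, gl, gs⟩
    refine ⟨fun u w => by simp [ga, fa], fun u w => by simp [fb, gb], ?_, fun u hu => fs _ (gs u hu)⟩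
    rcases fl with fl | fl <;> rcases gl with gl | gl
    · exact Or.inl fun u => by simp [gl, fl]
    · exact Or.inr fun u => by simp [gl, fl]
    · exact Or.inr fun u => by simp [gl, fl]
    · exact Or.inl fun u => by simp [gl, fl, om_cube]
  one_mem' := ⟨fun _ _ => rfl, fun _ _ => rfl, Or.inl fun _ => rfl, fun _ h => h⟩

/-- The group of these maps. -/
def Gam : Subgroup (Equiv.Perm V) where
  toSubmonoid := goodMonoid
  inv_mem' {f} hf := by
    have h1 : f⁻¹ = f ^ (orderOf f - 1) := by
      apply inv_eq_of_mul_eq_one_left
      rw [← pow_succ, Nat.sub_add_cancel (orderOf_pos f), pow_orderOf_eq_one]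
    rw [h1]
    exact goodMonoid.pow_mem hf _

theorem mem_Gam {f : Equiv.Perm V} : f ∈ Gam ↔ Good f := Iff.rfl

/-- An orbit bound for a subgroup of permutations. -/
theorem card_le_mul_stab {X : Type*} [Fintype X] [DecidableEq X] (H : Subgroup (Equiv.Perm X)) (x : X)
    (n : ℕ) (S : Finset X) (hS : S.card ≤ n) (h : ∀ f ∈ H, f x ∈ S) :
    Nat.card H ≤ n * Nat.card (H ⊓ MulAction.stabilizer (Equiv.Perm X) x : Subgroup (Equiv.Perm X)) := by
  classical
  rw [← (MulAction.stabilizer H x).card_mul_index, MulAction.index_stabilizer, mul_comm,
    ← Nat.card_coe_set_eq]
  refine Nat.mul_le_mul (le_trans ?_ hS) (le_of_eq (Nat.card_congr ?_))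
  · rw [← Nat.card_eq_finsetCard S]
    exact Nat.card_le_card_of_injective (fun y => (⟨y.1, by
      obtain ⟨g, hg⟩ := y.2
      rw [← hg]; exact h g g.2⟩ : S)) fun a b e => Subtype.ext (congrArg (fun t : S => t.1) e)
  · exact { toFun := fun g => ⟨g.1.1, g.1.2, g.2⟩
            invFun := fun g => ⟨⟨g.1, g.2.1⟩, g.2.2⟩
            left_inv := fun _ => rfl
            right_inv := fun _ => rfl }

end Cfsg.Agent.LFType10
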