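import Cfsg.Agent.LFType10.Real

/-!
Realised coded maps.
-/
set_option autoImplicit false

namespace Cfsg.Agent.LFType10

open Cfsg.Agent.LFType23

/-- The coded identity. -/
def idL : List ℕ := [1, 2, 4, 8, 16, 32, 64, 128, 256, 512, 1024, 2048]

theorem idL_check : ((List.range 4096).all fun n => app idL n == n) = true := by decide +kernel

theorem coded_id : Coded id idL := fun u =>
  (beq_iff_eq.1 (List.all_eq_true.1 idL_check _ (List.mem_range.2 (enc_lt_check u)))).symm

theorem idL_app (u : V) : app idL (enc u) = enc u := (coded_id u).symm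

/-- The map of a list. -/
def mapL (l : List ℕ) (u : V) : V := dec (app l (enc u))

/-- All entries are twelve-bit numbers. -/
def bnd (l : List ℕ) : Bool := l.all fun a => decide (a < 4096)

theorem coded_mapL {l : List ℕ} (h : bnd l = true) : Coded (mapL l) l := fun u =>
  enc_dec (app_lt l (fun a ha => of_decide_eq_true (List.all_eq_true.1 h a ha)) _)

theorem mapL_add (l : List ℕ) (u w : V) : mapL l (u + w) = mapL l u + mapL l w := by
  rw [mapL, mapL, mapL, enc_add, app_xor, dec_xor]

/-- The permutation of a pair of inverse lists. -/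
def lperm (l li : List ℕ) (hl : bnd l = true) (hli : bnd li = true)
    (h1 : cmp l li = idL) (h2 : cmp li l = idL) : Equiv.Perm V where
  toFun := mapL l
  invFun := mapL li
  left_inv u := by
    rw [mapL, coded_mapL hl, ← app_cmp, h2, idL_app, dec_enc]
  right_inv u := by
    rw [mapL, coded_mapL hli, ← app_cmp, h1, idL_app, dec_enc]

/-- A decidable form of `Good` for coded maps. -/
def goodB (l : List ℕ) : Bool :=
  bnd l && ((List.range 12).all fun i => (List.range 12).all fun j =>
      bfN (app l (2 ^ i)) (app l (2 ^ j)) == bfN (2 ^ i) (2 ^ j)) &&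
    ((cmp l omL == cmp omL l) || (cmp l omL == cmp omL (cmp omL l))) &&
    smallL.all fun a => smallB (app l a)

theorem bfN_eq {m n m' n' : ℕ} (h : bfN m n = bfN m' n') : bf (dec m) (dec n) = bf (dec m') (dec n') := by
  simp only [bfN, decide_eq_decide] at h
  revert h
  generalize bf (dec m) (dec n) = x
  generalize bf (dec m') (dec n') = y
  revert x y
  decide

theorem bf_ext {f g : V → V} (hf : ∀ u w, f (u + w) = f u + f w) (hg : ∀ u w, g (u + w) = g u + g w)
    (h : ∀ i < 12, ∀ j < 12, bf (f (dec (2 ^ i))) (g (dec (2 ^ j))) = bf (dec (2 ^ i)) (dec (2 ^ j)))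
    (u w : V) : bf (f u) (g w) = bf u w := by
  have key : ∀ (φ : V → ZMod 2), (∀ a b, φ (a + b) = φ a + φ b) → (∀ k < 12, φ (dec (2 ^ k)) = 0) →
      ∀ x, φ x = 0 := by
    intro φ hφ hk x
    let e : V → V := fun y => Pi.single 0 (φ y, 0)
    have he : ∀ a b, e (a + b) = e a + e b := fun a b => by
      simp only [e, hφ, ← Pi.single_add, Prod.mk_add_mk, add_zero]
    have := additive_ext he (g := fun _ => 0) (fun _ _ => by simp)
      (fun k hk' => by simp [e, hk k hk']) x
    simpa [e] using congrArg (fun v : V => (v 0).1) this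
  have h1 : ∀ i < 12, ∀ y, bf (f (dec (2 ^ i))) (g y) + bf (dec (2 ^ i)) y = 0 := fun i hi =>
    key _ (fun a b => by rw [hg, bf_add_right, bf_add_right]; abel)
      fun j hj => by rw [h i hi j hj, ← two_mul, show (2 : ZMod 2) = 0 from rfl, zero_mul]
  have h2 := key (fun x => bf (f x) (g w) + bf x w)
    (fun a b => by rw [hf, bf_add_left, bf_add_left]; abel) (fun i hi => h1 i hi w) u
  revert h2
  generalize bf (f u) (g w) = x
  generalize bf u w = y
  revert x y
  decide

theorem good_of_goodB {l : List ℕ} (h : goodB l = true) {f : Equiv.Perm V} (hf : ∀ u, f u = mapL l u) :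
    Good f := by
  simp only [goodB, Bool.and_eq_true] at h
  obtain ⟨⟨⟨hb, hbf⟩, hom⟩, hsm⟩ := h
  have hadd : ∀ u w, f (u + w) = f u + f w := fun u w => by simp only [hf, mapL_add]
  have hc : Coded f l := fun u => by rw [hf]; exact coded_mapL hb u
  have hco : Coded om omL := om_coded
  refine ⟨hadd, ?_, ?_, fun u hu => ?_⟩
  · refine bf_ext hadd hadd fun i hi j hj => ?_
    have := bfN_eq (beq_iff_eq.1 (List.all_eq_true.1 (List.all_eq_true.1 hbf i (List.mem_range.2 hi)) j
      (List.mem_range.2 hj)))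
    rwa [hc.apply, hc.apply, enc_dec (Nat.pow_lt_pow_right (by norm_num) hi),
      enc_dec (Nat.pow_lt_pow_right (by norm_num) hj)]
  · simp only [Bool.or_eq_true, beq_iff_eq] at hom
    rcases hom with e | e
    · exact Or.inl fun u => congrFun ((hc.comp hco).eq (g := om ∘ f) (by rw [e]; exact hco.comp hc)) u
    · exact Or.inr fun u => congrFun ((hc.comp hco).eq (g := om ∘ om ∘ f) (by rw [e]; exact hco.comp (hco.comp hc))) u
  · rw [small_iff, hc u]
    exact List.all_eq_true.1 hsm _ (mem_smallL.2 hu)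

variable {G : Type*} [Group G] {z : G} {Q : Subgroup G}

/-- A coded map is realised. -/
def RealL (F : Frame z Q) (l : List ℕ) : Prop := ∃ h, Commute h z ∧ Coded (F.pi h) l

theorem RealL.comp {F : Frame z Q} {l m : List ℕ} (hl : RealL F l) (hm : RealL F m) : RealL F (cmp l m) := by
  obtain ⟨a, ha, ea⟩ := hl
  obtain ⟨b, hb, eb⟩ := hm
  exact ⟨a * b, ha.mul_left hb, fun u => by rw [F.pi_mul ha hb]; exact ea.comp eb u⟩

theorem realL_id (F : Frame z Q) : RealL F idL :=
  ⟨1, Commute.one_left z, fun u => by rw [F.pi_one]; exact coded_id u⟩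

theorem RealL.inv {F : Frame z Q} {l li : List ℕ} (hl : RealL F l) (hli : bnd li = true)
    (h : cmp l li = idL) : RealL F li := by
  obtain ⟨a, ha, ea⟩ := hl
  refine ⟨a⁻¹, ha.inv_left, fun u => ?_⟩
  have h1 : F.pi a (mapL li u) = u :=
    congrFun ((ea.comp (coded_mapL hli)).eq (h ▸ coded_id : Coded id (cmp l li))) u
  conv_lhs => rw [← h1, F.pi_inv_apply ha]
  exact coded_mapL hli u

theorem RealL.conj [Finite G] {F : Frame z Q} (hcl : F.Classes 1) {l g gi : List ℕ} (hl : RealL F l)
    (hg : goodB g = true) (hgi : bnd gi = true) (h1 : cmp g gi = idL) (h2 : cmp gi g = idL) :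
    RealL F (cmp g (cmp l gi)) := by
  obtain ⟨a, ha, ea⟩ := hl
  have hgb : bnd g = true := by
    have h := hg
    simp only [goodB, Bool.and_eq_true] at h
    exact h.1.1.1
  obtain ⟨b, hb, eb⟩ := conj_mem hcl (f := piPerm F ha) ⟨a, ha, fun _ => rfl⟩
    (good_of_goodB hg (f := lperm g gi hgb hgi h1 h2) fun _ => rfl)
  refine ⟨b, hb, fun u => ?_⟩
  rw [eb]
  exact (coded_mapL hgb).comp (ea.comp (coded_mapL hgi)) u

theorem realL_perm (F : Frame z Q) (σ : Equiv.Perm (Fin 6)) (hσ : Equiv.Perm.sign σ = 1) :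
    RealL F (tab (perm σ)) := by
  obtain ⟨h, hh, he⟩ := F.perm_mem σ hσ
  exact ⟨h, hh, fun u => by rw [he]; exact coded_tab (perm_add σ) u⟩

theorem realL_diag (F : Frame z Q) (a : Fin 6 → ZMod 3) (ha : ∑ i, a i = 0) :
    RealL F (tab (diag a)) := by
  obtain ⟨h, hh, he⟩ := F.diag_mem a ha
  exact ⟨h, hh, fun u => by rw [he]; exact coded_tab (diag_add a) u⟩

end Cfsg.Agent.LFType10
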