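/-!
The possible coordinates of the noncentral lifts, and words for elements of odd order.
-/
set_option autoImplicit false

namespace Cfsg.Agent.LFType10

/-- The noncentral lifts of the sixteen maps in coordinates, for the four possible sign pairs. -/
def aCodes : List (List Nat) :=
  [[0, 64, 128, 256, 512, 192, 320, 576, 384, 640, 768, 448, 704, 832, 896, 960],
  [0, 64, 128, 256, 512, 192, 320, 576, 384, 640, 768, 1472, 1728, 1856, 1920, 1984],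
  [0, 64, 128, 256, 512, 1216, 1344, 1600, 1408, 1664, 1792, 1472, 1728, 1856, 1920, 960],
  [0, 64, 128, 256, 512, 1216, 1344, 1600, 1408, 1664, 1792, 448, 704, 832, 896, 1984]]

/-- A word of order five in the monomial generators. -/
def word5 : List Nat :=
  [1, 1, 1]

/-- Words for a group of order twenty-seven in the monomial generators. -/
def words27 : List (List Nat) :=
  [[],
  [1, 1, 0, 0, 1, 0],
  [0, 1, 1, 1, 1, 0, 0, 1],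
  [1, 0, 0, 1, 1, 0, 1, 1, 0],
  [0, 1, 1, 1, 1, 0, 1, 1, 0, 1, 0],
  [0, 1, 1, 0, 1, 0, 1, 0, 0, 1, 0],
  [1, 1, 0, 1, 0, 0, 1, 0, 1, 0, 1],
  [0, 0, 0, 1, 0, 0, 1, 1, 0, 1],
  [0, 1, 1, 0, 1, 1, 0, 1, 0, 0],
  [1, 0, 1, 1, 0, 0, 1, 0, 0],
  [0, 0, 1, 0, 1, 0, 0, 1, 0, 0],
  [0, 0, 1, 0, 1, 1, 0, 1, 1],
  [0, 0, 1, 0, 0, 1, 0, 1, 0],
  [1, 1, 0, 0, 0, 1, 0, 0, 1],
  [1, 0, 1, 0, 1, 1, 0, 0, 1, 0, 1, 0, 1],
  [0, 1, 1, 0, 1, 0, 1, 1, 1, 1],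
  [1, 0, 1, 1, 1, 1, 0, 0, 1, 1, 0, 0, 1],
  [1, 0, 1, 1, 0, 1, 0, 0, 0, 1],
  [1, 1, 0, 0, 1, 0, 0, 0, 0, 0],
  [0, 1, 0, 1, 1, 1, 1, 0],
  [0, 1, 0, 0, 0, 1, 0, 0, 1, 1],
  [1, 1, 1, 1, 0, 0, 1, 0, 0, 0],
  [1, 0, 0, 0, 1, 1, 0, 1, 0, 0, 0],
  [1, 1, 1, 0, 0, 1, 0, 1],
  [0, 0, 0, 1, 1, 0, 1, 0, 1],
  [0, 0, 0, 0],
  [0, 0, 0, 0, 0, 0, 0, 0]]

end Cfsg.Agent.LFType10
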