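import Cfsg.Agent.Lib.Golay.Transitive

/-!
The points and the noncentral class in coordinates of the large elementary abelian subgroup.
-/
set_option autoImplicit false

namespace Cfsg.Agent.LFType10

/-- The coordinates of the twenty-four points, by their index. -/
def ddL : List ℕ :=
  [21, 42, 65, 86, 138, 104, 144, 1599, 292, 165, 546, 516, 1215, 1023, 1151, 1990, 274, 1087, 2017, 2008, 1343, 265, 537, 0]

/-- The noncentral class in coordinates, as a bit mask. -/
def TM : ℕ :=
  9893202553254036894111977669411611130116762030383930765240749007868920218089609325947465997198015073667531398585054526989811695008033418297343791277113612105953899757440581252441139754296691848451857063279732623098693879549930111127552504569120101243137929883402224677706094782782854000339083110024350144808610667278179991796060180851924608344125452887949821698075896587520524550662142746787854381834348386288099979229609169340610516817278143265322951400922379656697925777994075767065694793890176471344631738359244151669363042122641030790967643660844767035021928996265398145855599235069928649689935963020987465728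

/-- Not the identity and not conjugate to the given element. -/
def NotCentral {G : Type*} [Group G] (z a : G) : Prop := a ≠ 1 ∧ ¬ IsConj z a

/-- Coordinates of an elementary abelian subgroup of order 2^11 carrying the noncentral class. -/
structure Coords {G : Type*} [Group G] (A : Subgroup G) (T : G → Prop) where
  psi : ℕ → G
  mem : ∀ n < 2048, psi n ∈ A
  surj : ∀ a ∈ A, ∃ n < 2048, psi n = a
  hom : ∀ a b, a < 2048 → b < 2048 → psi (a ^^^ b) = psi a * psi b
  inj : ∀ a b, a < 2048 → b < 2048 → psi a = psi b → a = b
  hT : ∀ n < 2048, (T (psi n) ↔ TM.testBit n = true)
  conjT : ∀ h a, T (h * a * h⁻¹) ↔ T a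

theorem dd_check : (ddL.length == 24 && ddL.all (fun d => decide (d < 2048)) && ddL.getD 23 1 == 0 &&
    ((List.range 24).all fun i => (List.range i).all fun j => TM.testBit (ddL.getD i 0 ^^^ ddL.getD j 0)) &&
    (((List.range 2048).filter TM.testBit).length == 276)) = true := by decide +kernel

end Cfsg.Agent.LFType10
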