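import Cfsg.Agent.LFType10.Sign
import Cfsg.Agent.LFType10.ModelCodes
import Cfsg.Agent.LFType10.PointData

/-!
Coordinates on the large elementary abelian subgroup in which the noncentral class is the listed one.
-/
set_option autoImplicit false

namespace Cfsg.Agent.LFType10

open Cfsg.Agent.LFType23

section PowerProduct

variable {G : Type*} [Group G]

/-- The product of the entries at the set bits. -/
def pw : List G → ℕ → G
  | [], _ => 1
  | a :: l, n => (if n % 2 = 1 then a else 1) * pw l (n / 2)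

theorem pw_zero : ∀ l : List G, pw l 0 = 1
  | [] => rfl
  | a :: l => by simp [pw, pw_zero l]

theorem pw_mem {H : Subgroup G} : ∀ {l : List G}, (∀ a ∈ l, a ∈ H) → ∀ n, pw l n ∈ H
  | [], _, _ => one_mem _
  | a :: l, h, n => by
    refine mul_mem ?_ (pw_mem (fun b hb => h b (List.mem_cons_of_mem _ hb)) _)
    split_ifs
    exacts [h a (List.mem_cons_self ..), one_mem _]

theorem pw_xor {H : Subgroup G} (hc : ∀ a ∈ H, ∀ b ∈ H, a * b = b * a) (hs : ∀ a ∈ H, a * a = 1) :
    ∀ {l : List G}, (∀ a ∈ l, a ∈ H) → ∀ m n, pw l (m ^^^ n) = pw l m * pw l n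
  | [], _, _, _ => (one_mul 1).symm
  | a :: l, h, m, n => by
    have hl : ∀ b ∈ l, b ∈ H := fun b hb => h b (List.mem_cons_of_mem _ hb)
    have ha := h a (List.mem_cons_self ..)
    simp only [pw]
    rw [show (m ^^^ n) / 2 = m / 2 ^^^ n / 2 from Nat.xor_div_two .., pw_xor hc hs hl]
    have key : ∀ k, (k % 2 = 1) = (k.testBit 0 = true) := fun k => by simp [Nat.testBit_zero]
    simp only [key, Nat.testBit_xor]
    have e1 : ∀ x y : Bool, (if (x != y) = true then a else 1) =
        (if x = true then a else 1) * (if y = true then a else 1) := by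
      intro x y; cases x <;> cases y <;> simp [hs a ha]
    rw [e1]
    generalize hX : (if m.testBit 0 = true then a else (1 : G)) = X
    generalize hY : (if n.testBit 0 = true then a else (1 : G)) = Y
    have hYH : Y ∈ H := by rw [← hY]; split_ifs; exacts [ha, one_mem _]
    have e := hc Y hYH _ (pw_mem hl (m / 2))
    calc X * Y * (pw l (m / 2) * pw l (n / 2)) = X * (Y * pw l (m / 2)) * pw l (n / 2) := by group
      _ = X * (pw l (m / 2) * Y) * pw l (n / 2) := by rw [e]
      _ = _ := by group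

theorem pw_append : ∀ (l₁ l₂ : List G) (n : ℕ), pw (l₁ ++ l₂) n = pw l₁ n * pw l₂ (n / 2 ^ l₁.length)
  | [], l₂, n => by simp [pw]
  | a :: l, l₂, n => by
    simp only [List.cons_append, pw, List.length_cons]
    rw [pw_append l l₂, mul_assoc, Nat.div_div_eq_div_mul, ← pow_succ']

end PowerProduct

variable {G : Type*} [Group G] [Finite G] {z : G} {Q : Subgroup G} (C : Ctx z Q)

/-- The basis. -/
noncomputable def gens11 : List G :=
  (bU6.map fun b => pl C (dec b)) ++ [av C 1, av C 2, av C 3, av C 4, z]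

theorem bU6_mem : ∀ b ∈ bU6, b ∈ Ulist := by decide +kernel

theorem gens11_mem : ∀ a ∈ gens11 C, a ∈ Ct C.F := by
  intro a ha
  simp only [gens11, List.mem_append, List.mem_map, List.mem_cons, List.not_mem_nil, or_false] at ha
  rcases ha with ⟨b, hb, rfl⟩ | rfl | rfl | rfl | rfl | rfl
  · exact Ut_le_Ct C.F (pl_spec C (inU_dec (bU6_mem b hb))).1
  · exact (av_spec C (i := 1) le_rfl (by norm_num)).1.1
  · exact (av_spec C (i := 2) (by norm_num) (by norm_num)).1.1
  · exact (av_spec C (i := 3) (by norm_num) (by norm_num)).1.1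
  · exact (av_spec C (i := 4) (by norm_num) (by norm_num)).1.1
  · exact z_mem_Ct C

/-- The element with given coordinates. -/
noncomputable def psi (n : ℕ) : G := pw (gens11 C) n

theorem psi_mem (n : ℕ) : psi C n ∈ Ct C.F := pw_mem (gens11_mem C) n

theorem psi_hom (m n : ℕ) : psi C (m ^^^ n) = psi C m * psi C n :=
  pw_xor (Ct_comm C) (elementary_Ct C) (gens11_mem C) m n

theorem psi_zero : psi C 0 = 1 := pw_zero _

theorem psi_high : psi C 64 = av C 1 ∧ psi C 128 = av C 2 ∧ psi C 256 = av C 3 ∧ psi C 512 = av C 4 ∧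
    psi C 1024 = z := by
  simp [psi, gens11, pw_append, pw, bU6]

theorem pw_pl : ∀ (l : List ℕ), (∀ b ∈ l, b ∈ Ulist) → ∀ n, InU (dec (app l n)) ∧
    pw (l.map fun b => pl C (dec b)) n = pl C (dec (app l n))
  | [], _, n => by
    simp only [app, dec_zero]
    exact ⟨inU_zero, (pl_zero C).symm⟩
  | b :: l, h, n => by
    obtain ⟨h1, h2⟩ := pw_pl l (fun a ha => h a (List.mem_cons_of_mem _ ha)) (n / 2)
    have hb := inU_dec (h b (List.mem_cons_self ..))
    simp only [app, List.map_cons, pw, h2]
    split_ifs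
    · rw [dec_xor]
      exact ⟨inU_add hb h1, (pl_add C hb h1).symm⟩
    · rw [Nat.zero_xor, one_mul]
      exact ⟨h1, rfl⟩

theorem psi_low {m : ℕ} (hm : m < 64) : psi C m = pl C (dec (app bU6 m)) := by
  rw [psi, gens11, pw_append, (pw_pl C bU6 bU6_mem m).2, show (bU6.map fun b => pl C (dec b)).length = 6 from rfl,
    Nat.div_eq_of_lt (show m < 2 ^ 6 from hm), pw_zero, mul_one]

theorem psi_bit (e : ZMod 2) : psi C (if e = 0 then 0 else 1024) = zp C e := by
  unfold zp; split_ifs
  exacts [psi_zero C, (psi_high C).2.2.2.2]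

/-- The coordinates of the noncentral lift with given index for given signs. -/
def aCode (s : ZMod 2 × ZMod 2) (i : ℕ) : ℕ := (aCodes.getD (2 * s.1.val + s.2.val) []).getD i 0

theorem acode_check : ∀ s : ZMod 2 × ZMod 2, ([1, 2, 3, 4].map (aCode s) == [64, 128, 256, 512] &&
    aCode s 0 == 0 &&
    ((List.range derL.length).all fun p =>
      let e := derL.getD p (0, 0, 0, 0)
      aCode s e.1 == (if (if e.2.2.2 == 0 then s.1 else s.2) = 0 then 0 else 1024) ^^^
          (aCode s e.2.1 ^^^ aCode s e.2.2.1) &&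
        [e.2.1, e.2.2.1].all fun i => ([1, 2, 3, 4] ++ (derL.take p).map fun t : ℕ × ℕ × ℕ × ℕ => t.1).contains i) &&
    (List.range 16).all fun i => i == 0 || ([1, 2, 3, 4] ++ derL.map fun t : ℕ × ℕ × ℕ × ℕ => t.1).contains i) = true := by
  decide +kernel

theorem psi_aCode {s : ZMod 2 × ZMod 2} (hs : ∀ e ∈ derL,
    av C e.1 = zp C (if e.2.2.2 == 0 then s.1 else s.2) * (av C e.2.1 * av C e.2.2.1))
    {i : ℕ} (hi : 1 ≤ i) (hi' : i < 16) : psi C (aCode s i) = av C i := by
  have hc := acode_check s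
  simp only [Bool.and_eq_true, beq_iff_eq, List.map_cons, List.map_nil, List.cons.injEq, and_true] at hc
  obtain ⟨⟨⟨⟨a1, a2, a3, a4⟩, -⟩, hder⟩, hall⟩ := hc
  obtain ⟨p1, p2, p3, p4, -⟩ := psi_high C
  have base : ∀ j ∈ [1, 2, 3, 4], psi C (aCode s j) = av C j := by
    intro j hj
    simp only [List.mem_cons, List.not_mem_nil, or_false] at hj
    rcases hj with rfl | rfl | rfl | rfl
    · rw [a1, p1]
    · rw [a2, p2]
    · rw [a3, p3]
    · rw [a4, p4]
  have key : ∀ p, p < derL.length → psi C (aCode s (derL.getD p (0, 0, 0, 0)).1) =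
      av C (derL.getD p (0, 0, 0, 0)).1 := by
    intro p
    induction p using Nat.strong_induction_on with
    | _ p ih =>
      intro hp
      have h := List.all_eq_true.1 hder p (List.mem_range.2 hp)
      simp only [Bool.and_eq_true, beq_iff_eq, List.all_cons, List.all_nil, Bool.and_true, List.contains_iff_mem,
        List.mem_append, List.mem_map] at h
      set e := derL.getD p (0, 0, 0, 0) with he
      obtain ⟨he1, hj1, hj2⟩ := h
      have dep : ∀ {j : ℕ}, (j ∈ [1, 2, 3, 4] ∨ ∃ t ∈ derL.take p, t.1 = j) → psi C (aCode s j) = av C j := by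
        rintro j (hj | ⟨t, ht, rfl⟩)
        · exact base j hj
        · obtain ⟨k, hk, rfl⟩ := List.getElem_of_mem ht
          rw [List.length_take] at hk
          have hk1 : k < derL.length := by omega
          have := ih k (by omega) hk1
          rwa [List.getD_eq_getElem _ _ hk1, ← List.getElem_take (h := by rw [List.length_take]; exact hk)] at this
      rw [he1, psi_hom, psi_hom, psi_bit, dep hj1, dep hj2, hs e (by
        rw [he, List.getD_eq_getElem _ _ hp]; exact List.getElem_mem _)]
      simp only [beq_iff_eq]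
  have h := List.all_eq_true.1 hall i (List.mem_range.2 hi')
  simp only [Bool.or_eq_true, beq_iff_eq, List.contains_iff_mem, List.mem_append, List.mem_map] at h
  rcases h.resolve_left (by omega) with hb | ⟨t, ht, rfl⟩
  · exact base i hb
  · obtain ⟨k, hk, rfl⟩ := List.getElem_of_mem ht
    have := key k hk
    rwa [List.getD_eq_getElem _ _ hk] at this

/-- The index of the map of an element in coordinates. -/
def idxT (s : ZMod 2 × ZMod 2) (n : ℕ) : ℕ :=
  ((List.range 16).find? fun i => aCode s i / 64 % 16 == n / 64 % 16).getD 0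

/-- The noncentral class in coordinates for given signs. -/
def tB (s : ZMod 2 × ZMod 2) (n : ℕ) : Bool :=
  let i := idxT s n
  let w := app bU6 (n % 64)
  if i == 0 then smallB w
  else (inn i).contains w && ((n.testBit 10 != (aCode s i).testBit 10) == smallB w)

theorem decomp_check : ∀ s : ZMod 2 × ZMod 2, ((List.range 2048).all fun n =>
    decide (idxT s n < 16) &&
      n == n % 64 ^^^ (if n.testBit 10 != (aCode s (idxT s n)).testBit 10 then 1024 else 0) ^^^ aCode s (idxT s n)) =
    true := by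
  decide +kernel

theorem psi_isT {s : ZMod 2 × ZMod 2} (hs : ∀ e ∈ derL,
    av C e.1 = zp C (if e.2.2.2 == 0 then s.1 else s.2) * (av C e.2.1 * av C e.2.2.1))
    {n : ℕ} (hn : n < 2048) : IsT C (psi C n) ↔ tB s n = true := by
  have h := List.all_eq_true.1 (decomp_check s) n (List.mem_range.2 hn)
  simp only [Bool.and_eq_true, decide_eq_true_eq, beq_iff_eq] at h
  obtain ⟨hi, hdec⟩ := h
  set i := idxT s n with hi0
  set w := app bU6 (n % 64) with hw0
  have hm : n % 64 < 64 := Nat.mod_lt _ (by norm_num)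
  have hwU : InU (dec w) := (pw_pl C bU6 bU6_mem _).1
  have hw : w ∈ Ulist := by
    have hU : ∀ m < 64, app bU6 m ∈ Ulist := by decide +kernel
    exact hU _ hm
  set b := n.testBit 10 != (aCode s i).testBit 10 with hb
  have hbit : psi C (if b then 1024 else 0) = zp C (if b then 1 else 0) := by
    cases b
    · simpa [zp] using psi_zero C
    · simpa [zp] using (psi_high C).2.2.2.2
  rw [show psi C n = psi C (n % 64) * psi C (if b then 1024 else 0) * psi C (aCode s i) by
    rw [← psi_hom, ← psi_hom, ← hdec], psi_low C hm, hbit]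
  rcases Nat.eq_zero_or_pos i with h0 | hpos
  · have hc := acode_check s
    simp only [Bool.and_eq_true, beq_iff_eq] at hc
    rw [h0, hc.1.1.2, psi_zero]
    have := el_zero_isT C hw (if b then 1 else 0)
    rw [pf_zero, el] at this
    rw [this]
    simp [tB, ← hi0, ← hw0, h0]
  · rw [psi_aCode C hs hpos hi, show pl C (dec w) * zp C (if b then 1 else 0) * av C i =
      el C (dec w) (if b then 1 else 0) (av C i) from rfl, isT_iff C hpos hi hw]
    have hb0 : (i == 0) = false := beq_eq_false_iff_ne.2 (by omega)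
    simp only [tB, ← hi0, ← hw0, hb0, Bool.false_eq_true, if_false, Bool.and_eq_true, List.contains_iff_mem,
      beq_iff_eq, sg, enc_dec (enc_lt_U hw), ← hb]
    refine and_congr_right fun _ => ?_
    cases b <;> cases smallB w <;> decide

theorem psi_surj {a : G} (ha : a ∈ Ct C.F) : ∃ n < 2048, psi C n = a := by
  obtain ⟨s, hs⟩ := exists_signs C
  obtain ⟨t, ht, rfl⟩ := par_surj C ha
  obtain ⟨hi, hn⟩ := mem_Dom.1 ht
  have hbit : ∀ e : ZMod 2, ∃ k < 2048, psi C k = zp C e := fun e =>
    ⟨_, by split_ifs <;> norm_num, psi_bit C e⟩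
  have hU : ∀ u ∈ Ulist, ∃ m < 64, app bU6 m = u := by decide +kernel
  obtain ⟨m, hm, hme⟩ := hU _ hn
  obtain ⟨k, hk, hke⟩ := hbit t.2.2
  have hp : ∃ p < 2048, psi C p = pf C t.1 := by
    rcases Nat.eq_zero_or_pos t.1 with h0 | hpos
    · exact ⟨0, by norm_num, by rw [h0, pf_zero, psi_zero]⟩
    · obtain ⟨hF, hc, -⟩ := av_spec C hpos hi
      obtain ⟨d, hd⟩ := Fx_pm C hF (pf_spec C hi).1 hc (pf_spec C hi).2
      obtain ⟨q, hq, hqe⟩ := hbit d
      have hlt : ∀ s : ZMod 2 × ZMod 2, ∀ i < 16, aCode s i < 2048 := by decide +kernel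
      refine ⟨q ^^^ aCode s t.1, Nat.xor_lt_two_pow (n := 11) hq (hlt s _ hi), ?_⟩
      have h := hd 0 0
      simp only [el, pl_zero, one_mul, zero_add, show zp C (0 : ZMod 2) = 1 from if_pos rfl] at h
      rw [psi_hom, hqe, psi_aCode C hs hpos hi, h]
  obtain ⟨p, hp, hpe⟩ := hp
  refine ⟨m ^^^ k ^^^ p, Nat.xor_lt_two_pow (n := 11) (Nat.xor_lt_two_pow (n := 11) (by omega) hk) hp, ?_⟩
  rw [psi_hom, psi_hom, psi_low C hm, hme, hke, hpe]
  rfl

theorem psi_inj {m n : ℕ} (hm : m < 2048) (hn : n < 2048) (h : psi C m = psi C n) : m = n := by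
  have hf : Function.Bijective (fun k : Fin 2048 => (⟨psi C k, psi_mem C k⟩ : Ct C.F)) := by
    refine (Nat.bijective_iff_surjective_and_card _).2 ⟨fun a => ?_, ?_⟩
    · obtain ⟨k, hk, e⟩ := psi_surj C a.2
      exact ⟨⟨k, hk⟩, Subtype.ext e⟩
    · rw [card_Ct C, Nat.card_fin]; norm_num
  exact congrArg Fin.val (hf.1 (a₁ := ⟨m, hm⟩) (a₂ := ⟨n, hn⟩) (Subtype.ext h))

/-- The number of noncentral elements whose product with a given one is noncentral. -/
def nbN (s : ZMod 2 × ZMod 2) (a : ℕ) : ℕ :=
  ((List.range 2048).filter fun t => tB s t && tB s (t ^^^ a)).length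

theorem count_check : ∀ s : ZMod 2 × ZMod 2,
    (if s = (0, 1) then (List.range 2048).all fun n => tB s n == TM.testBit n
    else tB s 21 && tB s 64 && nbN s 21 != nbN s 64) = true := by
  decide +kernel

theorem nb_const {s : ZMod 2 × ZMod 2} (hs : ∀ e ∈ derL,
    av C e.1 = zp C (if e.2.2.2 == 0 then s.1 else s.2) * (av C e.2.1 * av C e.2.2.1))
    {a b : ℕ} (ha : a < 2048) (hb : b < 2048) (hta : tB s a = true) (htb : tB s b = true) :
    nbN s a ≤ nbN s b := by
  classical
  obtain ⟨m, hm, hme⟩ := isT_orbit C (psi_mem C a) (psi_mem C b) ((psi_isT C hs ha).2 hta)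
    ((psi_isT C hs hb).2 htb)
  have hex : ∀ t, ∃ t' < 2048, psi C t' = m * psi C t * m⁻¹ := fun t =>
    psi_surj C (((mem_Nt C).1 hm _).1 (psi_mem C t))
  choose f hf hfe using hex
  have hnd : ∀ c, ((List.range 2048).filter fun t => tB s t && tB s (t ^^^ c)).Nodup :=
    fun c => List.nodup_range.filter _
  unfold nbN
  rw [← List.toFinset_card_of_nodup (hnd a), ← List.toFinset_card_of_nodup (hnd b)]
  refine Finset.card_le_card_of_injOn f (fun t ht => ?_) (fun t ht t' ht' e => ?_)
  · simp only [List.coe_toFinset, Set.mem_ofPred_eq, List.mem_filter, List.mem_range, Bool.and_eq_true] at ht ⊢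
    obtain ⟨htl, h1, h2⟩ := ht
    refine ⟨hf t, (psi_isT C hs (hf t)).1 ?_, (psi_isT C hs (Nat.xor_lt_two_pow (n := 11) (hf t) hb)).1 ?_⟩
    · rw [hfe, isT_conj]; exact (psi_isT C hs htl).2 h1
    · have e : psi C (f t ^^^ b) = m * psi C (t ^^^ a) * m⁻¹ := by
        rw [psi_hom, psi_hom, hfe, ← hme]; group
      rw [e, isT_conj]
      exact (psi_isT C hs (Nat.xor_lt_two_pow (n := 11) htl ha)).2 h2
  · simp only [List.coe_toFinset, Set.mem_ofPred_eq, List.mem_filter, List.mem_range] at ht ht'
    refine psi_inj C ht.1 ht'.1 ?_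
    have := (hfe t).symm.trans ((congrArg (psi C) e).trans (hfe t'))
    exact mul_left_cancel (mul_right_cancel this)

/-- Coordinates on the large elementary abelian subgroup. -/
theorem coords : Nonempty (Coords (Ct C.F) (NotCentral z)) := by
  obtain ⟨s, hs⟩ := exists_signs C
  have hc := count_check s
  have hs01 : s = (0, 1) := by
    by_contra h
    simp only [h, if_false, Bool.and_eq_true, bne_iff_ne, ne_eq] at hc
    exact hc.2 (le_antisymm (nb_const C hs (by norm_num) (by norm_num) hc.1.1 hc.1.2)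
      (nb_const C hs (by norm_num) (by norm_num) hc.1.2 hc.1.1))
  simp only [hs01, if_true, List.all_eq_true, List.mem_range, beq_iff_eq] at hc
  exact ⟨⟨psi C, fun n _ => psi_mem C n, fun a ha => psi_surj C ha, fun a b _ _ => psi_hom C a b,
    fun a b ha hb => psi_inj C ha hb, fun n hn => by
      rw [show NotCentral z (psi C n) ↔ IsT C (psi C n) from Iff.rfl, psi_isT C hs hn, hs01, hc n hn],
    fun h a => isT_conj C a h⟩⟩

end Cfsg.Agent.LFType10
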