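/-!
Orbits of the nonidentity maps and of their pairs, and how all maps arise from four of them.
-/
set_option autoImplicit false

namespace Cfsg.Agent.LFType10

/-- The orbit of single maps: index, parent, move. -/
def oneSt : List (Nat × Nat × Nat) :=
  [(1, 0, 2), (5, 0, 0), (9, 0, 1), (8, 1, 0), (13, 1, 1), (12, 2, 0), (14, 2, 1), (3, 3, 0), (10, 4, 0), (15, 4, 1), (4, 5, 0), (2, 6, 1), (6, 8, 1), (7, 9, 0), (11, 11, 1)]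

/-- The orbit of the first kind of pairs of maps: indices, parent, move. -/
def pairSt0 : List (Nat × Nat × Nat × Nat) :=
  [(1, 2, 0, 2),
  (5, 6, 0, 0),
  (9, 11, 0, 1),
  (8, 2, 1, 0),
  (13, 8, 1, 1),
  (12, 11, 2, 0),
  (14, 1, 2, 1),
  (3, 6, 3, 0),
  (10, 3, 4, 0),
  (15, 12, 4, 1),
  (4, 11, 5, 0),
  (3, 1, 5, 1),
  (9, 5, 6, 0),
  (2, 9, 6, 1),
  (10, 8, 7, 1),
  (15, 1, 8, 0),
  (6, 10, 8, 1),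
  (7, 4, 9, 0),
  (4, 3, 9, 1),
  (14, 11, 10, 0),
  (7, 1, 10, 1),
  (1, 5, 11, 0),
  (10, 9, 11, 1),
  (12, 8, 12, 0),
  (14, 13, 12, 1),
  (6, 12, 13, 0),
  (11, 14, 13, 1),
  (15, 3, 14, 0),
  (7, 5, 15, 0),
  (4, 9, 15, 1),
  (2, 15, 16, 0),
  (8, 6, 16, 1),
  (13, 14, 17, 0),
  (5, 7, 17, 1),
  (7, 10, 18, 1),
  (2, 1, 19, 1),
  (13, 5, 20, 0),
  (5, 9, 20, 1),
  (5, 8, 21, 0),
  (9, 13, 21, 1),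
  (6, 14, 22, 1),
  (3, 12, 23, 1),
  (9, 10, 24, 0),
  (2, 4, 25, 0),
  (8, 3, 25, 1),
  (11, 9, 26, 0),
  (4, 10, 27, 1),
  (5, 13, 28, 1),
  (14, 12, 29, 0),
  (7, 14, 29, 1),
  (6, 7, 30, 0),
  (11, 4, 30, 1),
  (3, 2, 31, 0),
  (15, 2, 32, 1),
  (8, 13, 33, 0),
  (13, 15, 34, 0),
  (6, 5, 35, 0),
  (15, 13, 36, 1),
  (8, 12, 37, 0),
  (13, 12, 38, 1),
  (12, 10, 39, 0),
  (14, 15, 39, 1),
  (1, 4, 41, 0),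
  (12, 15, 42, 0),
  (14, 6, 42, 1),
  (11, 7, 43, 1),
  (11, 12, 45, 0),
  (1, 14, 45, 1),
  (7, 6, 46, 1),
  (8, 10, 47, 0),
  (9, 4, 48, 0),
  (2, 3, 48, 1),
  (13, 9, 49, 0),
  (5, 2, 49, 1),
  (2, 13, 50, 0),
  (8, 5, 50, 1),
  (1, 7, 51, 1),
  (1, 6, 52, 0),
  (10, 11, 52, 1),
  (3, 10, 54, 0),
  (10, 7, 55, 0),
  (15, 4, 55, 1),
  (2, 8, 56, 0),
  (4, 15, 57, 1),
  (3, 4, 58, 0),
  (12, 3, 58, 1),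
  (10, 4, 59, 0),
  (9, 7, 61, 0),
  (5, 14, 62, 0),
  (4, 7, 63, 0),
  (9, 2, 64, 0),
  (11, 13, 65, 0),
  (1, 3, 66, 1),
  (13, 2, 68, 0),
  (3, 15, 69, 0),
  (12, 6, 69, 1),
  (12, 14, 70, 0),
  (14, 7, 70, 1),
  (6, 1, 71, 0),
  (11, 10, 71, 1),
  (10, 12, 72, 0),
  (15, 14, 72, 1),
  (13, 11, 73, 1),
  (11, 15, 74, 1),
  (3, 8, 75, 0),
  (12, 13, 75, 1),
  (9, 8, 77, 1),
  (15, 11, 78, 0),
  (1, 15, 79, 0),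
  (10, 6, 79, 1),
  (6, 3, 82, 0),
  (4, 1, 85, 0),
  (14, 5, 87, 1),
  (8, 9, 88, 0),
  (5, 1, 92, 0),
  (4, 2, 95, 0),
  (2, 5, 97, 1),
  (7, 9, 101, 0),
  (7, 11, 107, 0),
  (6, 8, 109, 1)]

/-- The orbit of the second kind of pairs of maps: indices, parent, move. -/
def pairSt1 : List (Nat × Nat × Nat × Nat) :=
  [(1, 8, 0, 2),
  (5, 3, 0, 0),
  (9, 12, 0, 1),
  (8, 1, 1, 0),
  (13, 10, 1, 1),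
  (12, 4, 2, 0),
  (14, 3, 2, 1),
  (3, 5, 3, 0),
  (12, 9, 3, 1),
  (10, 15, 4, 0),
  (15, 6, 4, 1),
  (4, 14, 5, 0),
  (3, 7, 5, 1),
  (9, 1, 6, 0),
  (2, 10, 6, 1),
  (10, 13, 7, 1),
  (4, 12, 8, 0),
  (3, 14, 8, 1),
  (15, 7, 9, 0),
  (6, 4, 9, 1),
  (7, 2, 10, 0),
  (4, 8, 10, 1),
  (14, 9, 11, 0),
  (1, 13, 12, 0),
  (10, 5, 12, 1),
  (12, 5, 13, 0),
  (6, 15, 14, 0),
  (11, 6, 14, 1),
  (15, 10, 15, 0),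
  (14, 4, 16, 0),
  (7, 3, 16, 1),
  (1, 9, 17, 0),
  (10, 2, 17, 1),
  (7, 13, 18, 0),
  (4, 5, 18, 1),
  (2, 14, 19, 0),
  (8, 7, 19, 1),
  (13, 6, 20, 0),
  (5, 11, 20, 1),
  (7, 12, 21, 1),
  (5, 10, 23, 0),
  (9, 15, 23, 1),
  (15, 8, 24, 0),
  (6, 13, 24, 1),
  (3, 13, 25, 1),
  (2, 7, 26, 0),
  (8, 4, 26, 1),
  (11, 2, 27, 0),
  (7, 15, 28, 0),
  (4, 6, 28, 1),
  (9, 14, 29, 0),
  (13, 1, 30, 0),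
  (5, 12, 31, 0),
  (6, 11, 32, 1),
  (5, 15, 33, 1),
  (14, 8, 34, 0),
  (6, 9, 35, 0),
  (8, 11, 38, 0),
  (13, 4, 39, 0),
  (8, 15, 40, 0),
  (12, 7, 41, 0),
  (1, 10, 44, 0),
  (11, 5, 45, 1),
  (1, 11, 47, 1),
  (13, 7, 48, 0),
  (5, 4, 48, 1),
  (14, 2, 49, 0),
  (7, 8, 49, 1),
  (15, 9, 51, 1),
  (13, 3, 52, 1),
  (2, 11, 53, 0),
  (9, 3, 55, 0),
  (2, 12, 55, 1),
  (8, 14, 56, 1),
  (3, 11, 57, 0),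
  (12, 1, 57, 1),
  (10, 14, 58, 0),
  (4, 13, 60, 0),
  (9, 6, 61, 1),
  (11, 8, 62, 0),
  (15, 5, 64, 1),
  (10, 1, 69, 0),
  (11, 1, 70, 1),
  (14, 10, 71, 1),
  (11, 3, 72, 1),
  (3, 9, 73, 0),
  (12, 2, 73, 1),
  (6, 2, 76, 1),
  (1, 12, 79, 1),
  (2, 6, 83, 1)]

/-- The remaining maps as products, with the kind of the pair. -/
def derL : List (Nat × Nat × Nat × Nat) :=
  [(5, 1, 2, 0), (6, 1, 3, 0), (7, 1, 4, 0), (8, 2, 3, 0), (11, 1, 8, 1), (9, 2, 4, 0), (12, 1, 9, 1), (10, 3, 4, 0), (13, 1, 10, 1), (14, 2, 10, 1), (15, 1, 14, 0)]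

end Cfsg.Agent.LFType10
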