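import Cfsg.Agent.LFType10.Model

/-!
The order of the normaliser of the large elementary abelian subgroup.
-/
set_option autoImplicit false

namespace Cfsg.Agent.LFType10

open Cfsg.Agent.LFType23

variable {G : Type*} [Group G] [Finite G] {z : G} {Q : Subgroup G} (C : Ctx z Q)

/-- The large elementary abelian subgroup contains its centraliser. -/
theorem cent_Ct : Subgroup.centralizer (Ct C.F : Set G) ≤ Ct C.F := fun a ha =>
  mem_Ct.2 fun u hu => (ha u (Ut_le_Ct C.F hu)).symm

/-- A word in the monomial generators. -/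
def wl (w : List ℕ) : List ℕ := w.foldr (fun j acc => LFType10.cmp (gUi j) acc) idL

theorem exists_wl : ∀ {w : List ℕ}, (∀ j ∈ w, j < 2) →
    ∃ k ∈ Nt C ⊓ Subgroup.centralizer ({z} : Set G), Coded (C.F.pi k) (wl w)
  | [], _ => ⟨1, one_mem _, fun u => by rw [C.F.pi_one]; exact (idL_app u).symm⟩
  | j :: w, h => by
    obtain ⟨k, hk, hke⟩ := exists_wl (fun i hi => h i (List.mem_cons_of_mem _ hi))
    obtain ⟨g, hg, -, hge, hgU⟩ := exists_gen C (h j (List.mem_cons_self ..))
    refine ⟨g * k, mul_mem ⟨Nt_of_inU C hg hgU, Subgroup.mem_centralizer_singleton_iff.2 hg⟩ hk, fun u => ?_⟩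
    rw [C.F.pi_mul hg (Subgroup.mem_centralizer_singleton_iff.1 hk.2)]
    exact (hge.comp hke) u

/-- The action of the stabiliser on the vectors. -/
noncomputable def stabHom : ↥(Nt C ⊓ Subgroup.centralizer ({z} : Set G)) →* Equiv.Perm V :=
  MonoidHom.mk' (fun s => piPerm C.F (Subgroup.mem_centralizer_singleton_iff.1 s.2.2)) fun a b =>
    Equiv.ext fun u => C.F.pi_mul (Subgroup.mem_centralizer_singleton_iff.1 a.2.2)
      (Subgroup.mem_centralizer_singleton_iff.1 b.2.2) u

theorem stabHom_apply (s : ↥(Nt C ⊓ Subgroup.centralizer ({z} : Set G))) (u : V) :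
    stabHom C s u = C.F.pi s u := rfl

theorem word5_facts : (∀ j ∈ word5, j < 2) ∧
    LFType10.cmp (wl word5) (LFType10.cmp (wl word5) (LFType10.cmp (wl word5) (LFType10.cmp (wl word5) (wl word5)))) = idL ∧
    ∃ n ∈ idL, app (wl word5) n ≠ n := by decide +kernel

theorem words27_facts : (∀ w ∈ words27, ∀ j ∈ w, j < 2) ∧ words27.length = 27 ∧
    (words27.map wl).Nodup ∧ idL ∈ words27.map wl ∧
    (∀ a ∈ words27.map wl, ∀ b ∈ words27.map wl, LFType10.cmp a b ∈ words27.map wl) ∧
    ∀ a ∈ words27.map wl, idL.map (app a) = a := by decide +kernel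

theorem five_dvd : 5 ∣ Nat.card ↥(Nt C ⊓ Subgroup.centralizer ({z} : Set G)) := by
  obtain ⟨hw, h5, n, hn, hne⟩ := word5_facts
  obtain ⟨k, hk, hke⟩ := exists_wl C hw
  haveI : Fact (Nat.Prime 5) := ⟨by norm_num⟩
  have h : orderOf (stabHom C ⟨k, hk⟩) = 5 := by
    refine orderOf_eq_prime (Equiv.ext fun u => ?_) fun h1 => hne ?_
    · have e := ((hke.comp (hke.comp (hke.comp (hke.comp hke)))).eq (g := id) (h5.symm ▸ coded_id))
      simp only [pow_succ, pow_zero, one_mul, Equiv.Perm.mul_apply, Equiv.Perm.coe_one, id_eq, stabHom_apply]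
      exact congrFun e u
    · have hlt : n < 4096 := by
        have key : ∀ n ∈ idL, n < 4096 := by decide +kernel
        exact key n hn
      have e := congrArg (fun f : Equiv.Perm V => enc (f (dec n))) h1
      simp only [stabHom_apply, Equiv.Perm.coe_one, id_eq] at e
      rwa [hke, enc_dec hlt] at e
  rw [← h]
  exact (orderOf_map_dvd _ _).trans (orderOf_dvd_natCard _)

theorem twenty_seven_dvd : 27 ∣ Nat.card ↥(Nt C ⊓ Subgroup.centralizer ({z} : Set G)) := by
  classical
  obtain ⟨hw, hlen, hnd, hone, hmul, hnorm⟩ := words27_facts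
  let M : Submonoid (Equiv.Perm V) :=
    { carrier := {f | f ∈ (stabHom C).range ∧ ∃ l ∈ words27.map wl, Coded f l}
      one_mem' := ⟨one_mem _, _, hone, coded_id⟩
      mul_mem' := by
        rintro f g ⟨hf, l, hl, el⟩ ⟨hg, m, hm, em⟩
        exact ⟨mul_mem hf hg, _, hmul l hl m hm, el.comp em⟩ }
  let H : Subgroup (Equiv.Perm V) :=
    { toSubmonoid := M
      inv_mem' := fun {f} hf => by
        have h1 : f⁻¹ = f ^ (orderOf f - 1) := by
          apply inv_eq_of_mul_eq_one_left
          rw [← pow_succ, Nat.sub_add_cancel (orderOf_pos f), pow_orderOf_eq_one]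
        rw [h1]
        exact M.pow_mem hf _ }
  have hle : H ≤ (stabHom C).range := fun f hf => hf.1
  have hcard : Nat.card H = 27 := by
    rw [← hlen, ← List.length_map (f := wl), ← List.toFinset_card_of_nodup hnd, ← Nat.card_eq_finsetCard]
    refine Nat.card_congr (Equiv.ofBijective
      (fun f => ⟨Classical.choose f.2.2, List.mem_toFinset.2 (Classical.choose_spec f.2.2).1⟩) ⟨?_, ?_⟩)
    · intro f g e
      have e1 := congrArg Subtype.val e
      simp only at e1
      exact Subtype.ext (Equiv.ext fun u => congrFun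
        ((Classical.choose_spec f.2.2).2.eq (g := (g : Equiv.Perm V))
          (e1 ▸ (Classical.choose_spec g.2.2).2)) u)
    · rintro ⟨l, hl⟩
      obtain ⟨w, hw', rfl⟩ := List.mem_map.1 (List.mem_toFinset.1 hl)
      obtain ⟨k, hk, hke⟩ := exists_wl C (hw w hw')
      have hf : stabHom C ⟨k, hk⟩ ∈ H := ⟨⟨_, rfl⟩, _, List.mem_map.2 ⟨w, hw', rfl⟩, fun u => hke u⟩
      refine ⟨⟨_, hf⟩, Subtype.ext ?_⟩
      obtain ⟨h1, h2⟩ := Classical.choose_spec hf.2
      show Classical.choose hf.2 = wl w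
      rw [← hnorm _ h1, ← hnorm _ (List.mem_map.2 ⟨w, hw', rfl⟩)]
      refine List.map_congr_left fun a ha => coded_unique h2 (fun u => hke u) ?_
      have key : ∀ n ∈ idL, n < 4096 := by decide +kernel
      exact key a ha
  rw [← hcard]
  exact (Subgroup.card_dvd_of_le hle).trans (Subgroup.card_range_dvd _)

theorem two_pow_dvd : 2 ^ 21 ∣ Nat.card ↥(Nt C ⊓ Subgroup.centralizer ({z} : Set G)) := by
  rw [← card_Syl C]
  exact Subgroup.card_dvd_of_le (le_inf
    (fun h hh => Nt_of_inU C (mem_Syl C |>.1 hh).1 fun u hu => Syl_inU C hh hu) (Syl_le C))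

theorem card_stab : 2 ^ 21 * 135 ≤ Nat.card ↥(Nt C ⊓ Subgroup.centralizer ({z} : Set G)) := by
  refine Nat.le_of_dvd Nat.card_pos ?_
  have h1 : Nat.Coprime 5 27 := by norm_num
  have h2 : Nat.Coprime (2 ^ 21) 135 := by norm_num
  exact h2.mul_dvd_of_dvd_of_dvd (two_pow_dvd C) (h1.mul_dvd_of_dvd_of_dvd (five_dvd C) (twenty_seven_dvd C))

theorem central_count : ((List.range 2048).filter fun n => n != 0 && !TM.testBit n).length = 1771 := by
  decide +kernel

/-- The lower bound for the order of the normaliser. -/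
theorem card_Nt : 244823040 * Nat.card (Ct C.F) ≤ Nat.card (Nt C) := by
  classical
  obtain ⟨K⟩ := coords C
  set L := ((List.range 2048).filter fun n => n != 0 && !TM.testBit n) with hL
  have hz : ∀ n ∈ L.toFinset, ∃ m ∈ Nt C, m * z * m⁻¹ = K.psi n := by
    intro n hn
    simp only [hL, List.mem_toFinset, List.mem_filter, List.mem_range, Bool.and_eq_true, bne_iff_ne, ne_eq,
      Bool.not_eq_true'] at hn
    obtain ⟨hlt, h0, hT⟩ := hn
    have h1 : K.psi n ≠ 1 := fun e => h0 (K.inj n 0 hlt (by norm_num) (by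
      have h00 := K.hom 0 0 (by norm_num) (by norm_num)
      simp only [Nat.xor_self] at h00
      rw [e, right_eq_mul.1 h00]))
    have hc : IsConj z (K.psi n) := by
      by_contra hne
      have := (K.hT n hlt).1 ⟨h1, hne⟩
      rw [hT] at this
      exact Bool.false_ne_true this
    obtain ⟨g, hg⟩ := isConj_iff.1 hc
    obtain ⟨m, hm, e⟩ := fusion C (z_mem_Ct C) (g := g) (by rw [hg]; exact K.mem n hlt)
    exact ⟨m, hm, e.trans hg⟩
  choose f hf hfe using hz
  let φ : L.toFinset × ↥(Nt C ⊓ Subgroup.centralizer ({z} : Set G)) → Nt C := fun x =>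
    ⟨f x.1.1 x.1.2 * x.2.1, mul_mem (hf _ x.1.2) x.2.2.1⟩
  have hinj : Function.Injective φ := by
    intro x y e
    have e1 : f x.1.1 x.1.2 * x.2.1 = f y.1.1 y.1.2 * y.2.1 := congrArg Subtype.val e
    have key : ∀ (x : L.toFinset × ↥(Nt C ⊓ Subgroup.centralizer ({z} : Set G))),
        (f x.1.1 x.1.2 * x.2.1) * z * (f x.1.1 x.1.2 * x.2.1)⁻¹ = K.psi x.1.1 := fun x => by
      rw [← hfe x.1.1 x.1.2]
      have hc : (x.2.1 : G) * z = z * x.2.1 := Subgroup.mem_centralizer_singleton_iff.1 x.2.2.2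
      calc f x.1.1 x.1.2 * x.2.1 * z * (f x.1.1 x.1.2 * x.2.1)⁻¹
          = f x.1.1 x.1.2 * (x.2.1 * z) * (x.2.1 : G)⁻¹ * (f x.1.1 x.1.2)⁻¹ := by group
        _ = _ := by rw [hc]; group
    have hlt : ∀ x : L.toFinset, (x : ℕ) < 2048 := fun x =>
      List.mem_range.1 (List.mem_of_mem_filter (List.mem_toFinset.1 x.2))
    have e2 : x.1 = y.1 := Subtype.ext (K.inj _ _ (hlt _) (hlt _) (by rw [← key x, ← key y, e1]))
    obtain ⟨a, s⟩ := x
    obtain ⟨b, t⟩ := y
    simp only at e2
    subst e2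
    exact Prod.ext rfl (Subtype.ext (mul_left_cancel e1))
  have h := Nat.card_le_card_of_injective φ hinj
  rw [Nat.card_prod, Nat.card_eq_finsetCard, List.toFinset_card_of_nodup (List.nodup_range.filter _), central_count] at h
  rw [card_Ct C]
  have := card_stab C
  calc 244823040 * 2 ^ 11 = 1771 * (2 ^ 21 * 135) := by norm_num
    _ ≤ 1771 * Nat.card ↥(Nt C ⊓ Subgroup.centralizer ({z} : Set G)) := Nat.mul_le_mul_left _ this
    _ ≤ _ := h

end Cfsg.Agent.LFType10
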