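import Cfsg.Agent.LFType10.ClassCheck

/-!
Conjugacy of the elements outside the preimage of the subspace.
-/
set_option autoImplicit false

namespace Cfsg.Agent.LFType10

open Cfsg.Agent.LFType23

variable {G : Type*} [Group G] [Finite G] {z : G} {Q : Subgroup G} (C : Ctx z Q)

/-- The element with given pure part, sign and fixed part. -/
noncomputable def el (w : V) (e : ZMod 2) (p : G) : G := pl C w * zp C e * p

/-- Not the identity and not conjugate to the central involution. -/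
def IsT (_C : Ctx z Q) (a : G) : Prop := a ≠ 1 ∧ ¬ IsConj z a

omit [Finite G] in
theorem isT_conj (a h : G) : IsT C (h * a * h⁻¹) ↔ IsT C a := by
  have hc : IsConj a (h * a * h⁻¹) := isConj_iff.2 ⟨h, rfl⟩
  refine and_congr (not_congr conj_eq_one_iff) (not_congr ⟨fun e => e.trans hc.symm, fun e => e.trans hc⟩)

/-- The parity of a short vector. -/
def sg (w : V) : ZMod 2 := if smallB (enc w) then 1 else 0

theorem el_mem {w : V} (hw : InU w) (e : ZMod 2) {p : G} (hp : Fx C p) : el C w e p ∈ Ct C.F :=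
  mul_mem (Ut_le_Ct C.F (mul_mem (pl_spec C hw).1 (zp_mem_Ut C e))) hp.1

theorem el_z (w : V) (e : ZMod 2) (p : G) (hp : Commute p z) : el C w e (p * z) = el C w (e + 1) p := by
  rw [el, el, zp_add, hp.eq]
  have : zp C 1 = z := if_neg one_ne_zero
  rw [this]
  simp only [mul_assoc]

theorem conj_el {q p : G} (hq : q ∈ Q) (hp : Fx C p) {w : V} (hw : InU w) (e : ZMod 2) {k : V}
    (hk : k = C.F.mu q + C.F.pi p (C.F.mu q)) :
    InU k ∧ q * el C w e p * q⁻¹ =
      el C (w + k) (e + bf (C.F.mu q) w + (bf (C.F.mu q) k + bf (C.F.mu q) (om k))) p := by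
  obtain ⟨k', hk', ek, hc⟩ := conj_Fx C hp hq
  rw [← hk] at ek
  rw [ek] at hk' hc
  obtain ⟨hpl, hmu, -⟩ := pl_spec C hw
  refine ⟨hk', ?_⟩
  have h1 : q * pl C w * q⁻¹ = pl C w * zp C (bf (C.F.mu q) w) := by rw [conj_eq C hq hpl.1, hmu]
  have h2 : q * zp C e * q⁻¹ = zp C e := by
    rw [(zp_comm C e (C.F.le_cent q hq)).eq, mul_inv_cancel_right]
  have cm : ∀ {a b : G}, a ∈ Ut C.F → b ∈ Ut C.F → a * b = b * a := fun ha hb =>
    Ct_comm C _ (Ut_le_Ct C.F ha) _ (Ut_le_Ct C.F hb)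
  rw [el, show q * (pl C w * zp C e * p) * q⁻¹ = (q * pl C w * q⁻¹) * (q * zp C e * q⁻¹) * (q * p * q⁻¹) by group,
    h1, h2, hc, el, pl_add C hw hk']
  simp only [zp_add]
  have e1 := cm (zp_mem_Ut C (bf (C.F.mu q) w)) (zp_mem_Ut C e)
  calc pl C w * zp C (bf (C.F.mu q) w) * zp C e *
        (pl C k * (zp C (bf (C.F.mu q) k) * zp C (bf (C.F.mu q) (om k))) * p)
      = pl C w * ((zp C (bf (C.F.mu q) w) * zp C e) * pl C k) * (zp C (bf (C.F.mu q) k) * zp C (bf (C.F.mu q) (om k))) * p := by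
        simp only [mul_assoc]
    _ = _ := by
      rw [cm (mul_mem (zp_mem_Ut C _) (zp_mem_Ut C _)) (pl_spec C hk').1, e1]
      simp only [mul_assoc]

theorem enc_lt_U {n : ℕ} (hn : n ∈ Ulist) : n < 4096 := of_decide_eq_true (List.all_eq_true.1
  (by have hc := w0_check; simp only [Bool.and_eq_true] at hc; exact hc.2) n hn)

theorem inU_dec {n : ℕ} (hn : n ∈ Ulist) : InU (dec n) := by
  show enc (dec n) ∈ Ulist
  rw [enc_dec (enc_lt_U hn)]; exact hn

theorem inn_fact {i : ℕ} (hi : 1 ≤ i) (hi' : i < 16) {w : V} (hw : enc w ∈ inn i) :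
    InU w ∧ ∃ n, ∀ p : G, Fx C p → Coded (C.F.pi p) (RLi i) →
      w = dec n + C.F.pi p (dec n) ∧ bf (dec n) w + bf (dec n) (om w) = sg w := by
  have h := List.all_eq_true.1 class_inner_check i (List.mem_range.2 hi')
  simp only [Bool.or_eq_true, beq_iff_eq, Bool.and_eq_true] at h
  obtain ⟨hin, -⟩ := h.resolve_left (by omega)
  obtain ⟨k, hk, e⟩ := List.getElem_of_mem hw
  have h2 := List.all_eq_true.1 hin k (List.mem_range.2 hk)
  rw [List.getD_eq_getElem (l := inn i) _ hk, e] at h2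
  simp only [Bool.and_eq_true, decide_eq_true_eq, beq_iff_eq, List.contains_iff_mem] at h2
  set n := (innerW.getD i []).getD k 0
  obtain ⟨⟨⟨hU, hn⟩, happ⟩, hs⟩ := h2
  refine ⟨hU, n, fun p _ hpe => ⟨enc_injective ?_, ?_⟩⟩
  · rw [enc_add, hpe, enc_dec hn, happ]
  · have : app omL (enc w) = enc (om w) := (om_coded w).symm
    rw [this, bfN, bfN, dec_enc, dec_enc] at hs
    unfold sg
    revert hs
    generalize bf (dec n) w = a
    generalize bf (dec n) (om w) = b
    generalize smallB (enc w) = c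
    revert a b c
    decide

theorem inner_isT {i : ℕ} (hi : 1 ≤ i) (hi' : i < 16) {p : G} (hp : Fx C p) (hpe : Coded (C.F.pi p) (RLi i))
    {w : V} (hw : enc w ∈ inn i) (e : ZMod 2) : IsT C (el C w e p) ↔ IsT C (el C 0 (e + sg w) p) := by
  obtain ⟨-, n, hn⟩ := inn_fact C hi hi' hw
  obtain ⟨hk, hs⟩ := hn p hp hpe
  obtain ⟨q, hq, hqe⟩ := C.F.mu_surj (dec n)
  rw [← hqe] at hk hs
  obtain ⟨-, hc⟩ := conj_el C hq hp inU_zero (e + sg w) hk
  rw [zero_add, bf_comm _ 0, bf_zero_left, add_zero, hs] at hc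
  rw [← isT_conj C (el C 0 (e + sg w) p) q, hc]
  have : e + sg w + sg w = e := by
    exact (by decide : ∀ a b : ZMod 2, b + a + a = b) (sg w) e
  rw [this]

/-- The conjugation by `Q` joins the two lifts of an outer vector. -/
theorem outer_flip {i : ℕ} (hi : 1 ≤ i) (hi' : i < 16) {p : G} (hp : Fx C p) (hpe : Coded (C.F.pi p) (RLi i))
    {w : V} (hw : InU w) (hw' : enc w ∉ inn i) (e e' : ZMod 2) : IsT C (el C w e p) ↔ IsT C (el C w e' p) := by
  have h := List.all_eq_true.1 class_inner_check i (List.mem_range.2 hi')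
  simp only [Bool.or_eq_true, beq_iff_eq, Bool.and_eq_true] at h
  obtain ⟨-, hout⟩ := h.resolve_left (by omega)
  have h2 := List.all_eq_true.1 hout (enc w) hw
  simp only [Bool.or_eq_true, List.contains_iff_mem, List.any_eq_true, Bool.and_eq_true, decide_eq_true_eq,
    beq_iff_eq, Bool.not_eq_true'] at h2
  obtain ⟨y, -, ⟨hy, hfix⟩, hbf⟩ := h2.resolve_left hw'
  obtain ⟨q, hq, hqe⟩ := C.F.mu_surj (dec y)
  have hk : (0 : V) = C.F.mu q + C.F.pi p (C.F.mu q) := by
    refine enc_injective ?_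
    rw [enc_add, hqe, hpe, enc_dec hy, hfix, Nat.xor_self, enc_zero]
  obtain ⟨-, hc⟩ := conj_el C hq hp hw e hk
  have hb : bf (dec y) w = 1 := by
    rw [bfN, dec_enc, decide_eq_false_iff_not] at hbf
    rcases (by decide : ∀ x : ZMod 2, x = 0 ∨ x = 1) (bf (dec y) w) with e | e
    · exact absurd e hbf
    · exact e
  rw [add_zero, hqe, hb, show bf (dec y) 0 = 0 by rw [bf_comm, bf_zero_left],
    show om (0 : V) = 0 by decide, show bf (dec y) 0 = 0 by rw [bf_comm, bf_zero_left], add_zero, add_zero] at hc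
  rcases (by decide : ∀ a b : ZMod 2, b = a ∨ b = a + 1) e e' with rfl | rfl
  · rfl
  · rw [← hc, isT_conj]

/-- A lift of a monomial generator commuting with the scalar element. -/
theorem exists_gen {j : ℕ} (hj : j < 2) : ∃ k, Commute k z ∧ Commute k (xS C) ∧ Coded (C.F.pi k) (gUi j) ∧
    (∀ u, InU u → InU (C.F.pi k u)) := by
  have hc := small_check
  simp only [Bool.and_eq_true, beq_iff_eq] at hc
  obtain ⟨⟨⟨-, -⟩, hlen⟩, hlin⟩ := hc
  have hmem : gUi j ∈ gU := by
    rw [gUi, List.getD_eq_getElem _ _ (by omega)]; exact List.getElem_mem _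
  obtain ⟨p, hp, ep⟩ := List.mem_map.1 hmem
  obtain ⟨h, hh, he⟩ := realL_mono C.F (evenMono_check p (by simp [hp]))
  rw [ep] at he
  have hl : C.F.Lin h := fun u => congrFun ((he.comp om_coded).eq (g := om ∘ C.F.pi h)
    (by rw [beq_iff_eq.1 (List.all_eq_true.1 hlin _ hmem)]; exact Coded.comp om_coded he)) u
  obtain ⟨k, hk, hkx, hke⟩ := exists_comm_lift C hh hl
  have hcod : Coded (C.F.pi k) (gUi j) := fun u => by rw [hke]; exact he u
  refine ⟨k, hk, hkx, hcod, fun u hu => ?_⟩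
  have hu' := u_check
  simp only [Bool.and_eq_true] at hu'
  show enc _ ∈ Ulist
  rw [hcod]
  exact List.contains_iff_mem.1 (List.all_eq_true.1
    (List.all_eq_true.1 hu'.1.1.1.1.1.1.1.1.2 _ hmem) _ hu)

theorem phi_conj {k : G} (hk : Commute k (xS C)) (a : G) : phi C (k * a * k⁻¹) = k * phi C a * k⁻¹ := by
  unfold phi
  rw [show xS C * (k * a * k⁻¹) * (xS C)⁻¹ = (xS C * k) * a * ((xS C * k))⁻¹ by group, ← hk.eq]
  group

theorem conj_Fx' {k p : G} (hk : Commute k z) (hx : Commute k (xS C))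
    (hU : ∀ u, InU u → InU (C.F.pi k u)) (hp : Fx C p) : Fx C (k * p * k⁻¹) :=
  ⟨conj_Ct C hk hU hp.1, by rw [phi_conj C hx, hp.2]⟩

theorem conj_el' {k p : G} (hk : Commute k z) (hx : Commute k (xS C))
    (hU : ∀ u, InU u → InU (C.F.pi k u)) {w : V} (hw : InU w) (e : ZMod 2) :
    k * el C w e p * k⁻¹ = el C (C.F.pi k w) e (k * p * k⁻¹) := by
  obtain ⟨hpl, hmu, hn⟩ := pl_spec C hw
  have h1 : k * pl C w * k⁻¹ = pl C (C.F.pi k w) := by
    have hN : Nrm C (k * pl C w * k⁻¹) = 1 := by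
      rw [Nrm, phi_conj C hx, phi_conj C hx,
        show k * pl C w * k⁻¹ * (k * phi C (pl C w) * k⁻¹) * (k * phi C (phi C (pl C w)) * k⁻¹) =
          k * Nrm C (pl C w) * k⁻¹ by rw [Nrm]; group, hn]
      group
    rw [pl_unique C (conj_Ut C hk hU hpl) hN, C.F.pi_mu k hk _ hpl.1, hmu]
  have h2 : k * zp C e * k⁻¹ = zp C e := by rw [(zp_comm C e hk).eq, mul_inv_cancel_right]
  rw [el, el, show k * (pl C w * zp C e * p) * k⁻¹ = (k * pl C w * k⁻¹) * (k * zp C e * k⁻¹) * (k * p * k⁻¹) by group,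
    h1, h2]

theorem conj_code {k p : G} (hk : Commute k z) (hp : Commute p z) {g l m : List ℕ}
    (hg : Coded (C.F.pi k) g) (hl : Coded (C.F.pi p) l) (hm : m ∈ RL)
    (e : LFType10.cmp m g = LFType10.cmp g l) : Coded (C.F.pi (k * p * k⁻¹)) m := by
  obtain ⟨b, hb, hbe⟩ := exists_lift C hm
  intro u
  rw [← hbe u]
  congr 1
  have hz : Commute (k * p * k⁻¹) z := (hk.mul_left hp).mul_left hk.inv_left
  have e1 : ∀ v, C.F.pi (k * p * k⁻¹) (C.F.pi k v) = C.F.pi b (C.F.pi k v) := fun v => by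
    rw [← C.F.pi_mul hz hk, inv_mul_cancel_right, C.F.pi_mul hk hp]
    exact congrFun ((hg.comp hl).eq (g := C.F.pi b ∘ C.F.pi k) (by rw [← e]; exact hbe.comp hg)) v
  have := e1 (C.F.pi k⁻¹ u)
  rwa [← C.F.pi_mul hk hk.inv_left, mul_inv_cancel, C.F.pi_one] at this

/-- All outer elements with outer vectors have one class. -/
theorem outer_const : ∃ c : Prop, ∀ i, 1 ≤ i → i < 16 → ∀ w : V, InU w → enc w ∉ inn i →
    ∀ p, Fx C p → Coded (C.F.pi p) (RLi i) → ∀ e, (IsT C (el C w e p) ↔ c) := by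
  classical
  have hRi : ∀ i < 16, RLi i ∈ RL := fun i hi => by
    have hlen : RL.length = 16 := by decide +kernel
    rw [RLi, List.getD_eq_getElem _ _ (by omega)]; exact List.getElem_mem _
  have hc := outer_check
  simp only [Bool.and_eq_true] at hc
  obtain ⟨hst, hkeys⟩ := hc
  have facts : ∀ k, k < outSt.length → 1 ≤ (outSt.getD k (0, 0, 0, 0)).1 ∧ (outSt.getD k (0, 0, 0, 0)).1 < 16 ∧
      (outSt.getD k (0, 0, 0, 0)).2.1 ∈ Ulist ∧
      (outSt.getD k (0, 0, 0, 0)).2.1 ∉ inn (outSt.getD k (0, 0, 0, 0)).1 := by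
    intro k hk
    have h := List.all_eq_true.1 hst k (List.mem_range.2 hk)
    simp only [stepB, Bool.and_eq_true, decide_eq_true_eq, List.contains_iff_mem, Bool.not_eq_true',
      List.contains_eq_mem, decide_eq_false_iff_not] at h
    exact ⟨h.1.1.1.1, h.1.1.1.2, h.1.1.2, h.1.2⟩
  have hlen0 : 0 < outSt.length := by decide +kernel
  obtain ⟨i0, w0, hi0⟩ : ∃ i0 w0, outSt.getD 0 (0, 0, 0, 0) = (i0, w0, (outSt.getD 0 (0, 0, 0, 0)).2.2) :=
    ⟨_, _, rfl⟩
  obtain ⟨p0, hp0, hp0e⟩ := exists_Fx C (hRi _ (facts 0 hlen0).2.1)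
  refine ⟨IsT C (el C (dec (outSt.getD 0 (0, 0, 0, 0)).2.1) 0 p0), ?_⟩
  set c := IsT C (el C (dec (outSt.getD 0 (0, 0, 0, 0)).2.1) 0 p0) with hcdef
  -- independence of the fixed lift and the sign
  have indep : ∀ {i}, 1 ≤ i → i < 16 → ∀ {w : V}, InU w → enc w ∉ inn i → ∀ {p p' : G}, Fx C p → Fx C p' →
      Coded (C.F.pi p) (RLi i) → Coded (C.F.pi p') (RLi i) → ∀ e e', (IsT C (el C w e p) ↔ IsT C (el C w e' p')) := by
    intro i hi hi' w hw hw' p p' hp hp' he he' e e'
    rcases Fx_unique C hp' hp (fun u => congrFun (he'.eq he) u) with h | h <;> subst h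
    · exact outer_flip C hi hi' hp he hw hw' e e'
    · rw [el_z C w e' p (comm_z hp.1)]
      exact outer_flip C hi hi' hp he hw hw' e (e' + 1)
  have key : ∀ k, k < outSt.length → ∀ p, Fx C p → Coded (C.F.pi p) (RLi (outSt.getD k (0, 0, 0, 0)).1) →
      ∀ e, (IsT C (el C (dec (outSt.getD k (0, 0, 0, 0)).2.1) e p) ↔ c) := by
    intro k
    induction k using Nat.strong_induction_on with
    | _ k ih =>
      intro hk p hp hpe e
      obtain ⟨f1, f2, f3, f4⟩ := facts k hk
      have hw : enc (dec (outSt.getD k (0, 0, 0, 0)).2.1) ∉ inn (outSt.getD k (0, 0, 0, 0)).1 := by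
        rw [enc_dec (enc_lt_U f3)]; exact f4
      have h := List.all_eq_true.1 hst k (List.mem_range.2 hk)
      simp only [stepB, Bool.and_eq_true, Bool.or_eq_true, beq_iff_eq, decide_eq_true_eq] at h
      rcases h.2 with rfl | ⟨hlt, hmove⟩
      · exact indep f1 f2 (inU_dec f3) hw hp hp0 hpe hp0e e 0
      · set t := outSt.getD (outSt.getD k (0, 0, 0, 0)).2.2.1 (0, 0, 0, 0) with ht
        obtain ⟨g1, g2, g3, g4⟩ := facts _ (lt_trans hlt hk)
        rw [← ht] at g1 g2 g3 g4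
        obtain ⟨pt, hpt, hpte⟩ := exists_Fx C (hRi _ g2)
        have hpar := ih _ hlt (lt_trans hlt hk) pt hpt hpte
        rw [← ht] at hpar
        split_ifs at hmove with hm
        · simp only [Bool.and_eq_true, beq_iff_eq] at hmove
          obtain ⟨g, hg, hgx, hge, hgU⟩ := exists_gen C hm
          have hpi : C.F.pi g (dec t.2.1) = dec (outSt.getD k (0, 0, 0, 0)).2.1 := by
            rw [hge.apply, enc_dec (enc_lt_U g3), hmove.2]
          rw [← hpar 0, ← isT_conj C (el C (dec t.2.1) 0 pt) g, conj_el' C hg hgx hgU (inU_dec g3) 0, hpi]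
          exact indep f1 f2 (inU_dec f3) hw hp (conj_Fx' C hg hgx hgU hpt) hpe
            (conj_code C hg (comm_z hpt.1) hge hpte (hRi _ f2) hmove.1) e 0
        · simp only [Bool.and_eq_true, beq_iff_eq, List.contains_iff_mem] at hmove
          have hv : enc (dec (outSt.getD k (0, 0, 0, 0)).2.1 + dec t.2.1) ∈ inn (outSt.getD k (0, 0, 0, 0)).1 := by
            rw [enc_add, enc_dec (enc_lt_U f3), enc_dec (enc_lt_U g3)]; exact hmove.2
          obtain ⟨-, n, hn⟩ := inn_fact C f1 f2 hv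
          rw [← hmove.1] at hpte
          obtain ⟨hk', -⟩ := hn pt hpt hpte
          obtain ⟨q, hq, hqe⟩ := C.F.mu_surj (dec n)
          rw [← hqe] at hk'
          obtain ⟨-, hc'⟩ := conj_el C hq hpt (inU_dec g3) 0 hk'
          rw [show dec t.2.1 + (dec (outSt.getD k (0, 0, 0, 0)).2.1 + dec t.2.1) =
            dec (outSt.getD k (0, 0, 0, 0)).2.1 by rw [add_left_comm, add_self, add_zero]] at hc'
          rw [← hpar 0, ← isT_conj C (el C (dec t.2.1) 0 pt) q, hc']
          exact indep f1 f2 (inU_dec f3) hw hp hpt hpe hpte e _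
  intro i hi hi' w hw hw' p hp hpe e
  have h := List.all_eq_true.1 hkeys i (List.mem_range.2 hi')
  simp only [Bool.or_eq_true, beq_iff_eq] at h
  have h2 := List.all_eq_true.1 (h.resolve_left (by omega)) (enc w) hw
  simp only [Bool.or_eq_true, List.contains_iff_mem, List.mem_map] at h2
  obtain ⟨s, hs, es⟩ := h2.resolve_left hw'
  obtain ⟨k, hk, rfl⟩ := List.getElem_of_mem hs
  have e1 : (outSt.getD k (0, 0, 0, 0)) = outSt[k] := List.getD_eq_getElem _ _ hk
  simp only [Prod.mk.injEq] at es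
  have := key k hk p hp (by rw [e1, es.1]; exact hpe) e
  rwa [e1, es.2, dec_enc] at this

end Cfsg.Agent.LFType10
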