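import Cfsg.Agent.LFType10.PointData
import Cfsg.Agent.LFType10.Code

/-!
A normaliser permuting the noncentral class in coordinates permutes the twenty-four points and preserves
the code.
-/
set_option autoImplicit false

namespace Cfsg.Agent.LFType10

open Cfsg.Agent.Golay
open scoped Pointwise

/-- The coordinates of a point. -/
def dd (y : GolayPt) : ℕ := ddL.getD (idx y) 0

theorem dd_lt : ∀ y : GolayPt, dd y < 2048 := by decide +kernel

theorem dd_none : dd none = 0 := by decide +kernel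

/-- All pairs of indices with the sum of their coordinates. -/
def pairL : List (ℕ × ℕ × ℕ) :=
  (List.range 24).flatMap fun i => (List.range i).map fun j => (i, j, ddL.getD i 0 ^^^ ddL.getD j 0)

theorem mem_pairL {i j : ℕ} (hi : i < 24) (hj : j < i) : (i, j, ddL.getD i 0 ^^^ ddL.getD j 0) ∈ pairL :=
  List.mem_flatMap.2 ⟨i, List.mem_range.2 hi, List.mem_map.2 ⟨j, List.mem_range.2 hj, rfl⟩⟩

theorem pair_bounds : ∀ p ∈ pairL, p.2.1 < p.1 ∧ p.1 < 24 := by decide +kernel

theorem pair_onto : ((List.range 2048).all fun n => !TM.testBit n || pairL.any fun p => p.2.2 == n) = true := by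
  decide +kernel

theorem pair_nodup : (pairL.map fun p : ℕ × ℕ × ℕ => p.2.2).Nodup := by decide +kernel

theorem pair_adj : (pairL.all fun p => pairL.all fun q =>
    p.1 == q.1 || p.1 == q.2.1 || p.2.1 == q.1 || p.2.1 == q.2.1 || !TM.testBit (p.2.2 ^^^ q.2.2)) = true := by
  decide +kernel

theorem span_check : ((List.range 2048).all fun n => n == 0 || TM.testBit n ||
    pairL.any fun p => TM.testBit (n ^^^ p.2.2)) = true := by
  decide +kernel

/-- An unordered pair in the list. -/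
theorem exists_pairL {y a : GolayPt} (h : y ≠ a) :
    ∃ p ∈ pairL, p.2.2 = dd y ^^^ dd a ∧ ((p.1 = idx y ∧ p.2.1 = idx a) ∨ (p.1 = idx a ∧ p.2.1 = idx y)) := by
  rcases Nat.lt_or_gt_of_ne (fun e => h (idx_injective e)) with hlt | hlt
  · exact ⟨_, mem_pairL (idx_lt a) hlt, Nat.xor_comm _ _, Or.inr ⟨rfl, rfl⟩⟩
  · exact ⟨_, mem_pairL (idx_lt y) hlt, rfl, Or.inl ⟨rfl, rfl⟩⟩

theorem pair_xor_inj {y a u v : GolayPt} (hya : y ≠ a) (huv : u ≠ v) (h : dd y ^^^ dd a = dd u ^^^ dd v) :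
    (u = y ∧ v = a) ∨ (u = a ∧ v = y) := by
  obtain ⟨p, hp, ep, hp'⟩ := exists_pairL hya
  obtain ⟨q, hq, eq, hq'⟩ := exists_pairL huv
  have e : p = q := List.inj_on_of_nodup_map pair_nodup hp hq (by rw [ep, eq, h])
  subst e
  rcases hp' with ⟨a1, a2⟩ | ⟨a1, a2⟩ <;> rcases hq' with ⟨b1, b2⟩ | ⟨b1, b2⟩
  · exact Or.inl ⟨idx_injective (b1.symm.trans a1), idx_injective (b2.symm.trans a2)⟩
  · exact Or.inr ⟨idx_injective (b2.symm.trans a2), idx_injective (b1.symm.trans a1)⟩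
  · exact Or.inr ⟨idx_injective (b1.symm.trans a1), idx_injective (b2.symm.trans a2)⟩
  · exact Or.inl ⟨idx_injective (b2.symm.trans a2), idx_injective (b1.symm.trans a1)⟩

theorem xor_four_share {y a u v : GolayPt} (hya : y ≠ a) (huv : u ≠ v)
    (h : TM.testBit (dd y ^^^ dd a ^^^ (dd u ^^^ dd v)) = true) : u = y ∨ u = a ∨ v = y ∨ v = a := by
  obtain ⟨p, hp, ep, hp'⟩ := exists_pairL hya
  obtain ⟨q, hq, eq, hq'⟩ := exists_pairL huv
  have hc := List.all_eq_true.1 (List.all_eq_true.1 pair_adj p hp) q hq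
  rw [ep, eq, h] at hc
  simp only [Bool.or_eq_true, beq_iff_eq, Bool.not_true, Bool.false_eq_true, or_false] at hc
  rcases hp' with ⟨a1, a2⟩ | ⟨a1, a2⟩ <;> rcases hq' with ⟨b1, b2⟩ | ⟨b1, b2⟩ <;>
    rw [a1, a2, b1, b2] at hc <;> rcases hc with ((e | e) | e) | e <;>
    first
      | exact Or.inl (idx_injective e.symm)
      | exact Or.inr (Or.inl (idx_injective e.symm))
      | exact Or.inr (Or.inr (Or.inl (idx_injective e.symm)))
      | exact Or.inr (Or.inr (Or.inr (idx_injective e.symm)))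

/-- The coordinates with the parity added. -/
def dpL : List ℕ := ddL.map fun d : ℕ => d + 2048

theorem app_single : ∀ i < 24, app ddL (2 ^ i) = ddL.getD i 0 ∧ app dpL (2 ^ i) = (ddL.getD i 0) ^^^ 2048 := by
  decide +kernel

theorem dp_code : ((List.range 4096).all fun m => app dpL (comb m) == 0) = true := by decide +kernel

theorem dp_high : ((List.range 4096).all fun k => k == 0 || app dpL (k * 4096) != 0) = true := by decide +kernel

theorem inCode_of_dp {n : ℕ} (hn : n < 2 ^ 24) (h : app dpL n = 0) : inCode n = true := by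
  have hm : n % 4096 < 4096 := Nat.mod_lt _ (by norm_num)
  set x := n ^^^ comb (n % 4096) with hx
  have hlow : x % 4096 = 0 := by
    rw [hx, show (4096 : ℕ) = 2 ^ 12 from rfl, Nat.xor_mod_two_pow]
    show n % 4096 ^^^ comb (n % 4096) % 4096 = 0
    rw [comb_mod hm, Nat.xor_self]
  have hxlt : x < 2 ^ 24 := Nat.xor_lt_two_pow (n := 24) hn (comb_lt hm)
  have happ : app dpL x = 0 := by
    rw [hx, app_xor, h, Nat.zero_xor]
    exact beq_iff_eq.1 (List.all_eq_true.1 dp_code _ (List.mem_range.2 hm))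
  have hk : x / 4096 * 4096 = x := Nat.div_mul_cancel (Nat.dvd_of_mod_eq_zero hlow)
  have h0 := List.all_eq_true.1 dp_high (x / 4096) (List.mem_range.2 (by omega))
  rw [hk, happ] at h0
  simp only [bne_self_eq_false, Bool.or_false, beq_iff_eq] at h0
  have hx0 : x = 0 := by rw [← hk, h0]
  rw [inCode, beq_iff_eq]
  exact (Nat.xor_eq_zero_iff.1 hx0).symm

variable {G : Type*} [Group G] {A : Subgroup G} {T : G → Prop} (K : Coords A T)

namespace Coords

theorem psi_zero : K.psi 0 = 1 := by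
  have h := K.hom 0 0 (by norm_num) (by norm_num)
  simp only [Nat.xor_self] at h
  exact right_eq_mul.1 h

include K in
theorem comm {a b : G} (ha : a ∈ A) (hb : b ∈ A) : a * b = b * a := by
  obtain ⟨m, hm, rfl⟩ := K.surj a ha
  obtain ⟨n, hn, rfl⟩ := K.surj b hb
  rw [← K.hom m n hm hn, ← K.hom n m hn hm, Nat.xor_comm]

include K in
theorem sq {a : G} (ha : a ∈ A) : a * a = 1 := by
  obtain ⟨m, hm, rfl⟩ := K.surj a ha
  rw [← K.hom m m hm hm, Nat.xor_self, K.psi_zero]

/-- The element of a point. -/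
def pe (y : GolayPt) : G := K.psi (dd y)

theorem pe_mem (y : GolayPt) : K.pe y ∈ A := K.mem _ (dd_lt y)

theorem pe_none : K.pe none = 1 := by rw [pe, dd_none, K.psi_zero]

/-- The element of a pair of points. -/
def tt (y a : GolayPt) : G := K.pe y * K.pe a

theorem tt_eq (y a : GolayPt) : K.tt y a = K.psi (dd y ^^^ dd a) := (K.hom _ _ (dd_lt y) (dd_lt a)).symm

theorem tt_mem (y a : GolayPt) : K.tt y a ∈ A := mul_mem (K.pe_mem y) (K.pe_mem a)

theorem tt_comm (y a : GolayPt) : K.tt y a = K.tt a y := K.comm (K.pe_mem y) (K.pe_mem a)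

theorem tt_mul (y a b : GolayPt) : K.tt y a * K.tt y b = K.tt a b := by
  rw [K.tt_comm y a, tt, tt, tt, mul_assoc, ← mul_assoc (K.pe y), K.sq (K.pe_mem y), one_mul]

theorem tt_T {y a : GolayPt} (h : y ≠ a) : T (K.tt y a) := by
  rw [K.tt_eq, K.hT _ (Nat.xor_lt_two_pow (n := 11) (dd_lt y) (dd_lt a))]
  obtain ⟨p, hp, ep, -⟩ := exists_pairL h
  have hc := dd_check
  simp only [Bool.and_eq_true, beq_iff_eq] at hc
  obtain ⟨i, hi, hpm⟩ := List.mem_flatMap.1 hp
  obtain ⟨j, hj, rfl⟩ := List.mem_map.1 hpm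
  rw [← ep]
  exact List.all_eq_true.1 (List.all_eq_true.1 hc.1.2 i hi) j hj

theorem exists_tt {a : G} (ha : a ∈ A) (hT : T a) : ∃ y b, y ≠ b ∧ K.tt y b = a := by
  obtain ⟨n, hn, rfl⟩ := K.surj a ha
  have hc := List.all_eq_true.1 pair_onto n (List.mem_range.2 hn)
  rw [(K.hT n hn).1 hT] at hc
  simp only [Bool.not_true, Bool.false_or, List.any_eq_true, beq_iff_eq] at hc
  obtain ⟨p, hp, rfl⟩ := hc
  obtain ⟨h1, h2⟩ := pair_bounds p hp
  refine ⟨pt p.1, pt p.2.1, fun e => ?_, ?_⟩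
  · have := congrArg idx e
    rw [idx_pt h2, idx_pt (lt_trans h1 h2)] at this
    omega
  · rw [K.tt_eq]
    congr 1
    obtain ⟨i, hi, hpm⟩ := List.mem_flatMap.1 hp
    obtain ⟨j, hj, rfl⟩ := List.mem_map.1 hpm
    simp only [dd, idx_pt h2, idx_pt (lt_trans h1 h2)]

theorem tt_inj {y a u v : GolayPt} (hya : y ≠ a) (huv : u ≠ v) (h : K.tt y a = K.tt u v) :
    (u = y ∧ v = a) ∨ (u = a ∧ v = y) := by
  rw [K.tt_eq, K.tt_eq] at h
  exact pair_xor_inj hya huv (K.inj _ _ (Nat.xor_lt_two_pow (n := 11) (dd_lt y) (dd_lt a))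
    (Nat.xor_lt_two_pow (n := 11) (dd_lt u) (dd_lt v)) h)

theorem tt_share {y a u v : GolayPt} (hya : y ≠ a) (huv : u ≠ v) (h : T (K.tt y a * K.tt u v)) :
    u = y ∨ u = a ∨ v = y ∨ v = a := by
  have h1 : dd y ^^^ dd a < 2048 := Nat.xor_lt_two_pow (n := 11) (dd_lt y) (dd_lt a)
  have h2 : dd u ^^^ dd v < 2048 := Nat.xor_lt_two_pow (n := 11) (dd_lt u) (dd_lt v)
  rw [K.tt_eq, K.tt_eq, ← K.hom _ _ h1 h2, K.hT _ (Nat.xor_lt_two_pow (n := 11) h1 h2)] at h
  exact xor_four_share hya huv h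

/-- The permutation is induced by the element. -/
def Induces (m : G) (σ : Equiv.Perm GolayPt) : Prop :=
  ∀ y a, y ≠ a → m * K.tt y a * m⁻¹ = K.tt (σ y) (σ a)

theorem exists_two (s : Finset GolayPt) (hs : s.card ≤ 22) : ∃ a b, a ∉ s ∧ b ∉ s ∧ a ≠ b := by
  classical
  have h : 1 < (Finset.univ \ s).card := by
    have := Finset.le_card_sdiff s (Finset.univ : Finset GolayPt)
    rw [Finset.card_univ, card_golayPt] at this
    omega
  obtain ⟨a, ha, b, hb, hab⟩ := Finset.one_lt_card.1 h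
  exact ⟨a, b, (Finset.mem_sdiff.1 ha).2, (Finset.mem_sdiff.1 hb).2, hab⟩

theorem center_exists {m : G} (hm : ∀ a ∈ A, m * a * m⁻¹ ∈ A) (y : GolayPt) :
    ∃ p, ∀ a, a ≠ y → ∃ b, b ≠ p ∧ m * K.tt y a * m⁻¹ = K.tt p b := by
  classical
  have himg : ∀ a, a ≠ y → ∃ u v, u ≠ v ∧ m * K.tt y a * m⁻¹ = K.tt u v := fun a ha => by
    obtain ⟨u, v, huv, e⟩ := K.exists_tt (hm _ (K.tt_mem y a)) ((K.conjT m _).2 (K.tt_T (Ne.symm ha)))
    exact ⟨u, v, huv, e.symm⟩
  have hmeet : ∀ {a b u v u' v'}, a ≠ y → b ≠ y → a ≠ b → u ≠ v → u' ≠ v' →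
      m * K.tt y a * m⁻¹ = K.tt u v → m * K.tt y b * m⁻¹ = K.tt u' v' →
      (u' = u ∨ u' = v ∨ v' = u ∨ v' = v) ∧ K.tt u v ≠ K.tt u' v' := by
    intro a b u v u' v' ha hb hab h1 h2 e1 e2
    refine ⟨K.tt_share h1 h2 ?_, fun e => ?_⟩
    · rw [← e1, ← e2, show m * K.tt y a * m⁻¹ * (m * K.tt y b * m⁻¹) = m * (K.tt y a * K.tt y b) * m⁻¹ by group,
        K.tt_mul, K.conjT]
      exact K.tt_T hab
    · have h := mul_left_cancel (mul_right_cancel (e1.trans (e.trans e2.symm)))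
      rcases K.tt_inj (Ne.symm ha) (Ne.symm hb) h with ⟨-, h'⟩ | ⟨-, h'⟩
      · exact hab h'.symm
      · exact hb h'
  obtain ⟨a1, a2, ha1, ha2, h12⟩ := exists_two {y} (by simp)
  rw [Finset.mem_singleton] at ha1 ha2
  obtain ⟨u, v, huv, e1⟩ := himg a1 ha1
  obtain ⟨u', v', huv', e2⟩ := himg a2 ha2
  obtain ⟨hs, hne⟩ := hmeet ha1 ha2 h12 huv huv' e1 e2
  obtain ⟨p, q, r, hpq, hpr, e1, e2⟩ : ∃ p q r, p ≠ q ∧ p ≠ r ∧ m * K.tt y a1 * m⁻¹ = K.tt p q ∧
      m * K.tt y a2 * m⁻¹ = K.tt p r := by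
    rcases hs with rfl | rfl | rfl | rfl
    · exact ⟨_, v, v', huv, huv', e1, e2⟩
    · exact ⟨_, u, v', huv.symm, huv', e1.trans (K.tt_comm _ _), e2⟩
    · exact ⟨_, v, u', huv, huv'.symm, e1, e2.trans (K.tt_comm _ _)⟩
    · exact ⟨_, u, u', huv.symm, huv'.symm, e1.trans (K.tt_comm _ _), e2.trans (K.tt_comm _ _)⟩
  have hqr : q ≠ r := fun e => (hmeet ha1 ha2 h12 hpq hpr e1 e2).2 (by rw [e])
  refine ⟨p, fun a ha => ?_⟩
  have cls : ∀ a, a ≠ y → (∃ b, b ≠ p ∧ m * K.tt y a * m⁻¹ = K.tt p b) ∨ m * K.tt y a * m⁻¹ = K.tt q r := by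
    intro a ha
    rcases eq_or_ne a a1 with rfl | h1
    · exact Or.inl ⟨q, hpq.symm, e1⟩
    rcases eq_or_ne a a2 with rfl | h2
    · exact Or.inl ⟨r, hpr.symm, e2⟩
    obtain ⟨s, t, hst, e⟩ := himg a ha
    by_cases hs : s = p
    · exact Or.inl ⟨t, fun e' => hst (hs.trans e'.symm), by rw [e, hs]⟩
    by_cases ht : t = p
    · exact Or.inl ⟨s, hs, by rw [e, ht]; exact K.tt_comm _ _⟩
    right
    have m1 := (hmeet ha1 ha (Ne.symm h1) hpq hst e1 e).1
    have m2 := (hmeet ha2 ha (Ne.symm h2) hpr hst e2 e).1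
    rcases m1 with h | h | h | h
    · exact absurd h hs
    · rcases m2 with h' | h' | h' | h'
      · exact absurd h' hs
      · exact absurd (h.symm.trans h') hqr
      · exact absurd h' ht
      · rw [e, h, h']
    · exact absurd h ht
    · rcases m2 with h' | h' | h' | h'
      · exact absurd h' hs
      · rw [e, h, h']; exact K.tt_comm _ _
      · exact absurd h' ht
      · exact absurd (h.symm.trans h') hqr
  rcases cls a ha with h | h
  · exact h
  exfalso
  have ha1' : a ≠ a1 := by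
    rintro rfl
    rcases K.tt_inj hqr hpq (h.symm.trans e1) with ⟨h', -⟩ | ⟨h', -⟩
    exacts [hpq h', hpr h']
  have ha2' : a ≠ a2 := by
    rintro rfl
    rcases K.tt_inj hqr hpr (h.symm.trans e2) with ⟨h', -⟩ | ⟨h', -⟩
    exacts [hpq h', hpr h']
  obtain ⟨a3, -, h3, -, -⟩ := exists_two {y, a, a1, a2} ((Finset.card_le_four).trans (by norm_num))
  simp only [Finset.mem_insert, Finset.mem_singleton, not_or] at h3
  obtain ⟨h3y, h3a, h31, h32⟩ := h3
  rcases cls a3 h3y with ⟨b, hb, e3⟩ | e3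
  · rcases (hmeet ha h3y (Ne.symm h3a) hqr hb.symm h e3).1 with e' | e' | e' | e'
    · exact hpq e'
    · exact hpr e'
    · subst e'
      exact (hmeet ha1 h3y (Ne.symm h31) hpq hb.symm e1 e3).2 rfl
    · subst e'
      exact (hmeet ha2 h3y (Ne.symm h32) hpr hb.symm e2 e3).2 rfl
  · exact (hmeet ha h3y (Ne.symm h3a) hqr hqr h e3).2 rfl

theorem exists_induced {m : G} (hm : ∀ a ∈ A, m * a * m⁻¹ ∈ A) : ∃ σ, K.Induces m σ := by
  classical
  choose π hπ using K.center_exists hm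
  have hsurj : ∀ y b, b ≠ π y → ∃ a, a ≠ y ∧ m * K.tt y a * m⁻¹ = K.tt (π y) b := by
    intro y b hb
    choose f hf hfe using hπ y
    have hinj : Function.Injective fun a : {a // a ≠ y} => (⟨f a a.2, hf a a.2⟩ : {b // b ≠ π y}) := by
      intro a a' e
      have e' : f a a.2 = f a' a'.2 := congrArg Subtype.val e
      have h := hfe a a.2
      rw [e', ← hfe a' a'.2] at h
      rcases K.tt_inj (Ne.symm a.2) (Ne.symm a'.2) (mul_left_cancel (mul_right_cancel h)) with ⟨-, h'⟩ | ⟨-, h'⟩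
      · exact Subtype.ext h'.symm
      · exact absurd h' a'.2
    have hbij := (Fintype.bijective_iff_injective_and_card _).2 ⟨hinj, by
      simp only [Fintype.card_subtype_compl, Fintype.card_subtype_eq]⟩
    obtain ⟨⟨a, ha⟩, e⟩ := hbij.2 ⟨b, hb⟩
    refine ⟨a, ha, ?_⟩
    rw [hfe a ha]
    exact congrArg (K.tt (π y)) (congrArg Subtype.val e)
  have hinjπ : Function.Injective π := by
    intro y y' e
    by_contra hne
    obtain ⟨a, -, ha, -, -⟩ := exists_two {y, y'} ((Finset.card_le_two).trans (by norm_num))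
    simp only [Finset.mem_insert, Finset.mem_singleton, not_or] at ha
    obtain ⟨b, hb, e1⟩ := hπ y' a ha.2
    obtain ⟨a', ha', e2⟩ := hsurj y b (by rw [e]; exact hb)
    rw [e, ← e1] at e2
    rcases K.tt_inj (Ne.symm ha') (Ne.symm ha.2) (mul_left_cancel (mul_right_cancel e2)) with ⟨h, -⟩ | ⟨-, h⟩
    · exact hne h.symm
    · exact ha.1 h
  refine ⟨Equiv.ofBijective π (Finite.injective_iff_bijective.1 hinjπ), fun y a hya => ?_⟩
  obtain ⟨b, hb, e1⟩ := hπ y a hya.symm
  obtain ⟨b', hb', e2⟩ := hπ a y hya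
  rw [K.tt_comm a y, e1] at e2
  rcases K.tt_inj hb.symm hb'.symm e2 with ⟨h, -⟩ | ⟨h, -⟩
  · exact absurd (hinjπ h) hya.symm
  · rw [e1, Equiv.ofBijective_apply, Equiv.ofBijective_apply, h]

theorem induced_unique {m : G} {σ σ' : Equiv.Perm GolayPt} (h : K.Induces m σ) (h' : K.Induces m σ') : σ = σ' := by
  refine Equiv.ext fun y => ?_
  obtain ⟨a, b, ha, hb, hab⟩ := exists_two {y} (by simp)
  rw [Finset.mem_singleton] at ha hb
  have key : ∀ c, c ≠ y → σ' y = σ y ∨ σ' y = σ c := fun c hc => by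
    have e := (h y c (Ne.symm hc)).symm.trans (h' y c (Ne.symm hc))
    rcases K.tt_inj (σ.injective.ne (Ne.symm hc)) (σ'.injective.ne (Ne.symm hc)) e with ⟨h1, -⟩ | ⟨h1, -⟩
    exacts [Or.inl h1, Or.inr h1]
  rcases key a ha with e | e
  · exact e.symm
  rcases key b hb with e' | e'
  · exact e'.symm
  · exact absurd (σ.injective (e.symm.trans e')) hab

theorem induces_mul {m n : G} {σ τ : Equiv.Perm GolayPt} (h : K.Induces m σ) (h' : K.Induces n τ) :
    K.Induces (m * n) (σ * τ) := fun y a hya => by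
  rw [show m * n * K.tt y a * (m * n)⁻¹ = m * (n * K.tt y a * n⁻¹) * m⁻¹ by group, h' y a hya,
    h _ _ (τ.injective.ne hya)]
  rfl

theorem mask_exists (s : Finset GolayPt) : ∃ n, n < 2 ^ 24 ∧ toSet n = s ∧ app ddL n < 2048 ∧
    app dpL n = app ddL n ^^^ (if s.card % 2 = 0 then 0 else 2048) ∧
    ∀ (m : G) (σ : Equiv.Perm GolayPt), K.Induces m σ → ∀ n', n' < 2 ^ 24 → toSet n' = σ • s →
      app ddL n' < 2048 ∧
      m * K.psi (app ddL n) * m⁻¹ = K.psi (app ddL n') * (if s.card % 2 = 0 then 1 else K.pe (σ none)) := by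
  classical
  induction s using Finset.induction_on with
  | empty =>
    refine ⟨0, by norm_num, ?_, by decide +kernel, by decide +kernel, fun m σ _ n' hn' e => ?_⟩
    · ext p; simp
    · have h0 : n' = 0 := toSet_injOn hn' (by norm_num) (by rw [e]; ext p; simp)
      subst h0
      have hz : app ddL 0 = 0 := app_zero _
      rw [hz, K.psi_zero]
      simp
  | insert y s hy ih =>
    obtain ⟨n, hn, hns, hlt, hdp, hconj⟩ := ih
    have hi := idx_lt y
    have hbit : (2 : ℕ) ^ idx y < 2 ^ 24 := Nat.pow_lt_pow_right (by norm_num) hi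
    obtain ⟨hd1, hd2⟩ := app_single _ hi
    have hset : ∀ (n : ℕ) (y : GolayPt) (s : Finset GolayPt), toSet n = s → y ∉ s →
        toSet (n ^^^ 2 ^ idx y) = insert y s := by
      intro n y s hns hy
      subst hns
      rw [mem_toSet, Bool.not_eq_true] at hy
      ext p
      rw [mem_toSet, Finset.mem_insert, mem_toSet, Nat.testBit_xor]
      rcases eq_or_ne p y with rfl | hp
      · simp [hy]
      · rw [Nat.testBit_two_pow_of_ne (fun e => hp (idx_injective e).symm)]
        simp [hp]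
    refine ⟨n ^^^ 2 ^ idx y, Nat.xor_lt_two_pow (n := 24) hn hbit, hset n y s hns hy, ?_, ?_, ?_⟩
    · rw [app_xor, hd1]
      exact Nat.xor_lt_two_pow (n := 11) hlt (dd_lt y)
    · rw [app_xor, app_xor, hdp, hd1, hd2, Finset.card_insert_of_notMem hy]
      rcases Nat.mod_two_eq_zero_or_one s.card with e | e
      · rw [if_pos e, if_neg (by omega), Nat.xor_zero, Nat.xor_assoc]
      · rw [if_neg (by omega), if_pos (by omega), Nat.xor_zero, Nat.xor_assoc, Nat.xor_comm (2048 : ℕ),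
          Nat.xor_assoc, Nat.xor_self, Nat.xor_zero]
    · intro m σ hσ n' hn' e
      have hσy : σ y ∉ σ • s := by
        rw [← Finset.inv_smul_mem_iff, Equiv.Perm.smul_def, Equiv.Perm.coe_inv, Equiv.symm_apply_apply]
        exact hy
      have hb' : (2 : ℕ) ^ idx (σ y) < 2 ^ 24 := Nat.pow_lt_pow_right (by norm_num) (idx_lt _)
      obtain ⟨n₀, hn₀, e₀⟩ : ∃ n₀, n₀ = n' ^^^ 2 ^ idx (σ y) ∧ toSet n₀ = σ • s := by
        refine ⟨_, rfl, ?_⟩
        ext p
        rw [mem_toSet, Nat.testBit_xor]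
        have hp' : p ∈ toSet n' ↔ p = σ y ∨ p ∈ σ • s := by
          rw [e, Finset.smul_finset_insert, Finset.mem_insert, Equiv.Perm.smul_def]
        rw [mem_toSet] at hp'
        rcases eq_or_ne p (σ y) with rfl | hp
        · simp [hσy, hp'.2 (Or.inl rfl)]
        · rw [Nat.testBit_two_pow_of_ne (fun e => hp (idx_injective e).symm)]
          simp [hp'.trans (or_iff_right hp)]
      obtain ⟨hlt', hc⟩ := hconj m σ hσ n₀ (by rw [hn₀]; exact Nat.xor_lt_two_pow (n := 24) hn' hb') e₀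
      have hn'eq : n' = n₀ ^^^ 2 ^ idx (σ y) := by rw [hn₀, Nat.xor_assoc, Nat.xor_self, Nat.xor_zero]
      obtain ⟨hd1', -⟩ := app_single _ (idx_lt (σ y))
      have happ' : app ddL n' = app ddL n₀ ^^^ dd (σ y) := by rw [hn'eq, app_xor, hd1']; rfl
      refine ⟨by rw [happ']; exact Nat.xor_lt_two_pow (n := 11) hlt' (dd_lt _), ?_⟩
      have hpe : m * K.pe y * m⁻¹ = K.pe (σ y) * K.pe (σ none) := by
        rcases eq_or_ne y none with rfl | hne
        · rw [K.pe_none, K.sq (K.pe_mem _)]; group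
        · have h := hσ y none hne
          rw [tt, K.pe_none, mul_one] at h
          exact h
      rw [app_xor, hd1, happ', K.hom _ _ hlt' (dd_lt _), Finset.card_insert_of_notMem hy,
        show ddL.getD (idx y) 0 = dd y from rfl, K.hom _ _ hlt (dd_lt y),
        show m * (K.psi (app ddL n) * K.psi (dd y)) * m⁻¹ = (m * K.psi (app ddL n) * m⁻¹) * (m * K.pe y * m⁻¹) by
          rw [pe]; group, hc, hpe, show K.psi (dd (σ y)) = K.pe (σ y) from rfl]
      have c1 := K.comm (K.pe_mem (σ none)) (K.pe_mem (σ y))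
      rcases Nat.mod_two_eq_zero_or_one s.card with e2 | e2
      · rw [if_pos e2, if_neg (by omega), mul_one, ← mul_assoc]
      · rw [if_neg (by omega), if_pos (by omega), mul_one, mul_assoc, ← mul_assoc (K.pe (σ none)), c1,
          mul_assoc (K.pe (σ y)), K.sq (K.pe_mem _), mul_one]

theorem induced_M24 {m : G} {σ : Equiv.Perm GolayPt} (h : K.Induces m σ) : σ ∈ M24 := by
  classical
  rw [M24_eq_octad_aut, mem_setSystemAut_iff]
  intro o ho
  obtain ⟨n, hn, hno, hlt, hdp, hconj⟩ := K.mask_exists o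
  have h8 : o.card = 8 := card_of_mem_octads ho
  obtain ⟨n1, hc1, -, e1⟩ := octad_mem_iff.1 ho
  obtain rfl : n1 = n := toSet_injOn (inCode_lt hc1) hn (e1.trans hno.symm)
  rw [h8, if_pos rfl, Nat.xor_zero] at hdp
  have h0 : app ddL n1 = 0 := by
    rw [← hdp]
    rw [inCode, beq_iff_eq] at hc1
    rw [← hc1]
    exact beq_iff_eq.1 (List.all_eq_true.1 dp_code _ (List.mem_range.2 (Nat.mod_lt _ (by norm_num))))
  obtain ⟨n', hn', hno', hlt', hdp', -⟩ := K.mask_exists (σ • o)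
  obtain ⟨-, e⟩ := hconj m σ h n' hn' hno'
  rw [h8, if_pos rfl, mul_one, h0, K.psi_zero, mul_one, mul_inv_cancel] at e
  have h0' : app ddL n' = 0 := K.inj _ _ hlt' (by norm_num) (by rw [← e, K.psi_zero])
  rw [Finset.card_smul_finset, h8, if_pos rfl, Nat.xor_zero, h0'] at hdp'
  exact octad_mem_iff.2 ⟨n', inCode_of_dp hn' hdp', by rw [← card_toSet, hno', Finset.card_smul_finset, h8], hno'⟩

/-- The action of the normaliser on the points. -/
noncomputable def permOn (m : ↥(Subgroup.normalizer (A : Set G))) : Equiv.Perm GolayPt :=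
  Classical.choose (K.exists_induced fun a ha => (Subgroup.mem_normalizer_iff.1 m.2 a).1 ha)

theorem permOn_spec (m : ↥(Subgroup.normalizer (A : Set G))) : K.Induces m (K.permOn m) :=
  Classical.choose_spec (K.exists_induced fun a ha => (Subgroup.mem_normalizer_iff.1 m.2 a).1 ha)

/-- The map to the Mathieu group. -/
noncomputable def toM24 : ↥(Subgroup.normalizer (A : Set G)) →* M24 :=
  MonoidHom.mk' (fun m => ⟨K.permOn m, K.induced_M24 (K.permOn_spec m)⟩) fun a b =>
    Subtype.ext (K.induced_unique (K.permOn_spec (a * b)) (K.induces_mul (K.permOn_spec a) (K.permOn_spec b)))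

theorem toM24_spec (m : ↥(Subgroup.normalizer (A : Set G))) :
    K.Induces m (K.toM24 m : Equiv.Perm GolayPt) := K.permOn_spec m

theorem ker_toM24 (hC : Subgroup.centralizer (A : Set G) ≤ A) :
    K.toM24.ker = A.subgroupOf (Subgroup.normalizer (A : Set G)) := by
  ext m
  rw [MonoidHom.mem_ker, Subgroup.mem_subgroupOf]
  constructor
  · intro h
    have hI := K.toM24_spec m
    rw [h] at hI
    have hfix : ∀ a ∈ A, T a → (m : G) * a * (m : G)⁻¹ = a := by
      intro a ha hT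
      obtain ⟨y, b, hyb, rfl⟩ := K.exists_tt ha hT
      exact hI y b hyb
    refine hC fun a ha => ?_
    obtain ⟨n, hn, rfl⟩ := K.surj a ha
    have hall : ∀ n < 2048, TM.testBit n = true → (m : G) * K.psi n * (m : G)⁻¹ = K.psi n :=
      fun k hk hb => hfix _ (K.mem k hk) ((K.hT k hk).2 hb)
    have hc := List.all_eq_true.1 span_check n (List.mem_range.2 hn)
    simp only [Bool.or_eq_true, beq_iff_eq, List.any_eq_true] at hc
    refine (mul_inv_eq_iff_eq_mul.1 ?_).symm
    rcases hc with (h0 | h1) | ⟨p, hp, h1⟩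
    · rw [h0, K.psi_zero]; group
    · exact hall n hn h1
    · obtain ⟨hb1, hb2⟩ := pair_bounds p hp
      have hne : (pt p.1 : GolayPt) ≠ pt p.2.1 := fun e => by
        have := congrArg idx e
        rw [idx_pt hb2, idx_pt (lt_trans hb1 hb2)] at this
        omega
      obtain ⟨i, hi, hpm⟩ := List.mem_flatMap.1 hp
      obtain ⟨j, hj, rfl⟩ := List.mem_map.1 hpm
      simp only at h1 hb1 hb2 hne
      have hp2 : ddL.getD i 0 ^^^ ddL.getD j 0 = dd (pt i) ^^^ dd (pt j) := by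
        simp only [dd, idx_pt hb2, idx_pt (lt_trans hb1 hb2)]
      set x := dd (pt i) ^^^ dd (pt j) with hx
      rw [hp2] at h1
      have hxlt : x < 2048 := Nat.xor_lt_two_pow (n := 11) (dd_lt _) (dd_lt _)
      have hxT : (m : G) * K.psi x * (m : G)⁻¹ = K.psi x :=
        hall x hxlt ((K.hT x hxlt).1 (by rw [hx, ← K.tt_eq]; exact K.tt_T hne))
      have hlt : n ^^^ x < 2048 := Nat.xor_lt_two_pow (n := 11) hn hxlt
      have e : K.psi n = K.psi (n ^^^ x) * K.psi x := by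
        rw [← K.hom _ _ hlt hxlt, Nat.xor_assoc, Nat.xor_self, Nat.xor_zero]
      rw [e, show (m : G) * (K.psi (n ^^^ x) * K.psi x) * (m : G)⁻¹ =
        ((m : G) * K.psi (n ^^^ x) * (m : G)⁻¹) * ((m : G) * K.psi x * (m : G)⁻¹) by group, hall _ hlt h1, hxT]
  · intro hm
    refine Subtype.ext (K.induced_unique (K.toM24_spec m) fun y a _ => ?_)
    show (m : G) * K.tt y a * (m : G)⁻¹ = K.tt y a
    rw [K.comm hm (K.tt_mem y a), mul_inv_cancel_right]

theorem toM24_surjective [Finite G] (hC : Subgroup.centralizer (A : Set G) ≤ A)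
    (hcard : 244823040 * Nat.card A ≤ Nat.card ↥(Subgroup.normalizer (A : Set G))) :
    Function.Surjective K.toM24 := by
  haveI : Finite A := inferInstance
  rw [← MonoidHom.range_eq_top]
  refine Subgroup.eq_top_of_le_card _ ?_
  have h1 := K.toM24.ker.card_mul_index
  rw [Subgroup.index_ker, K.ker_toM24 hC,
    Nat.card_congr (Subgroup.subgroupOfEquivOfLe Subgroup.le_normalizer).toEquiv] at h1
  rw [card_M24]
  rw [← h1, mul_comm] at hcard
  exact Nat.le_of_mul_le_mul_left hcard Nat.card_pos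

include K in
/-- The quotient of the normaliser. -/
theorem quot [Finite G] (hC : Subgroup.centralizer (A : Set G) ≤ A)
    (hcard : 244823040 * Nat.card A ≤ Nat.card ↥(Subgroup.normalizer (A : Set G))) :
    ∃ _ : (A.subgroupOf (Subgroup.normalizer (A : Set G))).Normal,
      Nonempty (↥(Subgroup.normalizer (A : Set G)) ⧸ A.subgroupOf (Subgroup.normalizer (A : Set G)) ≃* ↥M24) := by
  have hker := K.ker_toM24 hC
  have hsurj := K.toM24_surjective hC hcard
  have hn : (A.subgroupOf (Subgroup.normalizer (A : Set G))).Normal := hker ▸ K.toM24.normal_ker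
  exact ⟨hn, ⟨(QuotientGroup.quotientMulEquivOfEq hker.symm).trans
    (QuotientGroup.quotientKerEquivOfSurjective _ hsurj)⟩⟩

include K in
theorem stab [Finite G] (hC : Subgroup.centralizer (A : Set G) ≤ A)
    (hcard : 244823040 * Nat.card A ≤ Nat.card ↥(Subgroup.normalizer (A : Set G))) {t : G} (ht : t ∈ A) (hT : T t) :
    ∃ _ : (A.subgroupOf (Subgroup.normalizer (A : Set G) ⊓ Subgroup.centralizer ({t} : Set G))).Normal,
      Nonempty (↥(Subgroup.normalizer (A : Set G) ⊓ Subgroup.centralizer ({t} : Set G)) ⧸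
        A.subgroupOf (Subgroup.normalizer (A : Set G) ⊓ Subgroup.centralizer ({t} : Set G)) ≃*
        ↥(M24 ⊓ MulAction.stabilizer (Equiv.Perm GolayPt) ({none, some 0} : Set GolayPt))) := by
  obtain ⟨y, y', hyy, rfl⟩ := K.exists_tt ht hT
  obtain ⟨σ, hσ, hσ1, hσ2⟩ := exists_map_two hyy
  set N := Subgroup.normalizer (A : Set G)
  set M' := N ⊓ Subgroup.centralizer ({K.tt y y'} : Set G)
  have hsetfix : ∀ τ : Equiv.Perm GolayPt,
      τ ∈ MulAction.stabilizer (Equiv.Perm GolayPt) ({none, some 0} : Set GolayPt) ↔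
        ((τ none = none ∧ τ (some 0) = some 0) ∨ (τ none = some 0 ∧ τ (some 0) = none)) := fun τ => by
    rw [MulAction.mem_stabilizer_iff, Set.smul_set_insert, Set.smul_set_singleton, Set.pair_eq_pair_iff]
    rfl
  have hfix : ∀ m : N, (m : G) * K.tt y y' = K.tt y y' * (m : G) ↔
      σ⁻¹ * (K.toM24 m : Equiv.Perm GolayPt) * σ ∈
        MulAction.stabilizer (Equiv.Perm GolayPt) ({none, some 0} : Set GolayPt) := by
    intro m
    set p : Equiv.Perm GolayPt := (K.toM24 m : Equiv.Perm GolayPt) with hp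
    rw [← mul_inv_eq_iff_eq_mul, K.toM24_spec m y y' hyy, ← hp, hsetfix]
    simp only [Equiv.Perm.mul_apply, hσ1, hσ2, Equiv.Perm.coe_inv, Equiv.symm_apply_eq, hσ1, hσ2]
    constructor
    · intro e
      rcases K.tt_inj hyy (p.injective.ne hyy) e.symm with h | h
      exacts [Or.inl h, Or.inr h]
    · rintro (⟨h1, h2⟩ | ⟨h1, h2⟩)
      · rw [h1, h2]
      · rw [h1, h2]; exact K.tt_comm _ _
  let φ : M' →* ↥(M24 ⊓ MulAction.stabilizer (Equiv.Perm GolayPt) ({none, some 0} : Set GolayPt)) :=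
    { toFun := fun x => ⟨σ⁻¹ * (K.toM24 (⟨x.1, x.2.1⟩ : N) : Equiv.Perm GolayPt) * σ,
        M24.mul_mem (M24.mul_mem (M24.inv_mem hσ) (K.toM24 _).2) hσ,
        (hfix ⟨x.1, x.2.1⟩).1 (Subgroup.mem_centralizer_singleton_iff.1 x.2.2)⟩
      map_one' := Subtype.ext (by
        show σ⁻¹ * (K.toM24 (⟨((1 : M') : G), _⟩ : N) : Equiv.Perm GolayPt) * σ = 1
        rw [show (⟨((1 : M') : G), (1 : M').2.1⟩ : N) = 1 from rfl, map_one]
        simp)
      map_mul' := fun a b => Subtype.ext (by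
        show σ⁻¹ * (K.toM24 (⟨((a * b : M') : G), _⟩ : N) : Equiv.Perm GolayPt) * σ =
          σ⁻¹ * (K.toM24 (⟨a.1, a.2.1⟩ : N) : Equiv.Perm GolayPt) * σ *
            (σ⁻¹ * (K.toM24 (⟨b.1, b.2.1⟩ : N) : Equiv.Perm GolayPt) * σ)
        rw [show (⟨((a * b : M') : G), (a * b).2.1⟩ : N) = ⟨a.1, a.2.1⟩ * ⟨b.1, b.2.1⟩ from rfl, map_mul,
          Subgroup.coe_mul]
        group) }
  have hker : φ.ker = A.subgroupOf M' := by
    ext x
    have h0 : (K.toM24 (⟨x.1, x.2.1⟩ : N) = 1) ↔ (x : G) ∈ A := by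
      rw [← MonoidHom.mem_ker, K.ker_toM24 hC, Subgroup.mem_subgroupOf]
    rw [MonoidHom.mem_ker, Subgroup.mem_subgroupOf, ← h0]
    constructor
    · intro h
      have e : σ⁻¹ * (K.toM24 (⟨x.1, x.2.1⟩ : N) : Equiv.Perm GolayPt) * σ = 1 := congrArg Subtype.val h
      refine Subtype.ext ?_
      calc (K.toM24 (⟨x.1, x.2.1⟩ : N) : Equiv.Perm GolayPt)
          = σ * (σ⁻¹ * (K.toM24 (⟨x.1, x.2.1⟩ : N) : Equiv.Perm GolayPt) * σ) * σ⁻¹ := by group
        _ = 1 := by rw [e]; group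
    · intro h
      refine Subtype.ext ?_
      show σ⁻¹ * (K.toM24 (⟨x.1, x.2.1⟩ : N) : Equiv.Perm GolayPt) * σ = 1
      rw [h]
      simp
  have hsurj : Function.Surjective φ := by
    rintro ⟨τ, hτ1, hτ2⟩
    obtain ⟨m, hm⟩ := K.toM24_surjective hC hcard ⟨σ * τ * σ⁻¹, M24.mul_mem (M24.mul_mem hσ hτ1) (M24.inv_mem hσ)⟩
    have e : σ⁻¹ * (K.toM24 m : Equiv.Perm GolayPt) * σ = τ := by rw [hm]; group
    refine ⟨⟨m, m.2, Subgroup.mem_centralizer_singleton_iff.2 ((hfix m).2 (by rw [e]; exact hτ2))⟩, Subtype.ext e⟩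
  have hn : (A.subgroupOf M').Normal := hker ▸ φ.normal_ker
  exact ⟨hn, ⟨(QuotientGroup.quotientMulEquivOfEq hker.symm).trans
    (QuotientGroup.quotientKerEquivOfSurjective _ hsurj)⟩⟩

/-- Transport by a conjugation. -/
def tr (hT' : ∀ h a, T (h * a * h⁻¹) ↔ T a) (g : G) : Coords (A.map (MulAut.conj g).toMonoidHom) T where
  psi n := g * K.psi n * g⁻¹
  mem n hn := ⟨K.psi n, K.mem n hn, rfl⟩
  surj := by
    rintro _ ⟨a, ha, rfl⟩
    obtain ⟨n, hn, rfl⟩ := K.surj a ha
    exact ⟨n, hn, rfl⟩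
  hom a b ha hb := by rw [K.hom a b ha hb]; group
  inj a b ha hb h := K.inj a b ha hb (mul_left_cancel (mul_right_cancel h))
  hT n hn := by rw [hT']; exact K.hT n hn
  conjT := hT'

end Coords

theorem tr_cent {A : Subgroup G} (hC : Subgroup.centralizer (A : Set G) ≤ A) (g : G) :
    Subgroup.centralizer (A.map (MulAut.conj g).toMonoidHom : Set G) ≤ A.map (MulAut.conj g).toMonoidHom := by
  intro x hx
  refine ⟨g⁻¹ * x * g, hC fun a ha => ?_, by simp [MulAut.conj_apply, mul_assoc]⟩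
  have e := hx (g * a * g⁻¹) ⟨a, ha, rfl⟩
  calc a * (g⁻¹ * x * g) = g⁻¹ * ((g * a * g⁻¹) * x) * g := by group
    _ = g⁻¹ * (x * (g * a * g⁻¹)) * g := by rw [e]
    _ = _ := by group

theorem tr_card {A : Subgroup G} (hcard : 244823040 * Nat.card A ≤ Nat.card ↥(Subgroup.normalizer (A : Set G)))
    (g : G) : 244823040 * Nat.card ↥(A.map (MulAut.conj g).toMonoidHom) ≤
      Nat.card ↥(Subgroup.normalizer (A.map (MulAut.conj g).toMonoidHom : Set G)) := by
  have e : (Subgroup.normalizer (A : Set G)).map (MulAut.conj g).toMonoidHom =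
      Subgroup.normalizer (A.map (MulAut.conj g).toMonoidHom : Set G) :=
    Subgroup.map_equiv_normalizer_eq A (MulAut.conj g)
  rw [← e, Subgroup.card_map_of_injective (MulAut.conj g).injective,
    Subgroup.card_map_of_injective (MulAut.conj g).injective]
  exact hcard

end Cfsg.Agent.LFType10
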