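import Cfsg.Agent.LFType10.GamBound

/-!
The centraliser modulo its extraspecial subgroup as a subgroup of index at most two of the group of
semilinear isometries preserving the short orbit.
-/
set_option autoImplicit false

namespace Cfsg.Agent.LFType10

open Cfsg.Agent.LFType23

variable {G : Type*} [Group G] {z : G} {Q : Subgroup G}

/-- A permutation of the coordinate space is realised by an element of the centraliser. -/
def Real (F : Frame z Q) (f : Equiv.Perm V) : Prop := ∃ h, Commute h z ∧ ∀ u, F.pi h u = f u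

/-- The action of an element of the centraliser as a permutation. -/
def piPerm (F : Frame z Q) {h : G} (hh : Commute h z) : Equiv.Perm V where
  toFun := F.pi h
  invFun := F.pi h⁻¹
  left_inv := F.pi_inv_apply hh
  right_inv u := by simpa using F.pi_inv_apply hh.inv_left u

/-- The image of the centraliser. -/
def image (F : Frame z Q) : Subgroup (Equiv.Perm V) where
  carrier := {f | Real F f}
  mul_mem' := by
    rintro f g ⟨a, ha, ea⟩ ⟨b, hb, eb⟩
    exact ⟨a * b, ha.mul_left hb, fun u => by rw [F.pi_mul ha hb, eb, ea]; rfl⟩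
  one_mem' := ⟨1, Commute.one_left z, F.pi_one⟩
  inv_mem' := by
    rintro f ⟨a, ha, ea⟩
    refine ⟨a⁻¹, ha.inv_left, fun u => f.injective ?_⟩
    rw [Equiv.Perm.inv_def, Equiv.apply_symm_apply, ← ea, ← F.pi_mul ha ha.inv_left, mul_inv_cancel, F.pi_one]

theorem mem_image {F : Frame z Q} {f : Equiv.Perm V} : f ∈ image F ↔ Real F f := Iff.rfl

theorem good_of_commute {F : Frame z Q} (hcl : F.Classes 1) {h : G} (hh : Commute h z) :
    Good (piPerm F hh) := by
  refine ⟨F.pi_add hh, F.bf_pi hh, F.lin_or h hh, fun u hu => ?_⟩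
  have hq : qf (F.pi h u) = 0 := (F.qf_pi hh u).trans hu.1
  have h0 : F.pi h u ≠ 0 := fun e => hu.2.1 (F.pi_injective hh (e.trans (F.pi_zero hh).symm))
  exact ⟨hq, h0, fun hb => hu.2.2 (((hcl u _ hu.1 hu.2.1 hq h0).1 ⟨h, hh, rfl⟩).2 hb)⟩

theorem image_le {F : Frame z Q} (hcl : F.Classes 1) : image F ≤ Gam := by
  rintro f ⟨h, hh, e⟩
  rw [show f = piPerm F hh from Equiv.ext fun u => (e u).symm]
  exact good_of_commute hcl hh

theorem card_image [Finite G] (F : Frame z Q) : Nat.card (image F) = 19595520 := by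
  classical
  let C := Subgroup.centralizer ({z} : Set G)
  have hC : ∀ {h : G}, h ∈ C ↔ Commute h z := Subgroup.mem_centralizer_singleton_iff
  let ρ : C →* image F := MonoidHom.mk' (fun h => ⟨piPerm F (hC.1 h.2), ⟨h, hC.1 h.2, fun _ => rfl⟩⟩)
    fun a b => Subtype.ext (Equiv.ext fun u => F.pi_mul (hC.1 a.2) (hC.1 b.2) u)
  have hs : Function.Surjective ρ := by
    rintro ⟨f, h, hh, e⟩
    exact ⟨⟨h, hC.2 hh⟩, Subtype.ext (Equiv.ext e)⟩
  have hk : ρ.ker = Q.subgroupOf C := Subgroup.ext fun h => by
    rw [MonoidHom.mem_ker, Subgroup.mem_subgroupOf]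
    constructor
    · intro e
      exact F.faithful _ (hC.1 h.2) fun u => congrArg (fun f : image F => f.1 u) e
    · intro hq
      exact Subtype.ext (Equiv.ext fun u => F.pi_eq_self_of_mem hq u)
  have hQC : Q ≤ C := fun a ha => hC.2 (F.le_cent a ha)
  have h := Subgroup.card_eq_card_quotient_mul_card_subgroup ρ.ker
  rw [Nat.card_congr (QuotientGroup.quotientKerEquivOfSurjective ρ hs).toEquiv, hk,
    Nat.card_congr (Subgroup.subgroupOfEquivOfLe hQC).toEquiv, F.card_le, F.card_cent] at h
  omega

/-- The image is normalised by every semilinear isometry preserving the short orbit. -/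
theorem conj_mem [Finite G] {F : Frame z Q} (hcl : F.Classes 1) {f g : Equiv.Perm V} (hf : Real F f)
    (hg : Good g) : Real F (g * f * g⁻¹) := by
  have hle := image_le hcl
  have hidx : ((image F).subgroupOf Gam).index ≤ 2 := by
    have h1 := ((image F).subgroupOf Gam).card_mul_index
    rw [Nat.card_congr (Subgroup.subgroupOfEquivOfLe hle).toEquiv, card_image F] at h1
    have h2 := card_le
    rw [← h1] at h2
    omega
  haveI : ((image F).subgroupOf Gam).Normal := by
    rcases (by have := Subgroup.index_ne_zero_of_finite (H := (image F).subgroupOf Gam); omega :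
        ((image F).subgroupOf Gam).index = 1 ∨ ((image F).subgroupOf Gam).index = 2) with e | e
    · rw [Subgroup.index_eq_one.1 e]; infer_instance
    · exact Subgroup.normal_of_index_eq_two e
  exact Subgroup.Normal.conj_mem ‹_› ⟨f, hle hf⟩ (Subgroup.mem_subgroupOf.2 hf) ⟨g, hg⟩

/-- Commutators with semilinear isometries preserving the short orbit are realised. -/
theorem comm_mem [Finite G] {F : Frame z Q} (hcl : F.Classes 1) {f g : Equiv.Perm V} (hf : Real F f)
    (hg : Good g) : Real F (g * f * g⁻¹ * f⁻¹) :=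
  (image F).mul_mem (conj_mem hcl hf hg) ((image F).inv_mem hf)

theorem real_perm (F : Frame z Q) {σ : Equiv.Perm (Fin 6)} (hσ : Equiv.Perm.sign σ = 1) (f : Equiv.Perm V)
    (e : ∀ u, f u = perm σ u) : Real F f := by
  obtain ⟨h, hh, he⟩ := F.perm_mem σ hσ
  exact ⟨h, hh, fun u => (he u).trans (e u).symm⟩

theorem real_diag (F : Frame z Q) {a : Fin 6 → ZMod 3} (ha : ∑ i, a i = 0) (f : Equiv.Perm V)
    (e : ∀ u, f u = diag a u) : Real F f := by
  obtain ⟨h, hh, he⟩ := F.diag_mem a ha
  exact ⟨h, hh, fun u => (he u).trans (e u).symm⟩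

end Cfsg.Agent.LFType10
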