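import Cfsg.Agent.LFType10.Fusion

/-!
An element of order three acting as the scalar splits the elementary abelian subgroup as the product of a
pure part and its fixed part.
-/
set_option autoImplicit false

namespace Cfsg.Agent.LFType10

open Cfsg.Agent.LFType23

variable {G : Type*} [Group G] [Finite G] {z : G} {Q : Subgroup G} (C : Ctx z Q)

theorem om_omInv (u : V) : om (om (om u)) = u := om_cube u

include C in
theorem z_comm_all {a : G} (ha : a ∈ Q) : Commute a z := C.F.le_cent a ha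

include C in
theorem Q_pow_four {a : G} (ha : a ∈ Q) : a ^ 4 = 1 := by
  have h := C.F.sq a ha
  rw [show a ^ 4 = (a * a) * (a * a) by simp only [pow_succ, pow_zero, one_mul, mul_assoc], h]
  split_ifs
  · exact one_mul 1
  · exact C.F.z_sq

theorem exists_x : ∃ x, Commute x z ∧ x ^ 3 = 1 ∧ ∀ u, C.F.pi x u = om u := by
  obtain ⟨x, hx, e⟩ := exists_scalar C.F
  have h3 : x ^ 3 ∈ Q := C.F.faithful _ (hx.pow_left 3) fun u => by
    rw [C.F.pi_pow hx]
    simp [Function.iterate_succ, e, om_cube]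
  refine ⟨x ^ 4, hx.pow_left 4, ?_, fun u => ?_⟩
  · rw [← pow_mul, show 4 * 3 = 3 * 4 by rfl, pow_mul, Q_pow_four C h3]
  · rw [C.F.pi_pow hx]
    simp [Function.iterate_succ, e, om_cube]

/-- The scalar element of order three. -/
noncomputable def xS : G := Classical.choose (exists_x C)

theorem xS_z : Commute (xS C) z := (Classical.choose_spec (exists_x C)).1

theorem xS_cube : xS C ^ 3 = 1 := (Classical.choose_spec (exists_x C)).2.1

theorem xS_pi (u : V) : C.F.pi (xS C) u = om u := (Classical.choose_spec (exists_x C)).2.2 u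

/-- Conjugation by the scalar element. -/
noncomputable def phi (a : G) : G := xS C * a * (xS C)⁻¹

theorem phi_mul (a b : G) : phi C (a * b) = phi C a * phi C b := by unfold phi; group

theorem phi_one : phi C 1 = 1 := by unfold phi; group

theorem phi_three (a : G) : phi C (phi C (phi C a)) = a := by
  unfold phi
  have h := xS_cube C
  rw [pow_succ, pow_two] at h
  rw [show xS C * (xS C * (xS C * a * (xS C)⁻¹) * (xS C)⁻¹) * (xS C)⁻¹ =
    (xS C * xS C * xS C) * a * (xS C * xS C * xS C)⁻¹ by group, h, one_mul, inv_one, mul_one]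

theorem phi_z : phi C z = z := by unfold phi; rw [(xS_z C).eq, mul_inv_cancel_right]

theorem phi_Q {a : G} (ha : a ∈ Q) : phi C a ∈ Q ∧ C.F.mu (phi C a) = om (C.F.mu a) :=
  ⟨C.F.normal _ (xS_z C) a ha, (C.F.pi_mu _ (xS_z C) a ha).trans (xS_pi C _)⟩

theorem inU_om : ∀ {u : V}, InU u → InU (om u) := by
  have key : ∀ n ∈ Ulist, app omL n ∈ Ulist := by decide +kernel
  intro u hu
  show enc (om u) ∈ Ulist
  rw [om_coded]
  exact key _ hu

theorem phi_Ct {a : G} (ha : a ∈ Ct C.F) : phi C a ∈ Ct C.F :=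
  conj_Ct C (xS_z C) (fun u hu => by rw [xS_pi]; exact inU_om hu) ha

theorem phi_Ut {a : G} (ha : a ∈ Ut C.F) : phi C a ∈ Ut C.F :=
  ⟨(phi_Q C ha.1).1, by rw [(phi_Q C ha.1).2]; exact inU_om ha.2⟩

theorem lin_code {l : List ℕ} (hl : l ∈ RL) {h : G} (e : Coded (C.F.pi h) l) : C.F.Lin h := by
  have key : ∀ l ∈ RL, LFType10.cmp l omL = LFType10.cmp omL l := by decide +kernel
  exact fun u => congrFun ((e.comp om_coded).eq (g := om ∘ C.F.pi h)
    (by rw [key l hl]; exact Coded.comp om_coded e)) u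

theorem lin_Ct {a : G} (ha : a ∈ Ct C.F) : C.F.Lin a := by
  obtain ⟨l, hl, e⟩ := code_Ct C ha
  exact lin_code C hl e

theorem phi_pi {a : G} (ha : a ∈ Ct C.F) (u : V) : C.F.pi (phi C a) u = C.F.pi a u := by
  unfold phi
  rw [C.F.pi_mul ((xS_z C).mul_left (comm_z ha)) (xS_z C).inv_left, C.F.pi_mul (xS_z C) (comm_z ha), xS_pi,
    ← lin_Ct C ha, ← xS_pi C (C.F.pi (xS C)⁻¹ u), ← C.F.pi_mul (xS_z C) (xS_z C).inv_left, mul_inv_cancel,
    C.F.pi_one]

/-- A linear element can be corrected to commute with the scalar element. -/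
theorem exists_comm_lift {h : G} (hh : Commute h z) (hl : C.F.Lin h) :
    ∃ k, Commute k z ∧ Commute k (xS C) ∧ ∀ u, C.F.pi k u = C.F.pi h u := by
  set x := xS C with hx
  have hxz := xS_z C
  have hd : x⁻¹ * (h * x * h⁻¹) ∈ Q := by
    refine C.F.faithful _ (hxz.inv_left.mul_left ((hh.mul_left hxz).mul_left hh.inv_left)) fun u => ?_
    rw [C.F.pi_mul hxz.inv_left ((hh.mul_left hxz).mul_left hh.inv_left),
      C.F.pi_mul (hh.mul_left hxz) hh.inv_left, C.F.pi_mul hh hxz, xS_pi, hl, ← C.F.pi_mul hh hh.inv_left,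
      mul_inv_cancel, C.F.pi_one, ← xS_pi C u, ← C.F.pi_mul hxz.inv_left hxz, inv_mul_cancel, C.F.pi_one]
  set d := x⁻¹ * (h * x * h⁻¹) with hdd
  obtain ⟨q, hq, hqe⟩ := C.F.mu_surj (om (om (C.F.mu d)))
  have hk : Commute (q * h) z := (z_comm_all C hq).mul_left hh
  refine ⟨q * h, hk, ?_, fun u => by rw [C.F.pi_mul (z_comm_all C hq) hh, C.F.pi_eq_self_of_mem hq]⟩
  have he : (q * h) * x * (q * h)⁻¹ = x * (x⁻¹ * q * x * d * q⁻¹) := by rw [hdd]; group
  have hm : x⁻¹ * q * x ∈ Q := by simpa using C.F.normal x⁻¹ hxz.inv_left q hq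
  have hmu : C.F.mu (x⁻¹ * q * x * d * q⁻¹) = 0 := by
    have e1 : C.F.mu (x⁻¹ * q * x) = om (om (om (om (C.F.mu d)))) := by
      have := C.F.pi_mu x⁻¹ hxz.inv_left q hq
      rw [inv_inv, hqe] at this
      rw [this]
      apply C.F.pi_injective hxz
      rw [← C.F.pi_mul hxz hxz.inv_left, mul_inv_cancel, C.F.pi_one, xS_pi, om_cube, ← one_add_om,
        one_add_om]
    rw [C.F.mu_mul _ (mul_mem hm hd) _ (inv_mem hq), C.F.mu_inv hq, C.F.mu_mul _ hm _ hd, e1, hqe, om_cube,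
      add_comm (om _), one_add_om, add_self]
  have hmem : x⁻¹ * q * x * d * q⁻¹ ∈ Q := mul_mem (mul_mem hm hd) (inv_mem hq)
  rcases (C.F.mu_eq_zero _ hmem).1 hmu with e | e <;> rw [e] at he
  · rw [mul_one] at he
    exact mul_inv_eq_iff_eq_mul.1 he
  · exfalso
    have h3 : ((q * h) * x * (q * h)⁻¹) ^ 3 = 1 := by rw [conj_pow, xS_cube, mul_one, mul_inv_cancel]
    rw [he, Commute.mul_pow hxz, xS_cube, one_mul, pow_succ, pow_two, C.F.z_sq, one_mul] at h3
    exact C.F.z_ne h3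

/-- The norm under the scalar element. -/
noncomputable def Nrm (a : G) : G := a * phi C a * phi C (phi C a)

theorem Nrm_mem {a : G} (ha : a ∈ Ct C.F) : Nrm C a ∈ Ct C.F :=
  mul_mem (mul_mem ha (phi_Ct C ha)) (phi_Ct C (phi_Ct C ha))

theorem Nrm_mul {a b : G} (ha : a ∈ Ct C.F) (hb : b ∈ Ct C.F) : Nrm C (a * b) = Nrm C a * Nrm C b := by
  have c := Ct_comm C
  unfold Nrm
  rw [phi_mul, phi_mul]
  calc a * b * (phi C a * phi C b) * (phi C (phi C a) * phi C (phi C b))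
      = a * (b * phi C a) * (phi C b * phi C (phi C a)) * phi C (phi C b) := by group
    _ = a * (phi C a * b) * (phi C (phi C a) * phi C b) * phi C (phi C b) := by
      rw [c b hb _ (phi_Ct C ha), c _ (phi_Ct C hb) _ (phi_Ct C (phi_Ct C ha))]
    _ = a * phi C a * (b * phi C (phi C a)) * phi C b * phi C (phi C b) := by group
    _ = a * phi C a * (phi C (phi C a) * b) * phi C b * phi C (phi C b) := by
      rw [c b hb _ (phi_Ct C (phi_Ct C ha))]
    _ = _ := by group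

theorem phi_Nrm {a : G} (ha : a ∈ Ct C.F) : phi C (Nrm C a) = Nrm C a := by
  rw [Nrm, phi_mul, phi_mul, phi_three,
    Ct_comm C _ (mul_mem (phi_Ct C ha) (phi_Ct C (phi_Ct C ha))) a ha, ← mul_assoc]

theorem Nrm_pi {a : G} (ha : a ∈ Ct C.F) (u : V) : C.F.pi (Nrm C a) u = C.F.pi a u := by
  rw [Nrm, C.F.pi_mul ((comm_z ha).mul_left (comm_z (phi_Ct C ha))) (comm_z (phi_Ct C (phi_Ct C ha))),
    C.F.pi_mul (comm_z ha) (comm_z (phi_Ct C ha)), phi_pi C (phi_Ct C ha), phi_pi C ha, phi_pi C ha,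
    ← C.F.pi_mul (comm_z ha) (comm_z ha), elementary_Ct C a ha, C.F.pi_one]

theorem Nrm_Ut {a : G} (ha : a ∈ Ut C.F) : Nrm C a = 1 ∨ Nrm C a = z := by
  obtain ⟨h1, e1⟩ := phi_Q C ha.1
  obtain ⟨h2, e2⟩ := phi_Q C h1
  refine (C.F.mu_eq_zero _ (mul_mem (mul_mem ha.1 h1) h2)).1 ?_
  rw [C.F.mu_mul _ (mul_mem ha.1 h1) _ h2, C.F.mu_mul _ ha.1 _ h1, e2, e1, one_add_om, add_self]

theorem Nrm_z : Nrm C z = z := by rw [Nrm, phi_z, phi_z, C.F.z_sq, one_mul]

theorem exists_pl {w : V} (hw : InU w) : ∃ a ∈ Ut C.F, C.F.mu a = w ∧ Nrm C a = 1 := by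
  obtain ⟨a, ha, rfl⟩ := C.F.mu_surj w
  have haU : a ∈ Ut C.F := ⟨ha, hw⟩
  rcases Nrm_Ut C haU with e | e
  · exact ⟨a, haU, rfl, e⟩
  · refine ⟨a * z, mul_mem haU (z_mem_Ut C.F), C.F.mu_mul_z ha, ?_⟩
    rw [Nrm_mul C (Ut_le_Ct C.F haU) (z_mem_Ct C), e, Nrm_z, C.F.z_sq]

open Classical in
/-- The pure lift. -/
noncomputable def pl (w : V) : G := if hw : InU w then Classical.choose (exists_pl C hw) else 1

theorem pl_spec {w : V} (hw : InU w) : pl C w ∈ Ut C.F ∧ C.F.mu (pl C w) = w ∧ Nrm C (pl C w) = 1 := by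
  rw [pl, dif_pos hw]
  exact Classical.choose_spec (exists_pl C hw)

theorem pl_unique {a : G} (ha : a ∈ Ut C.F) (hn : Nrm C a = 1) : a = pl C (C.F.mu a) := by
  obtain ⟨hb, e, hbn⟩ := pl_spec C ha.2
  rcases (C.F.mu_eq_iff ha.1 hb.1).1 e.symm with h | h
  · exact h
  · exfalso
    have := hn
    rw [h, Nrm_mul C (Ut_le_Ct C.F hb) (z_mem_Ct C), hbn, Nrm_z, one_mul] at this
    exact C.F.z_ne this

theorem pl_add {w w' : V} (hw : InU w) (hw' : InU w') : pl C (w + w') = pl C w * pl C w' := by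
  obtain ⟨h1, e1, n1⟩ := pl_spec C hw
  obtain ⟨h2, e2, n2⟩ := pl_spec C hw'
  rw [pl_unique C (mul_mem h1 h2) (by rw [Nrm_mul C (Ut_le_Ct C.F h1) (Ut_le_Ct C.F h2), n1, n2, one_mul]),
    C.F.mu_mul _ h1.1 _ h2.1, e1, e2]

theorem pl_zero : pl C 0 = 1 := by
  have h := pl_unique C (a := 1) (one_mem _) (by rw [Nrm, phi_one, phi_one, one_mul, one_mul])
  rw [C.F.mu_one] at h
  exact h.symm

/-- The fixed part. -/
def Fx (a : G) : Prop := a ∈ Ct C.F ∧ phi C a = a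

theorem Fx_mul {a b : G} (ha : Fx C a) (hb : Fx C b) : Fx C (a * b) :=
  ⟨mul_mem ha.1 hb.1, by rw [phi_mul, ha.2, hb.2]⟩

theorem Fx_z : Fx C z := ⟨z_mem_Ct C, phi_z C⟩

theorem Fx_one : Fx C 1 := ⟨one_mem _, phi_one C⟩

theorem Fx_unique {a b : G} (ha : Fx C a) (hb : Fx C b) (h : ∀ u, C.F.pi a u = C.F.pi b u) :
    a = b ∨ a = b * z := by
  have hc : a⁻¹ * b ∈ Ut C.F := by
    rw [← inter_Q C.F, Subgroup.mem_inf]
    refine ⟨mul_mem (inv_mem ha.1) hb.1,
      C.F.faithful _ ((comm_z ha.1).inv_left.mul_left (comm_z hb.1)) fun u => ?_⟩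
    rw [C.F.pi_mul (comm_z ha.1).inv_left (comm_z hb.1), ← h, C.F.pi_inv_apply (comm_z ha.1)]
  have hfix : phi C (a⁻¹ * b) = a⁻¹ * b := by
    rw [phi_mul, hb.2, show phi C a⁻¹ = (phi C a)⁻¹ by unfold phi; group, ha.2]
  have h0 : C.F.mu (a⁻¹ * b) = 0 := by
    apply om_eq_self
    rw [← (phi_Q C hc.1).2, hfix]
  rcases (C.F.mu_eq_zero _ hc.1).1 h0 with e | e
  · exact Or.inl (inv_mul_eq_one.1 e)
  · right
    rw [inv_mul_eq_iff_eq_mul] at e
    rw [e, mul_assoc, C.F.z_sq, mul_one]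

theorem exists_Fx {l : List ℕ} (hl : l ∈ RL) : ∃ p, Fx C p ∧ Coded (C.F.pi p) l := by
  obtain ⟨a, ha, e⟩ := exists_lift C hl
  exact ⟨Nrm C a, ⟨Nrm_mem C ha, phi_Nrm C ha⟩, fun u => by rw [Nrm_pi C ha]; exact e u⟩

theorem Nrm_Fx {p : G} (hp : Fx C p) : Nrm C p = p := by
  rw [Nrm, hp.2, hp.2, elementary_Ct C p hp.1, one_mul]

/-- Every element is a pure element times a fixed one. -/
theorem decomp {a : G} (ha : a ∈ Ct C.F) : ∃ w p, InU w ∧ Fx C p ∧ a = pl C w * p := by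
  set p := Nrm C a with hp
  have hpF : Fx C p := ⟨Nrm_mem C ha, phi_Nrm C ha⟩
  have hu : a * p ∈ Ut C.F := by
    rw [← inter_Q C.F, Subgroup.mem_inf]
    refine ⟨mul_mem ha hpF.1, C.F.faithful _ ((comm_z ha).mul_left (comm_z hpF.1)) fun u => ?_⟩
    rw [C.F.pi_mul (comm_z ha) (comm_z hpF.1), hp, Nrm_pi C ha, ← C.F.pi_mul (comm_z ha) (comm_z ha),
      elementary_Ct C a ha, C.F.pi_one]
  refine ⟨C.F.mu (a * p), p, hu.2, hpF, ?_⟩
  rw [← pl_unique C hu (by rw [Nrm_mul C ha hpF.1, Nrm_Fx C hpF, ← hp, elementary_Ct C p hpF.1]),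
    mul_assoc, elementary_Ct C p hpF.1, mul_one]

/-- A power of the central involution. -/
def zp (_C : Ctx z Q) (e : ZMod 2) : G := if e = 0 then 1 else z

theorem zp_add (a b : ZMod 2) : zp C (a + b) = zp C a * zp C b := by
  rcases (by decide : ∀ x : ZMod 2, x = 0 ∨ x = 1) a with rfl | rfl <;>
    rcases (by decide : ∀ x : ZMod 2, x = 0 ∨ x = 1) b with rfl | rfl <;>
    simp [zp, C.F.z_sq, show (1 : ZMod 2) + 1 = 0 from rfl]

theorem zp_mem_Ut (e : ZMod 2) : zp C e ∈ Ut C.F := by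
  unfold zp; split_ifs
  exacts [one_mem _, z_mem_Ut C.F]

theorem zp_comm (e : ZMod 2) {a : G} (ha : Commute a z) : Commute a (zp C e) := by
  unfold zp; split_ifs
  exacts [Commute.one_right _, ha]

theorem conj_eq {q a : G} (hq : q ∈ Q) (ha : a ∈ Q) :
    q * a * q⁻¹ = a * zp C (bf (C.F.mu q) (C.F.mu a)) := by
  rw [C.F.comm q hq a ha]
  unfold zp
  split_ifs <;> simp

include C in
theorem bf_om_om (u w : V) : bf (om u) (om w) = bf u w := by
  have h := C.F.bf_pi (xS_z C) u w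
  rwa [xS_pi, xS_pi] at h

/-- Conjugation of a fixed element by an element of `Q`. -/
theorem conj_Fx {p q : G} (hp : Fx C p) (hq : q ∈ Q) :
    ∃ k, InU k ∧ k = C.F.mu q + C.F.pi p (C.F.mu q) ∧
      q * p * q⁻¹ = pl C k * zp C (bf (C.F.mu q) k + bf (C.F.mu q) (om k)) * p := by
  set x := q * p * q⁻¹ * p with hx
  have pp : p * p = 1 := elementary_Ct C p hp.1
  have hpq : p * q⁻¹ * p ∈ Q ∧ C.F.mu (p * q⁻¹ * p) = C.F.pi p (C.F.mu q) := by
    have e : p * q⁻¹ * p = p * q⁻¹ * p⁻¹ := by rw [inv_eq_of_mul_eq_one_right pp]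
    rw [e]
    exact ⟨C.F.normal p (comm_z hp.1) _ (inv_mem hq), by rw [C.F.pi_mu p (comm_z hp.1) _ (inv_mem hq), C.F.mu_inv hq]⟩
  have hqN : q * p * q⁻¹ ∈ Ct C.F := ((mem_Nt C).1 (Q_le_Nt C hq) p).1 hp.1
  have hxQ : x ∈ Q := by rw [hx, show q * p * q⁻¹ * p = q * (p * q⁻¹ * p) by group]; exact mul_mem hq hpq.1
  have hxU : x ∈ Ut C.F := by rw [← inter_Q C.F, Subgroup.mem_inf]; exact ⟨mul_mem hqN hp.1, hxQ⟩
  have hmu : C.F.mu x = C.F.mu q + C.F.pi p (C.F.mu q) := by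
    rw [hx, show q * p * q⁻¹ * p = q * (p * q⁻¹ * p) by group, C.F.mu_mul _ hq _ hpq.1, hpq.2]
  refine ⟨C.F.mu x, hxU.2, hmu, ?_⟩
  set y := C.F.mu q with hy
  set k := C.F.mu x with hk
  set q1 := phi C q with hq1d
  set q2 := phi C q1 with hq2d
  set x1 := phi C x with hx1d
  set x2 := phi C x1 with hx2d
  obtain ⟨hq1, eq1⟩ := phi_Q C hq
  obtain ⟨hq2, eq2⟩ := phi_Q C hq1
  rw [← hq1d] at hq1 eq1
  rw [← hq2d] at hq2 eq2
  have hxU1 : x1 ∈ Ut C.F := phi_Ut C hxU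
  have hxU2 : x2 ∈ Ut C.F := phi_Ut C hxU1
  have ex1 : C.F.mu x1 = om k := (phi_Q C hxU.1).2
  have ex2 : C.F.mu x2 = om (om k) := by rw [hx2d, (phi_Q C hxU1.1).2, ex1]
  have r1 : x1 = q1 * p * q1⁻¹ * p := by
    rw [hx1d, hx, phi_mul, phi_mul, phi_mul, hp.2, show phi C q⁻¹ = (phi C q)⁻¹ by unfold phi; group]
  have r2 : x2 = q2 * p * q2⁻¹ * p := by
    rw [hx2d, r1, phi_mul, phi_mul, phi_mul, hp.2, show phi C q1⁻¹ = (phi C q1)⁻¹ by unfold phi; group]
  -- the product of the three conjugating elements is central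
  have hrc : Commute (q * q1 * q2) p := by
    have : C.F.mu (q * q1 * q2) = 0 := by
      rw [C.F.mu_mul _ (mul_mem hq hq1) _ hq2, C.F.mu_mul _ hq _ hq1, eq2, eq1, one_add_om, add_self]
    rcases (C.F.mu_eq_zero _ (mul_mem (mul_mem hq hq1) hq2)).1 this with e | e <;> rw [e]
    · exact Commute.one_left _
    · exact (comm_z hp.1).symm
  have main : q * (q1 * x2 * q1⁻¹ * x1) * q⁻¹ * x = 1 := by
    calc q * (q1 * x2 * q1⁻¹ * x1) * q⁻¹ * x
        = q * q1 * q2 * p * (q2⁻¹ * (p * q1⁻¹ * q1 * p) * q1⁻¹ * (p * q⁻¹ * q * p) * q⁻¹ * p) := by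
          rw [r1, r2, hx]; group
      _ = q * q1 * q2 * p * (q * q1 * q2)⁻¹ * p := by
          rw [inv_mul_cancel_right, inv_mul_cancel_right, pp, mul_one, mul_one]; group
      _ = 1 := by rw [hrc.eq, mul_inv_cancel_right, pp]
  set A := bf (om y) (om (om k)) with hA
  set B := bf y (om (om k) + om k) with hB
  have e1 : q1 * x2 * q1⁻¹ = x2 * zp C A := by rw [conj_eq C hq1 hxU2.1, eq1, ex2]
  have hmem : x2 * zp C A * x1 ∈ Ut C.F := mul_mem (mul_mem hxU2 (zp_mem_Ut C A)) hxU1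
  have hm2 : C.F.mu (x2 * zp C A * x1) = om (om k) + om k := by
    have h0 : C.F.mu (zp C A) = 0 := by
      unfold zp; split_ifs
      exacts [C.F.mu_one, C.F.mu_z]
    rw [C.F.mu_mul _ (mul_mem hxU2.1 (zp_mem_Ut C A).1) _ hxU1.1, C.F.mu_mul _ hxU2.1 _ (zp_mem_Ut C A).1,
      h0, ex1, ex2, add_zero]
  rw [e1, conj_eq C hq hmem.1, hm2, ← hy, ← hB] at main
  have comm : ∀ {a b : G}, a ∈ Ut C.F → b ∈ Ut C.F → a * b = b * a := fun ha hb =>
    Ct_comm C _ (Ut_le_Ct C.F ha) _ (Ut_le_Ct C.F hb)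
  have hzz : ∀ e : ZMod 2, zp C e * zp C e = 1 := fun e => sq_Ut (zp_mem_Ut C e)
  have hN : Nrm C x = zp C (A + B) := by
    have h : Nrm C x * zp C (A + B) = 1 := by
      rw [← main]
      calc Nrm C x * zp C (A + B) = x * (x1 * x2) * (zp C A * zp C B) := by
            rw [Nrm, ← hx1d, ← hx2d, zp_add]; group
        _ = (x2 * x1) * (zp C A * zp C B) * x := by
            rw [comm hxU1 hxU2, mul_assoc x, comm hxU (mul_mem (mul_mem hxU2 hxU1) (mul_mem (zp_mem_Ut C A) (zp_mem_Ut C B)))]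
        _ = x2 * (x1 * zp C A) * zp C B * x := by simp only [mul_assoc]
        _ = x2 * zp C A * x1 * zp C B * x := by rw [comm hxU1 (zp_mem_Ut C A)]; simp only [mul_assoc]
    calc Nrm C x = Nrm C x * (zp C (A + B) * zp C (A + B)) := by rw [hzz, mul_one]
      _ = zp C (A + B) := by rw [← mul_assoc, h, one_mul]
  have hzN : ∀ e : ZMod 2, Nrm C (zp C e) = zp C e := fun e => by
    unfold zp; split_ifs
    exacts [Nrm_Fx C (Fx_one C), Nrm_z C]
  have hpl : x * zp C (A + B) = pl C k := by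
    have h1 := pl_unique C (mul_mem hxU (zp_mem_Ut C (A + B))) (by
      rw [Nrm_mul C (Ut_le_Ct C.F hxU) (Ut_le_Ct C.F (zp_mem_Ut C _)), hN, hzN, hzz])
    have h0 : C.F.mu (zp C (A + B)) = 0 := by
      unfold zp; split_ifs
      exacts [C.F.mu_one, C.F.mu_z]
    rwa [C.F.mu_mul _ hxU.1 _ (zp_mem_Ut C _).1, h0, add_zero] at h1
  have hAB : A + B = bf y k + bf y (om k) := by
    rw [hA, hB, bf_om_om C, show om (om k) + om k = k by rw [← one_add_om, add_assoc, add_self, add_zero],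
      add_comm]
  rw [← hAB, ← hpl, mul_assoc x, hzz, mul_one, hx]
  calc q * p * q⁻¹ = q * p * q⁻¹ * (p * p) := by rw [pp, mul_one]
    _ = _ := by group

end Cfsg.Agent.LFType10
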