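import Cfsg.Agent.LFType10.Base
import Cfsg.Agent.LFType23.Dbar

/-!
The standard situation of a group of large Fischer type with class parameter one, and the exact shape
of the centraliser modulo its extraspecial subgroup.
-/
set_option autoImplicit false

namespace Cfsg.Agent.LFType10

open Cfsg.Agent.LFType23

/-- Frames for `z` and a conjugate `s` in the standard position. -/
structure Ctx {G : Type*} [Group G] (z : G) (Q : Subgroup G) where
  F : Frame z Q
  s : G
  R : Subgroup G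
  Fs : Frame s R
  g : G
  hg : g * z * g⁻¹ = s
  hR : R = Q.map (MulAut.conj g).toMonoidHom
  S : Std F Fs 1

variable {G : Type*} [Group G] [Finite G] {z : G}

theorem exists_ctx (Q : Subgroup (Subgroup.centralizer ({z} : Set G))) [Q.Normal]
    (hF : Cfsg.IsOfLargeFischerTypeAt z Q) :
    Nonempty (Ctx z (Q.map (Subgroup.centralizer ({z} : Set G)).subtype)) := by
  classical
  obtain ⟨F0⟩ := exists_frame z Q hF
  obtain ⟨γ, hγ⟩ := F0.exists_classes
  obtain ⟨F, hcl⟩ : ∃ F : Frame z (Q.map (Subgroup.centralizer ({z} : Set G)).subtype), F.Classes 1 := by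
    refine ⟨F0.rescale (Pi.single 0 (1 - γ)), ?_⟩
    have h := F0.classes_rescale hγ (Pi.single 0 (1 - γ))
    rwa [Finset.sum_pi_single', if_pos (Finset.mem_univ _), add_sub_cancel] at h
  obtain ⟨g, ⟨hq, hgQ⟩, hne⟩ := hF.1.2.2.2.2
  have hsQ : g * z * g⁻¹ ∈ Q.map (Subgroup.centralizer ({z} : Set G)).subtype := ⟨_, hgQ, rfl⟩
  have hs1 : g * z * g⁻¹ ≠ 1 := fun e => F.z_ne (conj_eq_one_iff.1 e)
  have hq0 : qf (F.mu (g * z * g⁻¹)) = 0 := (F.sq_eq_one_iff hsQ).1 (by
    rw [show g * z * g⁻¹ * (g * z * g⁻¹) = g * (z * z) * g⁻¹ by group, F.z_sq]; group)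
  have hb := F.big_of_isConj hcl hsQ hne (isConj_iff.2 ⟨g, rfl⟩)
  obtain ⟨c, hc, e⟩ := (hcl _ one6 hq0 (F.mu_ne_zero hsQ hs1 hne) one6_spec.1 one6_spec.2).2
    (iff_of_true hb (big_one6 1 (by decide)))
  have hconj : c * g * z * (c * g)⁻¹ = c * (g * z * g⁻¹) * c⁻¹ := by group
  refine ⟨⟨F, _, _, F.tr (c * g), c * g, rfl, rfl, ⟨⟨?_, ?_⟩, hcl, by decide, ?_⟩⟩⟩
  · rw [hconj]; exact F.normal c hc _ hsQ
  · rw [hconj]
    intro e'
    exact hne (mul_left_cancel (mul_right_cancel (e'.trans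
      (by rw [hc.eq, mul_inv_cancel_right] : z = c * z * c⁻¹))))
  · rw [hconj, F.pi_mu c hc _ hsQ, e]

theorem w0_check : (bnd w0L && goodB w0L && cmp w0L w0L == idL &&
    cmp w0L omL == cmp omL (cmp omL w0L) && app w0L 1365 == 1365 &&
    ([10, 34, 130, 514].all fun d => app w0L d == d || app w0L d == d ^^^ 1365) &&
    (WL.all fun l => cmp l l == idL && bnd l) && enc one6 == 1365 &&
    cmp (trL tA) (commW (pairs.getD 9 default).2.2.1 (pairs.getD 9 default).2.2.2) == trL 5 &&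
    trL 5 == tab (perm (Equiv.swap 0 1)) && tA == 1375 &&
    (RL.all fun l => cmp l l == idL && bnd l) && cmp (trL tA) (trL tA) == idL && bnd (trL tA) &&
    ([85, 301, 1063].all Ulist.contains) && (Ulist.all fun a => decide (a < 4096))) = true := by
  decide +kernel

variable {Q : Subgroup G} (C : Ctx z Q)

theorem Ctx.hcl : C.F.Classes 1 := C.S.classes

theorem Ctx.enc_one6 : enc one6 = 1365 := by
  have hc := w0_check
  simp only [Bool.and_eq_true, beq_iff_eq] at hc
  exact hc.1.1.1.1.1.1.1.1.2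

theorem Ctx.shift_one {a : G} (ha : a ∈ C.S.link.cen) {u : V} (hu : u ∈ C.S.link.dbar) :
    C.F.pi a u = u ∨ C.F.pi a u = u + one6 := by
  obtain ⟨haR, haz⟩ := C.S.link.mem_cen.1 ha
  obtain ⟨x, hxQ, hxR, rfl⟩ := hu
  rw [← C.F.pi_mu a haz x hxQ, C.Fs.comm a haR x hxR]
  split_ifs
  · exact Or.inl rfl
  · exact Or.inr (by rw [C.F.mu_mul x hxQ C.s C.S.link.mem, C.S.vec])

theorem Ctx.dec_mem_dbar : ∀ d ∈ [10, 34, 130, 514], dec d ∈ C.S.link.dbar := by
  have key : ∀ d ∈ [10, 34, 130, 514], ∃ i j, i ≠ j ∧ sc (rot 1 (1, 0)) (pr i j) = dec d := by decide +kernel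
  intro d hd
  obtain ⟨i, j, hij, e⟩ := key d hd
  exact e ▸ C.S.pair_mem i j hij

theorem Ctx.real_w0 : RealL C.F w0L := by
  have hc := w0_check
  simp only [Bool.and_eq_true, beq_iff_eq] at hc
  obtain ⟨⟨⟨⟨⟨⟨⟨⟨⟨⟨⟨⟨⟨⟨⟨hb, hgood⟩, hinv⟩, hsemi⟩, hone⟩, hmv⟩, hWL⟩, henc⟩, -⟩, -⟩, -⟩, -⟩, -⟩, -⟩, -⟩, -⟩ := hc
  obtain ⟨a, ha, hnl⟩ := C.S.exists_nonlin
  obtain ⟨haR, haz⟩ := C.S.link.mem_cen.1 ha
  have hasemi := (C.F.lin_or a haz).resolve_left hnl
  let p : Equiv.Perm V := lperm w0L w0L hb hb hinv hinv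
  have hp : Coded p w0L := coded_mapL hb
  have hpsemi : ∀ u, p (om u) = om (om (p u)) := fun u =>
    congrFun ((hp.comp om_coded).eq (g := om ∘ om ∘ p)
      (by rw [hsemi]; exact Coded.comp om_coded (Coded.comp om_coded hp))) u
  let f : Equiv.Perm V := piPerm C.F haz * p
  have hfg : Good f := Gam.mul_mem (good_of_commute C.hcl haz) (good_of_goodB hgood fun u => rfl)
  have hflin : ∀ u, f (om u) = om (f u) := fun u => by
    show C.F.pi a (p (om u)) = om (C.F.pi a (p u))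
    rw [hpsemi, hasemi, hasemi, om_cube]
  have hd1 : dec 1365 = one6 := by rw [← henc, dec_enc]
  have happ : ∀ x, x < 4096 → p (dec x) = dec (app w0L x) := fun x hx => by
    rw [hp.apply, enc_dec hx]
  have hfix : C.F.pi a one6 = one6 := by rw [← C.S.vec]; exact C.S.link.fix_vec haR haz
  obtain ⟨l, hl, hfl⟩ := linTriv hfg hflin
    (by show C.F.pi a (p (dec 1365)) = _; rw [happ _ (by norm_num), hone, hd1, hfix]) (by
      intro d hd
      have h4 : d < 4096 := (by decide : ∀ d ∈ [10, 34, 130, 514], d < 4096) d hd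
      show C.F.pi a (p (dec d)) = _ ∨ C.F.pi a (p (dec d)) = _
      rw [happ _ h4]
      have hm := List.all_eq_true.1 hmv d hd
      simp only [Bool.or_eq_true, beq_iff_eq] at hm
      have hs := C.shift_one ha (C.dec_mem_dbar d hd)
      rcases hm with e | e <;> rw [e]
      · rw [hd1]; exact hs
      · rw [dec_xor, C.F.pi_add haz, hd1, hfix]
        rcases hs with e' | e'
        · exact Or.inr (by rw [e'])
        · exact Or.inl (by rw [e', add_assoc, add_self, add_zero]))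
  have hl2 := List.all_eq_true.1 hWL l hl
  simp only [Bool.and_eq_true, beq_iff_eq] at hl2
  have hpa : Coded (C.F.pi a) (cmp l w0L) := fun u => by
    have epp : p (p u) = u := p.left_inv u
    have e : f (p u) = C.F.pi a u := by
      show C.F.pi a (p (p u)) = _
      rw [epp]
    rw [← e]
    exact (hfl.comp hp) u
  have h1 : RealL C.F (cmp l (cmp l w0L)) := (realL_WL C.hcl l hl).comp ⟨a, haz, hpa⟩
  obtain ⟨h, hh, he⟩ := h1
  exact ⟨h, hh, fun u => by rw [he, app_cmp, app_cmp, ← app_cmp l l, hl2.1, ← hp u, idL_app]⟩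

theorem Ctx.not_real_tr : ¬ RealL C.F (trL tA) := by
  intro h
  have hc := w0_check
  simp only [Bool.and_eq_true, beq_iff_eq] at hc
  obtain ⟨⟨⟨⟨⟨⟨⟨⟨-, hsw⟩, hperm⟩, -⟩, -⟩, -⟩, -⟩, -⟩, -⟩ := hc
  have h5 : RealL C.F (trL 5) := by
    rw [← hsw]
    exact h.comp (realL_commA C.hcl (realL_word (realL_allGens C.hcl) _) (realL_word (realL_allGens C.hcl) _))
  obtain ⟨k, hk, e⟩ := h5
  have e' : ∀ u, C.F.pi k u = perm (Equiv.swap 0 1) u := fun u =>
    congrFun (e.eq (g := perm (Equiv.swap 0 1)) (by rw [hperm]; exact coded_tab (perm_add _))) u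
  have := C.S.even_of_lin hk (fun u => by rw [e', e']; rfl) e'
  rw [Equiv.Perm.sign_swap (by decide)] at this
  exact absurd this (by decide)

/-- An element of the centraliser fixing the subspace acts as one of the sixteen maps. -/
theorem Ctx.fix_mem {h : G} (hh : Commute h z) (hfix : ∀ a ∈ Ulist, C.F.pi h (dec a) = dec a) :
    ∃ l ∈ RL, Coded (C.F.pi h) l := by
  have hc := w0_check
  simp only [Bool.and_eq_true, beq_iff_eq] at hc
  obtain ⟨⟨⟨⟨⟨⟨-, htA⟩, hRL⟩, ht2⟩, htb⟩, hin⟩, -⟩ := hc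
  have hin' : ∀ a ∈ [85, 301, 1063], a ∈ Ulist := fun a ha =>
    List.contains_iff_mem.1 (List.all_eq_true.1 hin a ha)
  have hlin : ∀ u, C.F.pi h (om u) = om (C.F.pi h u) := by
    refine (C.F.lin_or h hh).resolve_right fun hs => ?_
    have e85 : om (dec 85) = dec 170 := enc_injective (by
      rw [om_coded, enc_dec (by norm_num), enc_dec (by norm_num)]; decide +kernel)
    have h1 := hs (dec 85)
    rw [e85, hfix _ (hin' 85 (by simp)), hfix 170 (by decide)] at h1
    rw [e85] at h1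
    have := om_eq_self h1.symm
    exact absurd (congrArg enc this) (by rw [enc_dec (by norm_num), enc_zero]; norm_num)
  rcases fixU (f := piPerm C.F hh) (good_of_commute C.hcl hh) hlin (fun a ha => hfix a (hin' a ha))
    with ⟨l, hl, e⟩ | ⟨l, hl, e⟩
  · exact ⟨l, hl, e⟩
  · exfalso
    obtain ⟨r, hr, rfl⟩ := List.mem_map.1 hl
    have hr2 := List.all_eq_true.1 hRL r hr
    simp only [Bool.and_eq_true, beq_iff_eq] at hr2
    refine C.not_real_tr ?_
    obtain ⟨k, hk, hke⟩ := (realL_RL C.hcl r hr).comp ⟨h, hh, e⟩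
    exact ⟨k, hk, fun u => by rw [hke, app_cmp, app_cmp, ← app_cmp r r, hr2.1, ← coded_mapL htb u, idL_app]⟩

theorem Ctx.realL_P : ∀ g ∈ PL, RealL C.F g := realL_PL C.hcl C.real_w0

end Cfsg.Agent.LFType10
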