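import Cfsg.Agent.LFType10.Outer
import Cfsg.Agent.LFType10.ModelData

/-!
The two classes in the subspace part, the parametrisation by coordinates, and the independence of the
status of fixed elements.
-/
set_option autoImplicit false

namespace Cfsg.Agent.LFType10

open Cfsg.Agent.LFType23

variable {G : Type*} [Group G] [Finite G] {z : G} {Q : Subgroup G} (C : Ctx z Q)

theorem isT_conj' {m a b : G} (h : m * a * m⁻¹ = b) : IsT C b ↔ IsT C a := h ▸ isT_conj C a m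

theorem not_isT_one : ¬ IsT C (1 : G) := fun h => h.1 rfl

theorem not_isT_z : ¬ IsT C z := fun h => h.2 (IsConj.refl z)

theorem isT_Ut {a : G} (ha : a ∈ Ut C.F) : IsT C a ↔ Small (C.F.mu a) := by
  constructor
  · rintro ⟨h1, h2⟩
    have hz : a ≠ z := fun e => h2 (e ▸ IsConj.refl z)
    have h0 := C.F.mu_ne_zero ha.1 h1 hz
    have hq : qf (C.F.mu a) = 0 := (C.F.sq_eq_one_iff ha.1).1 (sq_Ut ha)
    refine ⟨hq, h0, fun hb => h2 ?_⟩
    obtain ⟨h, hh, e⟩ := C.F.conj_of_rel C.S.link.mem ha.1 h0 (by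
      rw [C.S.vec]
      exact (C.hcl _ _ one6_spec.1 one6_spec.2 hq h0).2 (iff_of_true (big_one6 1 (by decide)) hb))
    refine (isConj_iff.2 ⟨C.g, C.hg⟩).trans (isConj_iff.2 ⟨h, e⟩)
  · rintro ⟨-, h0, hb⟩
    refine ⟨fun e => h0 (by rw [e, C.F.mu_one]), fun hc => hb ?_⟩
    exact C.F.big_of_isConj C.hcl ha.1 (fun e => h0 (by rw [e, C.F.mu_z])) hc

theorem exists_small_move {u w : V} (hu : InU u) (hw : InU w) (hsu : Small u) (hsw : Small w) :
    ∃ m ∈ Nt C, Commute m z ∧ C.F.pi m u = w := by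
  have hc := small_check
  simp only [Bool.and_eq_true] at hc
  obtain ⟨⟨⟨hst, hkeys⟩, -⟩, -⟩ := hc
  set s0 := (smallSt.getD 0 (0, 0, 0)).1 with hs0
  have key : ∀ k, k < smallSt.length → ∃ m ∈ Nt C, Commute m z ∧
      C.F.pi m (dec s0) = dec (smallSt.getD k (0, 0, 0)).1 := by
    intro k
    induction k using Nat.strong_induction_on with
    | _ k ih =>
      intro hk
      have h := List.all_eq_true.1 hst k (List.mem_range.2 hk)
      simp only [Bool.and_eq_true, Bool.or_eq_true, beq_iff_eq, decide_eq_true_eq, List.contains_iff_mem] at h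
      rcases h.2 with rfl | ⟨⟨hlt, hm⟩, happ⟩
      · exact ⟨1, one_mem _, Commute.one_left _, C.F.pi_one _⟩
      · obtain ⟨m, hmN, hmz, hme⟩ := ih _ hlt (lt_trans hlt hk)
        obtain ⟨g, hg, -, hge, hgU⟩ := exists_gen C hm
        have hp := List.all_eq_true.1 hst _ (List.mem_range.2 (lt_trans hlt hk))
        simp only [Bool.and_eq_true, List.contains_iff_mem] at hp
        refine ⟨g * m, mul_mem (Nt_of_inU C hg hgU) hmN, hg.mul_left hmz, ?_⟩
        rw [C.F.pi_mul hg hmz, hme, hge.apply, enc_dec (enc_lt_U hp.1.1), happ]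
  have find : ∀ {v : V}, InU v → Small v → ∃ m ∈ Nt C, Commute m z ∧ C.F.pi m (dec s0) = v := by
    intro v hv hs
    have h := List.all_eq_true.1 hkeys (enc v) hv
    rw [(small_iff v).1 hs] at h
    simp only [Bool.not_true, Bool.false_or, List.contains_iff_mem, List.mem_map] at h
    obtain ⟨s, hs', es⟩ := h
    obtain ⟨k, hk, rfl⟩ := List.getElem_of_mem hs'
    obtain ⟨m, h1, h2, h3⟩ := key k hk
    exact ⟨m, h1, h2, by rw [h3, List.getD_eq_getElem _ _ hk, es, dec_enc]⟩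
  obtain ⟨m, h1, h2, h3⟩ := find hu hsu
  obtain ⟨m', h1', h2', h3'⟩ := find hw hsw
  exact ⟨m' * m⁻¹, mul_mem h1' (inv_mem h1), h2'.mul_left h2.inv_left,
    by rw [C.F.pi_mul h2' h2.inv_left, ← h3, C.F.pi_inv_apply h2, h3']⟩

/-- The noncentral elements of the subspace part form one class of the normaliser. -/
theorem small_conj {a b : G} (ha : a ∈ Ut C.F) (hb : b ∈ Ut C.F) (hta : IsT C a) (htb : IsT C b) :
    ∃ m ∈ Nt C, m * a * m⁻¹ = b := by
  have sa := (isT_Ut C ha).1 hta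
  have sb := (isT_Ut C hb).1 htb
  obtain ⟨m, hm, hmz, hme⟩ := exists_small_move C ha.2 hb.2 sa sb
  have hmQ := C.F.normal m hmz a ha.1
  have e : C.F.mu (m * a * m⁻¹) = C.F.mu b := by rw [C.F.pi_mu m hmz a ha.1, hme]
  rcases (C.F.mu_eq_iff hmQ hb.1).1 e with h | h
  · exact ⟨m, hm, h⟩
  · obtain ⟨y, hy⟩ : ∃ y, bf y (C.F.mu b) ≠ 0 := by
      by_contra hne
      push Not at hne
      exact sb.2.1 (bf_nondeg fun w => by rw [bf_comm]; exact hne w)
    obtain ⟨q, hq, rfl⟩ := C.F.mu_surj y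
    refine ⟨q * m, mul_mem (Q_le_Nt C hq) hm, ?_⟩
    rw [show q * m * a * (q * m)⁻¹ = q * (m * a * m⁻¹) * q⁻¹ by group, h,
      show q * (b * z) * q⁻¹ = (q * b * q⁻¹) * (q * z * q⁻¹) by group, C.F.comm q hq b hb.1, if_neg hy,
      (C.F.le_cent q hq).eq, mul_inv_cancel_right, mul_assoc, C.F.z_sq, mul_one]

/-- A fixed element commutes with the elements of `Q` whose vectors it fixes. -/
theorem fixed_commute {p q : G} (hp : Fx C p) (hq : q ∈ Q) (hfix : C.F.pi p (C.F.mu q) = C.F.mu q) :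
    p * q * p⁻¹ = q := by
  have hpz := comm_z hp.1
  rcases (C.F.mu_eq_iff (C.F.normal p hpz q hq) hq).1 (by rw [C.F.pi_mu p hpz q hq, hfix]) with h | h
  · exact h
  exfalso
  set q1 := phi C q with hq1d
  set q2 := phi C q1 with hq2d
  obtain ⟨hq1, eq1⟩ := phi_Q C hq
  obtain ⟨hq2, eq2⟩ := phi_Q C hq1
  rw [← hq1d] at hq1 eq1
  rw [← hq2d] at hq2 eq2
  have hinv : phi C p⁻¹ = p⁻¹ := by
    rw [show phi C p⁻¹ = (phi C p)⁻¹ by unfold phi; group, hp.2]
  have h1 : p * q1 * p⁻¹ = q1 * z := by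
    have := congrArg (phi C) h
    rwa [phi_mul, phi_mul, phi_mul, hp.2, hinv, phi_z, ← hq1d] at this
  have h2 : p * q2 * p⁻¹ = q2 * z := by
    have := congrArg (phi C) h1
    rwa [phi_mul, phi_mul, phi_mul, hp.2, hinv, phi_z, ← hq2d] at this
  have h0 : C.F.mu (q * q1 * q2) = 0 := by
    rw [C.F.mu_mul _ (mul_mem hq hq1) _ hq2, C.F.mu_mul _ hq _ hq1, eq2, eq1, one_add_om, add_self]
  have hc : p * (q * q1 * q2) * p⁻¹ = q * q1 * q2 := by
    rcases (C.F.mu_eq_zero _ (mul_mem (mul_mem hq hq1) hq2)).1 h0 with e | e <;> rw [e]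
    · group
    · rw [hpz.eq, mul_inv_cancel_right]
  rw [show p * (q * q1 * q2) * p⁻¹ = (p * q * p⁻¹) * (p * q1 * p⁻¹) * (p * q2 * p⁻¹) by group, h, h1, h2] at hc
  have c1 : z * q1 = q1 * z := (C.F.le_cent q1 hq1).eq.symm
  have c2 : z * q2 = q2 * z := (C.F.le_cent q2 hq2).eq.symm
  rw [show q * z * (q1 * z) * (q2 * z) = q * (z * q1) * (z * q2) * z by group, c1, c2,
    show q * (q1 * z) * (q2 * z) * z = q * q1 * (z * q2) * (z * z) by group, c2, C.F.z_sq, mul_one,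
    ← mul_assoc] at hc
  exact C.F.z_ne (mul_eq_left.1 hc)

theorem RLi_mem {i : ℕ} (hi : i < 16) : RLi i ∈ RL := by
  have hlen : RL.length = 16 := by decide +kernel
  rw [RLi, List.getD_eq_getElem _ _ (by omega)]; exact List.getElem_mem _

theorem RLi_zero : RLi 0 = idL := by decide +kernel

open Classical in
/-- A chosen fixed lift of a listed map. -/
noncomputable def pf (i : ℕ) : G :=
  if h : 1 ≤ i ∧ i < 16 then Classical.choose (exists_Fx C (RLi_mem h.2)) else 1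

theorem pf_zero : pf C 0 = 1 := by rw [pf, dif_neg]; omega

theorem pf_spec {i : ℕ} (hi : i < 16) : Fx C (pf C i) ∧ Coded (C.F.pi (pf C i)) (RLi i) := by
  rcases Nat.eq_zero_or_pos i with rfl | h
  · rw [pf_zero, RLi_zero]
    exact ⟨Fx_one C, fun u => by rw [C.F.pi_one, idL_app]⟩
  · rw [pf, dif_pos ⟨h, hi⟩]
    exact Classical.choose_spec (exists_Fx C (RLi_mem hi))

theorem RLi_inj {i j : ℕ} (hi : i < 16) (hj : j < 16) (h : RLi i = RLi j) : i = j := by
  have key : ∀ a : Fin 16, ∀ b : Fin 16, RLi a = RLi b → a = b := by decide +kernel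
  exact congrArg Fin.val (key ⟨i, hi⟩ ⟨j, hj⟩ h)

/-- The element with given index, code and sign. -/
noncomputable def par (t : ℕ × ℕ × ZMod 2) : G := el C (dec t.2.1) t.2.2 (pf C t.1)

/-- The range of the parameters. -/
def Dom : Finset (ℕ × ℕ × ZMod 2) := Finset.range 16 ×ˢ (Ulist.toFinset ×ˢ Finset.univ)

theorem mem_Dom {t : ℕ × ℕ × ZMod 2} : t ∈ Dom ↔ t.1 < 16 ∧ t.2.1 ∈ Ulist := by
  unfold Dom
  generalize Ulist = L
  simp

attribute [irreducible] Dom

theorem par_mem {t : ℕ × ℕ × ZMod 2} (ht : t ∈ Dom) : par C t ∈ Ct C.F :=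
  el_mem C (inU_dec (mem_Dom.1 ht).2) _ (pf_spec C (mem_Dom.1 ht).1).1

theorem el_code {w : V} (hw : InU w) (e : ZMod 2) {p : G} {l : List ℕ} (hp : Fx C p) (hl : Coded (C.F.pi p) l) :
    Coded (C.F.pi (el C w e p)) l := fun u => by
  have h : pl C w * zp C e ∈ Q := (mul_mem (pl_spec C hw).1 (zp_mem_Ut C e)).1
  rw [el, C.F.pi_mul (C.F.le_cent _ h) (comm_z hp.1), C.F.pi_eq_self_of_mem h, hl u]

theorem par_surj {a : G} (ha : a ∈ Ct C.F) : ∃ t ∈ Dom, par C t = a := by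
  obtain ⟨w, p, hw, hp, rfl⟩ := decomp C ha
  obtain ⟨l, hl, hle⟩ := code_Ct C hp.1
  obtain ⟨i, hi, rfl⟩ := List.getElem_of_mem hl
  have hlen : RL.length = 16 := by decide +kernel
  have hri : RLi i = RL[i] := List.getD_eq_getElem _ _ hi
  obtain ⟨hpf, hpe⟩ := pf_spec C (i := i) (by omega)
  have hpi : ∀ u, C.F.pi p u = C.F.pi (pf C i) u := fun u => congrFun (hle.eq (g := C.F.pi (pf C i)) (hri ▸ hpe)) u
  rcases Fx_unique C hpf hp (fun u => (hpi u).symm) with h | h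
  · rw [← h]
    refine ⟨(i, enc w, 0), mem_Dom.2 ⟨by omega, hw⟩, ?_⟩
    simp [par, el, dec_enc, zp]
  · have h' : p = pf C i * z := by rw [h, mul_assoc, C.F.z_sq, mul_one]
    rw [h']
    refine ⟨(i, enc w, 1), mem_Dom.2 ⟨by omega, hw⟩, ?_⟩
    have h1 : zp C (1 : ZMod 2) = z := if_neg one_ne_zero
    simp only [par, el, dec_enc, h1]
    rw [mul_assoc, (comm_z hpf.1).eq]

theorem el_inj {w w' : V} (hw : InU w) (hw' : InU w') {e e' : ZMod 2} {p : G}
    (h : el C w e p = el C w' e' p) : w = w' ∧ e = e' := by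
  rw [el, el, mul_right_cancel_iff] at h
  have hm : ∀ {v : V}, InU v → ∀ c, C.F.mu (pl C v * zp C c) = v := fun hv c => by
    have h0 : C.F.mu (zp C c) = 0 := by
      unfold zp; split_ifs
      exacts [C.F.mu_one, C.F.mu_z]
    rw [C.F.mu_mul _ (pl_spec C hv).1.1 _ (zp_mem_Ut C c).1, (pl_spec C hv).2.1, h0, add_zero]
  have hw2 : w = w' := by rw [← hm hw e, h, hm hw' e']
  subst hw2
  refine ⟨rfl, ?_⟩
  have h2 := mul_left_cancel h
  rcases (by decide : ∀ x : ZMod 2, x = 0 ∨ x = 1) e with rfl | rfl <;>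
    rcases (by decide : ∀ x : ZMod 2, x = 0 ∨ x = 1) e' with rfl | rfl <;>
    simp [zp, C.F.z_ne, C.F.z_ne.symm] at h2 ⊢

theorem par_inj {t t' : ℕ × ℕ × ZMod 2} (ht : t ∈ Dom) (ht' : t' ∈ Dom) (h : par C t = par C t') : t = t' := by
  obtain ⟨i, n, e⟩ := t
  obtain ⟨i', n', e'⟩ := t'
  obtain ⟨hi, hn⟩ := mem_Dom.1 ht
  obtain ⟨hi', hn'⟩ := mem_Dom.1 ht'
  simp only at hi hn hi' hn'
  have h1 := el_code C (inU_dec hn) e (pf_spec C hi).1 (pf_spec C hi).2
  have h2 := el_code C (inU_dec hn') e' (pf_spec C hi').1 (pf_spec C hi').2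
  simp only [par] at h
  rw [h] at h1
  obtain rfl := RLi_inj hi hi' (code_inj (RLi_mem hi) (RLi_mem hi') h1 h2)
  obtain ⟨e1, rfl⟩ := el_inj C (inU_dec hn) (inU_dec hn') h
  have := congrArg enc e1
  rw [enc_dec (enc_lt_U hn), enc_dec (enc_lt_U hn')] at this
  rw [this]

theorem Fx_pm {p p' : G} (hp : Fx C p) (hp' : Fx C p') {l : List ℕ} (he : Coded (C.F.pi p) l)
    (he' : Coded (C.F.pi p') l) : ∃ d : ZMod 2, ∀ w e, el C w e p' = el C w (e + d) p := by
  rcases Fx_unique C hp hp' (fun u => congrFun (he.eq he') u) with h | h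
  · subst h
    exact ⟨0, fun w e => by rw [add_zero]⟩
  · exact ⟨1, fun w e => by rw [← el_z C w e p (comm_z hp.1), h, mul_assoc, C.F.z_sq, mul_one]⟩

theorem one_check : (((List.range oneSt.length).all fun k =>
      let s := oneSt.getD k (0, 0, 0)
      decide (1 ≤ s.1 ∧ s.1 < 16) && (k == 0 || (decide (s.2.1 < k) && decide (s.2.2 < 2) &&
        LFType10.cmp (RLi s.1) (gUi s.2.2) == LFType10.cmp (gUi s.2.2) (RLi (oneSt.getD s.2.1 (0, 0, 0)).1)))) &&
    (oneSt.getD 0 (0, 0, 0)).1 == 1 &&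
    (List.range 16).all fun i => i == 0 || (oneSt.map fun s => s.1).contains i) = true := by decide +kernel

/-- All nonidentity listed maps are conjugate by the monomial generators. -/
theorem one_move {i : ℕ} (hi : 1 ≤ i) (hi' : i < 16) :
    ∃ k ∈ Nt C, Commute k z ∧ Fx C (k * pf C 1 * k⁻¹) ∧ Coded (C.F.pi (k * pf C 1 * k⁻¹)) (RLi i) ∧
      ∀ e, k * el C 0 e (pf C 1) * k⁻¹ = el C 0 e (k * pf C 1 * k⁻¹) := by
  have hc := one_check
  simp only [Bool.and_eq_true, beq_iff_eq] at hc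
  obtain ⟨⟨hst, h00⟩, hkeys⟩ := hc
  obtain ⟨hp1, hp1e⟩ := pf_spec C (i := 1) (by norm_num)
  have key : ∀ k, k < oneSt.length → ∃ g ∈ Nt C, Commute g z ∧ Fx C (g * pf C 1 * g⁻¹) ∧
      Coded (C.F.pi (g * pf C 1 * g⁻¹)) (RLi (oneSt.getD k (0, 0, 0)).1) ∧
      ∀ e, g * el C 0 e (pf C 1) * g⁻¹ = el C 0 e (g * pf C 1 * g⁻¹) := by
    intro k
    induction k using Nat.strong_induction_on with
    | _ k ih =>
      intro hk
      have h := List.all_eq_true.1 hst k (List.mem_range.2 hk)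
      simp only [Bool.and_eq_true, Bool.or_eq_true, beq_iff_eq, decide_eq_true_eq] at h
      obtain ⟨⟨-, hlt16⟩, rfl | ⟨⟨hlt, hm⟩, hconj⟩⟩ := h
      · have e1 : (1 : G) * pf C 1 * 1⁻¹ = pf C 1 := by group
        rw [h00]
        exact ⟨1, one_mem _, Commute.one_left _, by rw [e1]; exact hp1, by rw [e1]; exact hp1e,
          fun e => by rw [e1]; group⟩
      · obtain ⟨g, hgN, hgz, hgF, hge, hgel⟩ := ih _ hlt (lt_trans hlt hk)
        obtain ⟨g', hg', hgx', hge', hgU'⟩ := exists_gen C hm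
        have ec : g' * g * pf C 1 * (g' * g)⁻¹ = g' * (g * pf C 1 * g⁻¹) * g'⁻¹ := by group
        refine ⟨g' * g, mul_mem (Nt_of_inU C hg' hgU') hgN, hg'.mul_left hgz, ?_, ?_, fun e => ?_⟩
        · rw [ec]; exact conj_Fx' C hg' hgx' hgU' hgF
        · rw [ec]; exact conj_code C hg' (comm_z hgF.1) hge' hge (RLi_mem hlt16) hconj
        · rw [ec, show g' * g * el C 0 e (pf C 1) * (g' * g)⁻¹ = g' * (g * el C 0 e (pf C 1) * g⁻¹) * g'⁻¹ by group,
            hgel, conj_el' C hg' hgx' hgU' inU_zero, C.F.pi_zero hg']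
  have h := List.all_eq_true.1 hkeys i (List.mem_range.2 hi')
  simp only [Bool.or_eq_true, beq_iff_eq, List.contains_iff_mem, List.mem_map] at h
  obtain ⟨s, hs, es⟩ := h.resolve_left (by omega)
  obtain ⟨k, hk, rfl⟩ := List.getElem_of_mem hs
  have := key k hk
  rwa [List.getD_eq_getElem _ _ hk, es] at this

end Cfsg.Agent.LFType10
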