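import Cfsg.Agent.LFType10.Classes

/-!
Products of two noncentral lifts: only two signs occur, one for each kind of pairs of maps.
-/
set_option autoImplicit false

namespace Cfsg.Agent.LFType10

open Cfsg.Agent.LFType23

variable {G : Type*} [Group G] [Finite G] {z : G} {Q : Subgroup G} (C : Ctx z Q)

/-- The index of the composite of two listed maps. -/
def mulI (i j : ℕ) : ℕ :=
  ((List.range 16).find? fun k => RLi k == LFType10.cmp (RLi i) (RLi j)).getD 0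

theorem mulI_check : ((List.range 16).all fun i => (List.range 16).all fun j => i == 0 || j == 0 || i == j ||
    (decide (1 ≤ mulI i j ∧ mulI i j < 16) && RLi (mulI i j) == LFType10.cmp (RLi i) (RLi j))) = true := by
  decide +kernel

theorem mulI_spec {i j : ℕ} (hi : 1 ≤ i) (hi' : i < 16) (hj : 1 ≤ j) (hj' : j < 16) (hij : i ≠ j) :
    (1 ≤ mulI i j ∧ mulI i j < 16) ∧ RLi (mulI i j) = LFType10.cmp (RLi i) (RLi j) := by
  have h := List.all_eq_true.1 (List.all_eq_true.1 mulI_check i (List.mem_range.2 hi')) j (List.mem_range.2 hj')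
  simp only [Bool.or_eq_true, Bool.and_eq_true, beq_iff_eq, decide_eq_true_eq] at h
  rcases h with ((e | e) | e) | h
  · omega
  · omega
  · exact absurd e hij
  · exact h

/-- The sign of a pair. -/
def SignIs (i j : ℕ) (d : ZMod 2) : Prop := av C i * av C j = zp C d * av C (mulI i j)

theorem exists_sign {i j : ℕ} (hi : 1 ≤ i) (hi' : i < 16) (hj : 1 ≤ j) (hj' : j < 16) (hij : i ≠ j) :
    ∃ d, SignIs C i j d := by
  obtain ⟨⟨h1, h2⟩, e⟩ := mulI_spec hi hi' hj hj' hij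
  obtain ⟨hF1, hc1, -⟩ := av_spec C hi hi'
  obtain ⟨hF2, hc2, -⟩ := av_spec C hj hj'
  obtain ⟨hF3, hc3, -⟩ := av_spec C h1 h2
  have hc : Coded (C.F.pi (av C i * av C j)) (RLi (mulI i j)) := fun u => by
    rw [e, C.F.pi_mul (comm_z hF1.1) (comm_z hF2.1), hc1, hc2, app_cmp]
  rcases Fx_unique C hF3 (Fx_mul C hF1 hF2) (fun u => congrFun (hc3.eq hc) u) with h | h
  · exact ⟨0, by rw [SignIs, show zp C (0 : ZMod 2) = 1 from if_pos rfl, one_mul, h]⟩
  · refine ⟨1, ?_⟩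
    rw [SignIs, show zp C (1 : ZMod 2) = z from if_neg one_ne_zero, h, ← mul_assoc,
      ← ((comm_z hF1.1).mul_left (comm_z hF2.1)).eq, mul_assoc, C.F.z_sq, mul_one]

/-- A monomial generator moves a sign to the image pair. -/
theorem sign_move {g : G} (hg : Commute g z) (hx : Commute g (xS C)) {j₀ : ℕ} (hge : Coded (C.F.pi g) (gUi j₀))
    (hgU : ∀ u, InU u → InU (C.F.pi g u)) {i j i' j' : ℕ} (hi : 1 ≤ i) (hi2 : i < 16) (hj : 1 ≤ j) (hj2 : j < 16)
    (hi' : 1 ≤ i') (hi'2 : i' < 16) (hj' : 1 ≤ j') (hj'2 : j' < 16) (hij : i ≠ j) (hij' : i' ≠ j')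
    (ei : LFType10.cmp (RLi i') (gUi j₀) = LFType10.cmp (gUi j₀) (RLi i))
    (ej : LFType10.cmp (RLi j') (gUi j₀) = LFType10.cmp (gUi j₀) (RLi j)) {d : ZMod 2} (h : SignIs C i j d) :
    SignIs C i' j' d := by
  have move : ∀ {a b : ℕ}, 1 ≤ a → a < 16 → 1 ≤ b → b < 16 →
      LFType10.cmp (RLi b) (gUi j₀) = LFType10.cmp (gUi j₀) (RLi a) → g * av C a * g⁻¹ = av C b := by
    intro a b ha ha' hb hb' e
    obtain ⟨hF, hc, hT, -⟩ := av_spec C ha ha'
    exact av_unique C hb hb' (conj_Fx' C hg hx hgU hF) (conj_code C hg (comm_z hF.1) hge hc (RLi_mem hb') e)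
      ((isT_conj C _ g).2 hT)
  obtain ⟨⟨k1, k2⟩, -⟩ := mulI_spec hi hi2 hj hj2 hij
  obtain ⟨⟨l1, l2⟩, le⟩ := mulI_spec hi' hi'2 hj' hj'2 hij'
  obtain ⟨hFi, hci, -⟩ := av_spec C hi' hi'2
  obtain ⟨hFj, hcj, -⟩ := av_spec C hj' hj'2
  obtain ⟨hFk, -, hTk, -⟩ := av_spec C k1 k2
  have hd : g * zp C d * g⁻¹ = zp C d := by rw [(zp_comm C d hg).eq, mul_inv_cancel_right]
  have hc := congrArg (fun a => g * a * g⁻¹) h
  simp only [show ∀ a b, g * (a * b) * g⁻¹ = (g * a * g⁻¹) * (g * b * g⁻¹) from fun a b => by group,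
    move hi hi2 hi' hi'2 ei, move hj hj2 hj' hj'2 ej, hd] at hc
  have hdd : zp C d * zp C d = 1 := sq_Ut (zp_mem_Ut C d)
  have hcode : Coded (C.F.pi (g * av C (mulI i j) * g⁻¹)) (RLi (mulI i' j')) := fun u => by
    have e1 : g * av C (mulI i j) * g⁻¹ = zp C d * (av C i' * av C j') := by
      rw [hc, ← mul_assoc, hdd, one_mul]
    rw [e1, C.F.pi_mul (C.F.le_cent _ (zp_mem_Ut C d).1) ((comm_z hFi.1).mul_left (comm_z hFj.1)),
      C.F.pi_eq_self_of_mem (zp_mem_Ut C d).1, C.F.pi_mul (comm_z hFi.1) (comm_z hFj.1), hci, hcj, le, app_cmp]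
  rw [SignIs, hc, av_unique C l1 l2 (conj_Fx' C hg hx hgU hFk) hcode ((isT_conj C _ g).2 hTk)]

/-- A certificate for an orbit of pairs. -/
def pairB (st : List (ℕ × ℕ × ℕ × ℕ)) : Bool :=
  (List.range st.length).all fun k =>
    let s := st.getD k (0, 0, 0, 0)
    decide (1 ≤ s.1 ∧ s.1 < 16 ∧ 1 ≤ s.2.1 ∧ s.2.1 < 16 ∧ s.1 ≠ s.2.1) && (k == 0 ||
      (decide (s.2.2.1 < k) && decide (s.2.2.2 < 2) &&
        LFType10.cmp (RLi s.1) (gUi s.2.2.2) == LFType10.cmp (gUi s.2.2.2) (RLi (st.getD s.2.2.1 (0, 0, 0, 0)).1) &&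
        LFType10.cmp (RLi s.2.1) (gUi s.2.2.2) ==
          LFType10.cmp (gUi s.2.2.2) (RLi (st.getD s.2.2.1 (0, 0, 0, 0)).2.1)))

theorem sign_orbit {st : List (ℕ × ℕ × ℕ × ℕ)} (h : pairB st = true) :
    ∃ d, ∀ k, k < st.length → SignIs C (st.getD k (0, 0, 0, 0)).1 (st.getD k (0, 0, 0, 0)).2.1 d := by
  rcases Nat.eq_zero_or_pos st.length with h0 | h0
  · exact ⟨0, fun k hk => by omega⟩
  have facts : ∀ k, k < st.length → 1 ≤ (st.getD k (0, 0, 0, 0)).1 ∧ (st.getD k (0, 0, 0, 0)).1 < 16 ∧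
      1 ≤ (st.getD k (0, 0, 0, 0)).2.1 ∧ (st.getD k (0, 0, 0, 0)).2.1 < 16 ∧
      (st.getD k (0, 0, 0, 0)).1 ≠ (st.getD k (0, 0, 0, 0)).2.1 := fun k hk => by
    have := List.all_eq_true.1 h k (List.mem_range.2 hk)
    simp only [Bool.and_eq_true, decide_eq_true_eq] at this
    exact this.1
  obtain ⟨a1, a2, a3, a4, a5⟩ := facts 0 h0
  obtain ⟨d, hd⟩ := exists_sign C a1 a2 a3 a4 a5
  refine ⟨d, fun k => ?_⟩
  induction k using Nat.strong_induction_on with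
  | _ k ih =>
    intro hk
    have hc := List.all_eq_true.1 h k (List.mem_range.2 hk)
    simp only [Bool.and_eq_true, Bool.or_eq_true, beq_iff_eq, decide_eq_true_eq] at hc
    obtain ⟨-, rfl | ⟨⟨⟨hlt, hm⟩, ei⟩, ej⟩⟩ := hc
    · exact hd
    · obtain ⟨g, hg, hgx, hge, hgU⟩ := exists_gen C hm
      obtain ⟨b1, b2, b3, b4, b5⟩ := facts k hk
      obtain ⟨c1, c2, c3, c4, c5⟩ := facts _ (lt_trans hlt hk)
      exact sign_move C hg hgx hge hgU c1 c2 c3 c4 b1 b2 b3 b4 c5 b5 ei ej (ih _ hlt (lt_trans hlt hk))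

theorem pairs_orbit_check : (pairB pairSt0 && pairB pairSt1 &&
    (derL.all fun e => decide (1 ≤ e.1 ∧ e.1 < 16) && mulI e.2.1 e.2.2.1 == e.1 &&
      (if e.2.2.2 == 0 then pairSt0 else pairSt1).any fun s => s.1 == e.2.1 && s.2.1 == e.2.2.1)) = true := by
  decide +kernel

/-- The two signs. -/
theorem exists_signs : ∃ s : ZMod 2 × ZMod 2, ∀ e ∈ derL,
    av C e.1 = zp C (if e.2.2.2 == 0 then s.1 else s.2) * (av C e.2.1 * av C e.2.2.1) := by
  have hc := pairs_orbit_check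
  simp only [Bool.and_eq_true] at hc
  obtain ⟨⟨h0, h1⟩, hder⟩ := hc
  obtain ⟨d0, hd0⟩ := sign_orbit C h0
  obtain ⟨d1, hd1⟩ := sign_orbit C h1
  refine ⟨(d0, d1), fun e he => ?_⟩
  have h := List.all_eq_true.1 hder e he
  simp only [Bool.and_eq_true, beq_iff_eq, decide_eq_true_eq, List.any_eq_true] at h
  obtain ⟨⟨-, hmul⟩, s, hs, e1, e2⟩ := h
  obtain ⟨k, hk, rfl⟩ := List.getElem_of_mem hs
  have key : ∀ {st : List (ℕ × ℕ × ℕ × ℕ)} {d : ZMod 2},
      (∀ k, k < st.length → SignIs C (st.getD k (0, 0, 0, 0)).1 (st.getD k (0, 0, 0, 0)).2.1 d) →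
      ∀ (k : ℕ) (hk : k < st.length), st[k].1 = e.2.1 → st[k].2.1 = e.2.2.1 →
        av C e.1 = zp C d * (av C e.2.1 * av C e.2.2.1) := by
    intro st d h k hk a1 a2
    have := h k hk
    rw [List.getD_eq_getElem _ _ hk, a1, a2, SignIs, hmul] at this
    rw [this, ← mul_assoc, sq_Ut (zp_mem_Ut C d), one_mul]
  by_cases hz : e.2.2.2 = 0
  · simp only [hz, beq_self_eq_true, if_true] at hk e1 e2 ⊢
    exact key hd0 k hk e1 e2
  · have hb : (e.2.2.2 == 0) = false := beq_eq_false_iff_ne.2 hz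
    simp only [hb, hz, Bool.false_eq_true, if_false] at hk e1 e2 ⊢
    exact key hd1 k hk e1 e2

end Cfsg.Agent.LFType10
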