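import Cfsg.Agent.LFType10.ThompsonC

/-!
The Sylow 2-subgroups of the centraliser and of the whole group, and the Thompson subgroup.
-/
set_option autoImplicit false

namespace Cfsg.Agent.LFType10

open Cfsg.Agent.LFType23

variable {G : Type*} [Group G] [Finite G] {z : G} {Q : Subgroup G} (C : Ctx z Q)

theorem factor_two : (2 ^ 13 * 19595520 : ℕ).factorization 2 = 21 := by
  have h : (2 ^ 13 * 19595520 : ℕ) = 2 ^ 21 * 76545 := by norm_num
  rw [h, Nat.factorization_mul (by norm_num) (by norm_num), Finsupp.coe_add, Pi.add_apply,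
    Nat.Prime.factorization_pow Nat.prime_two, Finsupp.single_eq_same,
    Nat.factorization_eq_zero_of_not_dvd (by norm_num)]

include C in
theorem card_cent : Nat.card (Subgroup.centralizer ({z} : Set G)) = 2 ^ 13 * 19595520 := C.F.card_cent

theorem Syl_le : Syl C ≤ Subgroup.centralizer ({z} : Set G) := fun _ h =>
  Subgroup.mem_centralizer_singleton_iff.2 h.1

/-- A Sylow 2-subgroup of the centraliser of the involution is conjugate there to the coded one. -/
theorem sylow_conj (T : Sylow 2 (Subgroup.centralizer ({z} : Set G))) :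
    ∃ c, Commute c z ∧ (T : Subgroup (Subgroup.centralizer ({z} : Set G))).map
      (Subgroup.centralizer ({z} : Set G)).subtype = (Syl C).map (MulAut.conj c).toMonoidHom := by
  haveI : Fact (Nat.Prime 2) := ⟨Nat.prime_two⟩
  let S0 : Sylow 2 (Subgroup.centralizer ({z} : Set G)) :=
    Sylow.ofCard ((Syl C).subgroupOf (Subgroup.centralizer ({z} : Set G))) (by
    rw [Nat.card_congr (Subgroup.subgroupOfEquivOfLe (Syl_le C)).toEquiv, card_Syl C, card_cent C, factor_two])
  obtain ⟨c, hc⟩ := MulAction.exists_smul_eq (Subgroup.centralizer ({z} : Set G)) S0 T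
  refine ⟨c, Subgroup.mem_centralizer_singleton_iff.1 c.2, ?_⟩
  subst hc
  rw [Sylow.coe_subgroup_smul]
  ext x
  constructor
  · rintro ⟨y, hy, rfl⟩
    obtain ⟨w, hw, rfl⟩ := Subgroup.mem_smul_pointwise_iff_exists _ _ _ |>.1 hy
    exact ⟨w, Subgroup.mem_subgroupOf.1 hw, rfl⟩
  · rintro ⟨w, hw, rfl⟩
    exact ⟨_, Subgroup.smul_mem_pointwise_smul (⟨w, Syl_le C hw⟩ : Subgroup.centralizer ({z} : Set G)) (MulAut.conj c) _
      (Subgroup.mem_subgroupOf.2 hw), rfl⟩

theorem Ct_comm : ∀ a ∈ Ct C.F, ∀ b ∈ Ct C.F, a * b = b * a := by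
  intro a ha b hb
  have ia : a⁻¹ = a := inv_eq_of_mul_eq_one_right (elementary_Ct C a ha)
  have ib : b⁻¹ = b := inv_eq_of_mul_eq_one_right (elementary_Ct C b hb)
  have iab : (a * b)⁻¹ = a * b := inv_eq_of_mul_eq_one_right (elementary_Ct C _ (mul_mem ha hb))
  rw [← iab, mul_inv_rev, ia, ib]

/-- The unique large elementary abelian subgroup of a conjugate of the coded Sylow subgroup. -/
theorem unique_conj {c : G} {B : Subgroup G} (hB : B ≤ (Syl C).map (MulAut.conj c).toMonoidHom)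
    (hcomm : ∀ a ∈ B, ∀ b ∈ B, a * b = b * a) (hsq : ∀ a ∈ B, a * a = 1) (hcard : 2 ^ 11 ≤ Nat.card B) :
    B = (Ct C.F).map (MulAut.conj c).toMonoidHom := by
  have h := eq_Ct C (B := B.map (MulAut.conj c⁻¹).toMonoidHom) ?_ ?_ ?_ ?_
  · rw [← h, Subgroup.map_map]
    refine (Subgroup.map_id B).symm.trans ?_
    congr 1
    ext x
    simp [mul_assoc]
  · rintro _ ⟨b, hb, rfl⟩
    obtain ⟨w, hw, rfl⟩ := hB hb
    simpa [mul_assoc] using hw
  · rintro _ ⟨a, ha, rfl⟩ _ ⟨b, hb, rfl⟩
    rw [← map_mul, ← map_mul, hcomm a ha b hb]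
  · rintro _ ⟨a, ha, rfl⟩
    rw [← map_mul, hsq a ha, map_one]
  · rw [Subgroup.card_map_of_injective (MulAut.conj c⁻¹).injective]
    exact hcard

theorem card_inter : Nat.card (Ct C.F ⊓ Q : Subgroup G) = 2 ^ 7 := by rw [inter_Q, card_Ut C]

include C in
theorem conj_Q {c : G} (hc : Commute c z) : Q.map (MulAut.conj c).toMonoidHom = Q := by
  refine le_antisymm ?_ fun a ha => ⟨c⁻¹ * a * c, by simpa using C.F.normal c⁻¹ hc.inv_left a ha,
    by simp [mul_assoc]⟩
  rintro _ ⟨a, ha, rfl⟩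
  exact C.F.normal c hc a ha

end Cfsg.Agent.LFType10
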