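import Cfsg.Agent.LFType10.Setup

/-!
The preimage of the totally singular subspace and its centraliser, an elementary abelian group of
order 2^11.
-/
set_option autoImplicit false

namespace Cfsg.Agent.LFType10

open Cfsg.Agent.LFType23

/-- A basis of the subspace. -/
def bU6 : List ℕ := [85, 170, 301, 566, 1063, 2105]

/-- Conjugates of listed maps inside the sixteen. -/
def conjStep (gs cur : List (List ℕ)) : List (List ℕ) :=
  RL.filter fun m => cur.contains m || gs.any fun g => cur.any fun l => LFType10.cmp m g == LFType10.cmp g l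

/-- The monomial generators of the stabiliser. -/
def gU : List (List ℕ) := monoU.map monoL

/-- Iterated conjugates. -/
def orbC : ℕ → List (List ℕ)
  | 0 => [RL.getD 1 []]
  | k + 1 => conjStep gU (orbC k)

theorem u_check : (Ulist.contains 0 && (Ulist.all fun a => Ulist.all fun b => Ulist.contains (a ^^^ b)) &&
    Ulist.Nodup && Ulist.length == 64 && (bU6.all Ulist.contains) &&
    (Ulist.all fun a => decide (qf (dec a) = 0) && (List.range 64).any fun m => app bU6 m == a) &&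
    (bU6.all fun a => bU6.all (bfN a)) &&
    ((List.range 4096).all fun n => !(bU6.all (bfN n)) || Ulist.contains n) &&
    ((List.range 64).all fun k => (List.range 4096).any fun n => (List.range 6).all fun i =>
      bfN n (bU6.getD i 0) == !(k.testBit i)) &&
    (RL.all fun l => (Ulist.all fun a => app l a == a) && LFType10.cmp l omL == LFType10.cmp omL l) &&
    RL.length == 16 && RL.getD 0 [] == idL && RL.Nodup &&
    (gU.all fun g => Ulist.all fun a => Ulist.contains (app g a)) &&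
    (RL.all fun l => l == idL || (orbC 6).contains l) &&
    !(LFType10.cmp (RL.getD 2 []) (RL.getD 3 []) == idL) &&
    !(LFType10.cmp (RL.getD 2 []) (RL.getD 3 []) == RL.getD 1 []) &&
    !(RL.getD 1 [] == RL.getD 2 []) && !(RL.getD 1 [] == RL.getD 3 []) &&
    !(RL.getD 1 [] == idL) && !(RL.getD 2 [] == idL) && !(RL.getD 3 [] == idL)) = true := by
  decide +kernel

/-- Membership of the subspace. -/
def InU (u : V) : Prop := enc u ∈ Ulist

theorem inU_zero : InU 0 := by
  have hc := u_check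
  simp only [Bool.and_eq_true] at hc
  show enc 0 ∈ Ulist
  rw [enc_zero]
  exact List.contains_iff_mem.1 hc.1.1.1.1.1.1.1.1.1.1.1.1.1.1.1.1.1.1.1.1.1

theorem inU_add {u w : V} (hu : InU u) (hw : InU w) : InU (u + w) := by
  have hc := u_check
  simp only [Bool.and_eq_true] at hc
  show enc (u + w) ∈ Ulist
  rw [enc_add]
  exact List.contains_iff_mem.1
    (List.all_eq_true.1 (List.all_eq_true.1 hc.1.1.1.1.1.1.1.1.1.1.1.1.1.1.1.1.1.1.1.1.2 _ hu) _ hw)

variable {G : Type*} [Group G] [Finite G] {z : G} {Q : Subgroup G}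

/-- The preimage of the subspace. -/
def Ut (F : Frame z Q) : Subgroup G where
  carrier := {a | a ∈ Q ∧ InU (F.mu a)}
  mul_mem' {a b} ha hb := ⟨mul_mem ha.1 hb.1, by rw [F.mu_mul a ha.1 b hb.1]; exact inU_add ha.2 hb.2⟩
  one_mem' := ⟨one_mem _, by rw [F.mu_one]; exact inU_zero⟩
  inv_mem' {a} ha := ⟨inv_mem ha.1, by rw [F.mu_inv ha.1]; exact ha.2⟩

omit [Finite G] in
theorem mem_Ut {F : Frame z Q} {a : G} : a ∈ Ut F ↔ a ∈ Q ∧ InU (F.mu a) := Iff.rfl

omit [Finite G] in
theorem z_mem_Ut (F : Frame z Q) : z ∈ Ut F := ⟨F.z_mem, by rw [F.mu_z]; exact inU_zero⟩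

/-- The elementary abelian subgroup. -/
def Ct (F : Frame z Q) : Subgroup G := Subgroup.centralizer (Ut F : Set G)

omit [Finite G] in
theorem mem_Ct {F : Frame z Q} {a : G} : a ∈ Ct F ↔ ∀ u ∈ Ut F, Commute a u := by
  rw [Ct, Subgroup.mem_centralizer_iff]
  exact forall₂_congr fun u _ => eq_comm

omit [Finite G] in
theorem comm_z {F : Frame z Q} {a : G} (ha : a ∈ Ct F) : Commute a z := mem_Ct.1 ha z (z_mem_Ut F)

omit [Finite G] in
theorem inU_fix {F : Frame z Q} {a : G} (ha : a ∈ Ct F) {u : V} (hu : InU u) : F.pi a u = u := by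
  obtain ⟨x, hx, rfl⟩ := F.mu_surj u
  rw [← F.pi_mu a (comm_z ha) x hx, (mem_Ct.1 ha x ⟨hx, hu⟩).eq, mul_inv_cancel_right]

omit [Finite G] in
theorem bf_inU {u w : V} (hu : InU u) (hw : InU w) : bf u w = 0 := by
  have hc := u_check
  simp only [Bool.and_eq_true, beq_iff_eq] at hc
  obtain ⟨⟨⟨⟨⟨⟨⟨⟨⟨⟨⟨⟨⟨⟨⟨⟨hall, hbf⟩, -⟩, -⟩, -⟩, -⟩, -⟩, -⟩, -⟩, -⟩, -⟩, -⟩, -⟩, -⟩, -⟩, -⟩, -⟩ := hc
  have key : ∀ (l : List ℕ) (x : V), (∀ b ∈ l, bf (dec b) x = 0) → ∀ m, bf (dec (app l m)) x = 0 := by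
    intro l x
    induction l with
    | nil => intro _ m; rw [app, dec_zero, bf_zero_left]
    | cons a l ih =>
      intro h m
      simp only [app]
      rw [dec_xor, bf_add_left, ih (fun b hb => h b (List.mem_cons_of_mem _ hb)), add_zero]
      split_ifs
      · exact h a (List.mem_cons_self ..)
      · rw [dec_zero, bf_zero_left]
  have span : ∀ v : V, InU v → ∃ m, v = dec (app bU6 m) := by
    intro v hv
    have h2 := List.all_eq_true.1 hall.2 _ hv
    simp only [Bool.and_eq_true, List.any_eq_true, beq_iff_eq] at h2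
    obtain ⟨m, -, hm⟩ := h2.2
    exact ⟨m, by rw [hm, dec_enc]⟩
  obtain ⟨m, rfl⟩ := span u hu
  obtain ⟨m', rfl⟩ := span w hw
  refine key _ _ (fun b hb => ?_) m
  rw [bf_comm]
  refine key _ _ (fun b' hb' => ?_) m'
  exact of_decide_eq_true (List.all_eq_true.1 (List.all_eq_true.1 hbf b' hb') b hb)

omit [Finite G] in
theorem Ut_le_Ct (F : Frame z Q) : Ut F ≤ Ct F := fun a ha => mem_Ct.2 fun u hu =>
  (F.commute_iff ha.1 hu.1).2 (bf_inU ha.2 hu.2)

omit [Finite G] in
theorem sq_Ut {F : Frame z Q} {a : G} (ha : a ∈ Ut F) : a * a = 1 := by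
  have hc := u_check
  simp only [Bool.and_eq_true] at hc
  refine (F.sq_eq_one_iff ha.1).2 ?_
  have h := List.all_eq_true.1 hc.1.1.1.1.1.1.1.1.1.1.1.1.1.1.1.1.2 _ ha.2
  simp only [Bool.and_eq_true, decide_eq_true_eq, dec_enc] at h
  exact h.1

omit [Finite G] in
theorem inter_Q (F : Frame z Q) : Ct F ⊓ Q = Ut F := by
  refine le_antisymm (fun a ha => ⟨(Subgroup.mem_inf.1 ha).2, ?_⟩) (le_inf (Ut_le_Ct F) fun a ha => ha.1)
  obtain ⟨h1, h2⟩ := Subgroup.mem_inf.1 ha
  have hc := u_check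
  simp only [Bool.and_eq_true, beq_iff_eq] at hc
  have h := List.all_eq_true.1 hc.1.1.1.1.1.1.1.1.1.1.1.1.1.1.2 (enc (F.mu a)) (List.mem_range.2 (enc_lt_check _))
  simp only [Bool.or_eq_true, Bool.not_eq_true', List.contains_iff_mem] at h
  rcases h with h | h
  · exfalso
    rw [List.all_eq_false] at h
    obtain ⟨b, hb, hb'⟩ := h
    obtain ⟨x, hx, hxe⟩ := F.mu_surj (dec b)
    have hbU : b ∈ Ulist := List.contains_iff_mem.1 (List.all_eq_true.1 hc.1.1.1.1.1.1.1.1.1.1.1.1.1.1.1.1.1.2 b hb)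
    have hb4 : b < 4096 := (by decide : ∀ b ∈ bU6, b < 4096) b hb
    have hxU : x ∈ Ut F := ⟨hx, by show enc (F.mu x) ∈ Ulist; rw [hxe, enc_dec hb4]; exact hbU⟩
    refine hb' (decide_eq_true ?_)
    rw [dec_enc, ← hxe]
    exact (F.commute_iff h2 hx).1 (mem_Ct.1 h1 x hxU)
  · exact h

theorem code_Ct (C : Ctx z Q) {a : G} (ha : a ∈ Ct C.F) : ∃ l ∈ RL, Coded (C.F.pi a) l :=
  C.fix_mem (comm_z ha) fun b hb => inU_fix ha (by
    have h4 : b < 4096 := of_decide_eq_true (List.all_eq_true.1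
      (by have hc := w0_check; simp only [Bool.and_eq_true] at hc; exact hc.2) b hb)
    show enc (dec b) ∈ Ulist
    rw [enc_dec h4]; exact hb)

theorem exists_lift (C : Ctx z Q) {l : List ℕ} (hl : l ∈ RL) : ∃ a ∈ Ct C.F, Coded (C.F.pi a) l := by
  classical
  obtain ⟨h, hh, hhe⟩ := realL_RL C.hcl l hl
  have hc := u_check
  simp only [Bool.and_eq_true, beq_iff_eq] at hc
  obtain ⟨⟨⟨⟨⟨⟨⟨⟨⟨⟨⟨⟨⟨⟨⟨⟨⟨⟨⟨⟨⟨-, -⟩, -⟩, -⟩, hb6⟩, hsp⟩, -⟩, -⟩, hpat⟩, hfix⟩, -⟩, -⟩, -⟩, -⟩, -⟩, -⟩, -⟩, -⟩, -⟩, -⟩, -⟩, -⟩ := hc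
  have hfix' := List.all_eq_true.1 hfix l hl
  simp only [Bool.and_eq_true] at hfix'
  have hb4 : ∀ b ∈ bU6, b < 4096 := by decide
  choose x hx hxe using fun b : ℕ => C.F.mu_surj (dec b)
  have hxU : ∀ b ∈ bU6, x b ∈ Ut C.F := fun b hb => ⟨hx b, by
    show enc (C.F.mu (x b)) ∈ Ulist
    rw [hxe, enc_dec (hb4 b hb)]
    exact List.contains_iff_mem.1 (List.all_eq_true.1 hb6 b hb)⟩
  -- the twisting character on the basis
  let k : ℕ := (List.range 6).foldr (fun i acc => acc ||| (if Commute h (x (bU6.getD i 0)) then 0 else 2 ^ i)) 0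
  have hk : k < 64 ∧ ∀ i < 6, k.testBit i = !decide (Commute h (x (bU6.getD i 0))) := by
    have gen : ∀ p : ℕ → Prop, ∀ _ : DecidablePred p,
        let k := (List.range 6).foldr (fun i acc => acc ||| (if p i then 0 else 2 ^ i)) 0
        k < 64 ∧ ∀ i < 6, k.testBit i = !decide (p i) := by
      intro p _
      obtain ⟨f, hf⟩ : ∃ f : Fin 6 → Bool, ∀ i : Fin 6, f i = decide (p i) := ⟨_, fun _ => rfl⟩
      have main : ∀ f : Fin 6 → Bool,
          let k := [0, 1, 2, 3, 4, 5].foldr (fun i acc => acc ||| (if f i then 0 else 2 ^ (i : Fin 6).1)) 0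
          k < 64 ∧ ∀ i : Fin 6, k.testBit i.1 = !f i := by decide +kernel
      obtain ⟨h1, h2⟩ := main f
      simp only [List.range_succ, List.range_zero, List.nil_append, List.cons_append, List.foldr_cons,
        List.foldr_nil, hf, decide_eq_true_eq] at h1 h2 ⊢
      exact ⟨h1, fun i hi => h2 ⟨i, hi⟩⟩
    exact gen (fun i => Commute h (x (bU6.getD i 0))) inferInstance
  have hp := List.all_eq_true.1 hpat k (List.mem_range.2 hk.1)
  simp only [List.any_eq_true, List.all_eq_true] at hp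
  obtain ⟨n, -, hn⟩ := hp
  obtain ⟨q, hq, hqe⟩ := C.F.mu_surj (dec n)
  have hqh : Commute (q * h) z := (C.F.le_cent q hq).mul_left hh
  have hpi : ∀ u, C.F.pi (q * h) u = C.F.pi h u := fun u => by
    rw [C.F.pi_mul (C.F.le_cent q hq) hh, C.F.pi_eq_self_of_mem hq]
  refine ⟨q * h, ?_, fun u => by rw [hpi]; exact hhe u⟩
  have hbasis : ∀ b ∈ bU6, Commute (q * h) (x b) := by
    intro b hb
    obtain ⟨i, hi6, rfl⟩ := (by decide : ∀ b ∈ bU6, ∃ i < 6, bU6.getD i 0 = b) b hb
    set b := bU6.getD i 0 with hbdef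
    have e1 : C.F.mu (h * x b * h⁻¹) = C.F.mu (x b) := by
      rw [C.F.pi_mu h hh _ (hx _), hxe, hhe.apply, enc_dec (hb4 _ hb),
        beq_iff_eq.1 (List.all_eq_true.1 hfix'.1 _ (List.contains_iff_mem.1 (List.all_eq_true.1 hb6 _ hb)))]
    have e2 := hn i (List.mem_range.2 hi6)
    rw [beq_iff_eq, hk.2 i hi6, Bool.not_not, bfN, decide_eq_decide, ← hbdef] at e2
    have e3 := C.F.comm q hq (x b) (hx _)
    rw [hqe, hxe] at e3
    have goal : q * (h * x b * h⁻¹) * q⁻¹ = x b := by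
      rcases (C.F.mu_eq_iff (C.F.normal h hh _ (hx _)) (hx _)).1 e1 with e | e
      · rw [e, e3, if_pos (e2.2 (mul_inv_eq_iff_eq_mul.1 e))]
      · have hnc : ¬ Commute h (x b) := fun hc' => C.F.z_ne (by
          rw [hc'.eq, mul_inv_cancel_right] at e
          exact left_eq_mul.1 e)
        rw [e, show q * (x b * z) * q⁻¹ = (q * x b * q⁻¹) * (q * z * q⁻¹) by group,
          (C.F.le_cent q hq).eq, mul_inv_cancel_right, e3, if_neg (fun e' => hnc (e2.1 e')),
          mul_assoc, C.F.z_sq, mul_one]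
    show q * h * x b = x b * (q * h)
    calc q * h * x b = q * (h * x b * h⁻¹) * q⁻¹ * (q * h) := by group
      _ = x b * (q * h) := by rw [goal]
  refine mem_Ct.2 fun u hu => ?_
  have span : ∀ l : List ℕ, (∀ b ∈ l, b ∈ bU6) → ∀ m, ∀ y ∈ Q, enc (C.F.mu y) = app l m → Commute (q * h) y := by
    intro l
    induction l with
    | nil =>
      intro _ m y hy e
      have : C.F.mu y = 0 := enc_injective (by rw [e, enc_zero]; rfl)
      rcases (C.F.mu_eq_zero y hy).1 this with rfl | rfl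
      · exact Commute.one_right _
      · exact hqh
    | cons a l ih =>
      intro hl' m y hy e
      simp only [app] at e
      split_ifs at e with hm
      · have h4 := hb4 a (hl' a (List.mem_cons_self ..))
        have e' : enc (C.F.mu ((x a)⁻¹ * y)) = app l (m / 2) := by
          rw [C.F.mu_mul _ (inv_mem (hx a)) _ hy, C.F.mu_inv (hx a), hxe, enc_add, enc_dec h4, e,
            ← Nat.xor_assoc, Nat.xor_self, Nat.zero_xor]
        have := (hbasis a (hl' a (List.mem_cons_self ..))).mul_right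
          (ih (fun b hb => hl' b (List.mem_cons_of_mem _ hb)) _ _ (mul_mem (inv_mem (hx a)) hy) e')
        rwa [mul_inv_cancel_left] at this
      · rw [Nat.zero_xor] at e
        exact ih (fun b hb => hl' b (List.mem_cons_of_mem _ hb)) _ y hy e
  have h2 := List.all_eq_true.1 hsp _ hu.2
  simp only [Bool.and_eq_true, List.any_eq_true, beq_iff_eq] at h2
  obtain ⟨m, -, hm⟩ := h2.2
  exact span _ (fun b hb => hb) m u hu.1 hm.symm

end Cfsg.Agent.LFType10
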