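import Cfsg.Agent.LFType10.ThompsonA

/-!
The centraliser of the preimage of the subspace is elementary abelian of order 2^11.
-/
set_option autoImplicit false

namespace Cfsg.Agent.LFType10

open Cfsg.Agent.LFType23

variable {G : Type*} [Group G] [Finite G] {z : G} {Q : Subgroup G} (C : Ctx z Q)

theorem card_Ut : Nat.card (Ut C.F) = 2 ^ 7 := by
  classical
  have hc := u_check
  simp only [Bool.and_eq_true, beq_iff_eq, decide_eq_true_eq] at hc
  obtain ⟨⟨⟨⟨⟨⟨⟨⟨⟨⟨⟨⟨⟨⟨⟨⟨⟨⟨⟨⟨⟨-, -⟩, hnd⟩, hlen⟩, -⟩, hsp⟩, -⟩, -⟩, -⟩, -⟩, -⟩, -⟩, -⟩, -⟩, -⟩, -⟩, -⟩, -⟩, -⟩, -⟩, -⟩, -⟩ := hc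
  have h4 : ∀ b ∈ Ulist, b < 4096 := fun b hb => of_decide_eq_true (List.all_eq_true.1
    (by have hc := w0_check; simp only [Bool.and_eq_true] at hc; exact hc.2) b hb)
  choose x hx hxe using fun b : ℕ => C.F.mu_surj (dec b)
  let φ : {b // b ∈ Ulist.toFinset} × Bool → Ut C.F := fun p =>
    ⟨x p.1.1 * (if p.2 then z else 1), by
      have hb : x p.1.1 ∈ Ut C.F := ⟨hx _, by
        show enc _ ∈ Ulist
        rw [hxe, enc_dec (h4 _ (List.mem_toFinset.1 p.1.2))]
        exact List.mem_toFinset.1 p.1.2⟩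
      refine mul_mem hb ?_
      split_ifs
      exacts [z_mem_Ut C.F, one_mem _]⟩
  have hmu : ∀ p, C.F.mu (φ p : G) = dec p.1.1 := by
    rintro ⟨b, c⟩
    cases c <;> simp [φ, hxe, C.F.mu_mul_z (hx _)]
  have hbij : Function.Bijective φ := by
    constructor
    · intro p p' e
      have e1 : p.1.1 = p'.1.1 := by
        have := congrArg (fun a : Ut C.F => enc (C.F.mu a)) e
        simpa [hmu, enc_dec (h4 _ (List.mem_toFinset.1 p.1.2)),
          enc_dec (h4 _ (List.mem_toFinset.1 p'.1.2))] using this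
      obtain ⟨⟨b, hb⟩, c⟩ := p
      obtain ⟨⟨b', hb'⟩, c'⟩ := p'
      subst e1
      have e2 := congrArg Subtype.val e
      cases c <;> cases c' <;> simp [φ, C.F.z_ne] at e2 ⊢
    · rintro ⟨a, ha, haU⟩
      let b : {b // b ∈ Ulist.toFinset} := ⟨enc (C.F.mu a), List.mem_toFinset.2 haU⟩
      have : C.F.mu a = C.F.mu (x b.1) := by rw [hxe, dec_enc]
      rcases (C.F.mu_eq_iff ha (hx _)).1 this with e | e
      · exact ⟨(b, false), Subtype.ext (by simp [φ, ← e])⟩
      · exact ⟨(b, true), Subtype.ext (by simp [φ, ← e])⟩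
  rw [← Nat.card_congr (Equiv.ofBijective φ hbij), Nat.card_prod, Nat.card_eq_finsetCard,
    List.toFinset_card_of_nodup hnd, hlen, Nat.card_eq_fintype_card, Fintype.card_bool]
  norm_num

theorem rl_inj {l m : List ℕ} (hl : l ∈ RL) (hm : m ∈ RL) (h : ∀ n, app l n = app m n) : l = m := by
  have key : ∀ l ∈ RL, (List.range 12).map (fun k => app l (2 ^ k)) = l := by decide +kernel
  rw [← key l hl, ← key m hm]
  exact List.map_congr_left fun k _ => h _

theorem coded_unique {f : V → V} {l m : List ℕ} (hl : Coded f l) (hm : Coded f m) {n : ℕ} (hn : n < 4096) :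
    app l n = app m n := by rw [← enc_dec hn, ← hl, ← hm]

theorem code_inj {f : V → V} {l m : List ℕ} (hl : l ∈ RL) (hm : m ∈ RL) (el : Coded f l) (em : Coded f m) :
    l = m := by
  have key : ∀ l ∈ RL, (List.range 12).map (fun k => app l (2 ^ k)) = l := by decide +kernel
  rw [← key l hl, ← key m hm]
  exact List.map_congr_left fun k hk => coded_unique el em (Nat.pow_lt_pow_right (by norm_num) (List.mem_range.1 hk))

theorem card_Ct : Nat.card (Ct C.F) = 2 ^ 11 := by
  classical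
  have hcU := card_Ut C
  have hlen : RL.length = 16 := by decide +kernel
  have hnd : RL.Nodup := by decide +kernel
  choose a ha hae using fun l : {l // l ∈ RL.toFinset} => exists_lift C (List.mem_toFinset.1 l.2)
  let φ : {l // l ∈ RL.toFinset} × Ut C.F → Ct C.F := fun p =>
    ⟨a p.1 * p.2, mul_mem (ha p.1) (Ut_le_Ct C.F p.2.2)⟩
  have hpi : ∀ p, Coded (C.F.pi (φ p : G)) p.1.1 := fun p u => by
    show enc (C.F.pi (a p.1 * p.2) u) = _
    rw [C.F.pi_mul (comm_z (ha _)) (C.F.le_cent _ p.2.2.1), C.F.pi_eq_self_of_mem p.2.2.1]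
    exact hae p.1 u
  have hbij : Function.Bijective φ := by
    constructor
    · intro p p' e
      have e1 : p.1 = p'.1 := Subtype.ext (code_inj (List.mem_toFinset.1 p.1.2) (List.mem_toFinset.1 p'.1.2)
        (hpi p) (by rw [e]; exact hpi p'))
      refine Prod.ext e1 (Subtype.ext ?_)
      have := congrArg Subtype.val e
      simp only [φ, e1] at this
      exact mul_left_cancel this
    · intro x
      obtain ⟨l, hl, hlx⟩ := code_Ct C x.2
      let L : {l // l ∈ RL.toFinset} := ⟨l, List.mem_toFinset.2 hl⟩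
      have hu : (a L)⁻¹ * x ∈ Ut C.F := by
        rw [← inter_Q C.F, Subgroup.mem_inf]
        refine ⟨mul_mem (inv_mem (ha L)) x.2, C.F.faithful _ ((comm_z (ha L)).inv_left.mul_left (comm_z x.2)) fun u => ?_⟩
        rw [C.F.pi_mul (comm_z (ha L)).inv_left (comm_z x.2),
          show C.F.pi x u = C.F.pi (a L) u from congrFun (hlx.eq (hae L)) u, C.F.pi_inv_apply (comm_z (ha L))]
      exact ⟨(L, ⟨_, hu⟩), Subtype.ext (mul_inv_cancel_left _ _)⟩
  rw [← Nat.card_congr (Equiv.ofBijective φ hbij), Nat.card_prod, Nat.card_eq_finsetCard,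
    List.toFinset_card_of_nodup hnd, hlen, hcU]
  norm_num

theorem exists_scalar (F : Frame z Q) : ∃ x, Commute x z ∧ ∀ u, F.pi x u = om u := by
  obtain ⟨x, hx, e⟩ := F.diag_mem (fun _ => 1) (by decide)
  exact ⟨x, hx, fun u => (e u).trans (diag_one u)⟩

theorem conj_Ut {h : G} (hh : Commute h z) (hU : ∀ u, InU u → InU (C.F.pi h u)) {a : G} (ha : a ∈ Ut C.F) :
    h * a * h⁻¹ ∈ Ut C.F :=
  ⟨C.F.normal h hh a ha.1, by rw [C.F.pi_mu h hh a ha.1]; exact hU _ ha.2⟩

theorem inU_back {h : G} (hh : Commute h z) (hU : ∀ u, InU u → InU (C.F.pi h u)) {u : V}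
    (hu : InU (C.F.pi h u)) : InU u := by
  classical
  let S : Finset V := Finset.univ.filter fun u => InU u
  have himg : S.image (C.F.pi h) = S := Finset.eq_of_subset_of_card_le (fun x hx => by
    obtain ⟨y, hy, rfl⟩ := Finset.mem_image.1 hx
    exact Finset.mem_filter.2 ⟨Finset.mem_univ _, hU _ (Finset.mem_filter.1 hy).2⟩)
    (by rw [Finset.card_image_of_injective _ (C.F.pi_injective hh)])
  obtain ⟨y, hy, e⟩ := Finset.mem_image.1 (show C.F.pi h u ∈ S.image (C.F.pi h) by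
    rw [himg]; exact Finset.mem_filter.2 ⟨Finset.mem_univ _, hu⟩)
  rw [← C.F.pi_injective hh e]
  exact (Finset.mem_filter.1 hy).2

theorem conj_Ct {h : G} (hh : Commute h z) (hU : ∀ u, InU u → InU (C.F.pi h u)) {a : G} (ha : a ∈ Ct C.F) :
    h * a * h⁻¹ ∈ Ct C.F := by
  refine mem_Ct.2 fun u hu => ?_
  have h' : h⁻¹ * u * h ∈ Ut C.F := by
    refine ⟨by simpa using C.F.normal h⁻¹ hh.inv_left u hu.1, inU_back C hh hU ?_⟩
    have := C.F.pi_mu h hh (h⁻¹ * u * h) (by simpa using C.F.normal h⁻¹ hh.inv_left u hu.1)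
    rw [show h * (h⁻¹ * u * h) * h⁻¹ = u by group] at this
    rw [← this]; exact hu.2
  have e := (mem_Ct.1 ha _ h').eq
  show h * a * h⁻¹ * u = u * (h * a * h⁻¹)
  calc h * a * h⁻¹ * u = h * (a * (h⁻¹ * u * h)) * h⁻¹ := by group
    _ = h * ((h⁻¹ * u * h) * a) * h⁻¹ := by rw [e]
    _ = _ := by group

theorem Ct_central {a u : G} (ha : a ∈ Ct C.F) (hu : u ∈ Ut C.F) : Commute a u := mem_Ct.1 ha u hu

/-- Squares depend only on the coded image. -/
theorem sq_eq {a b : G} (ha : a ∈ Ct C.F) (hb : b ∈ Ct C.F) (h : ∀ u, C.F.pi a u = C.F.pi b u) :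
    a * a = b * b := by
  have hu : a⁻¹ * b ∈ Ut C.F := by
    rw [← inter_Q C.F, Subgroup.mem_inf]
    refine ⟨mul_mem (inv_mem ha) hb, C.F.faithful _ ((comm_z ha).inv_left.mul_left (comm_z hb)) fun u => ?_⟩
    rw [C.F.pi_mul (comm_z ha).inv_left (comm_z hb), ← h, C.F.pi_inv_apply (comm_z ha)]
  calc a * a = a * a * ((a⁻¹ * b) * (a⁻¹ * b)) := by rw [sq_Ut hu, mul_one]
    _ = a * (a * (a⁻¹ * b)) * (a⁻¹ * b) := by group
    _ = a * ((a⁻¹ * b) * a) * (a⁻¹ * b) := by rw [(Ct_central C ha hu).eq]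
    _ = b * b := by group

theorem sq_cases {a : G} (ha : a ∈ Ct C.F) : a * a = 1 ∨ a * a = z := by
  have haa : a * a ∈ Ut C.F := by
    rw [← inter_Q C.F, Subgroup.mem_inf]
    refine ⟨mul_mem ha ha, C.F.faithful _ ((comm_z ha).mul_left (comm_z ha)) fun u => ?_⟩
    obtain ⟨l, hl, e⟩ := code_Ct C ha
    have hc := w0_check
    simp only [Bool.and_eq_true, beq_iff_eq] at hc
    have h2 := List.all_eq_true.1 hc.1.1.1.1.2 l hl
    simp only [Bool.and_eq_true, beq_iff_eq] at h2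
    refine enc_injective ?_
    rw [C.F.pi_mul (comm_z ha) (comm_z ha), e, e, ← app_cmp, h2.1, idL_app]
  obtain ⟨x, hx, hxe⟩ := exists_scalar C.F
  have hxU : ∀ u, InU u → InU (C.F.pi x u) := by
    intro u hu
    have key : ∀ n ∈ Ulist, app omL n ∈ Ulist := by decide +kernel
    show enc (C.F.pi x u) ∈ Ulist
    rw [hxe, om_coded]
    exact key _ hu
  obtain ⟨l, hl, e⟩ := code_Ct C ha
  have hlin : ∀ u, C.F.pi a (om u) = om (C.F.pi a u) := by
    have hc := u_check
    simp only [Bool.and_eq_true, beq_iff_eq] at hc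
    have h2 := List.all_eq_true.1 hc.1.1.1.1.1.1.1.1.1.1.1.1.2 l hl
    simp only [Bool.and_eq_true, beq_iff_eq] at h2
    exact fun u => congrFun ((e.comp om_coded).eq (g := om ∘ C.F.pi a) (by rw [h2.2]; exact Coded.comp om_coded e)) u
  have heq : (x * a * x⁻¹) * (x * a * x⁻¹) = a * a := sq_eq C (conj_Ct C hx hxU ha) ha fun u => by
    rw [C.F.pi_mul (hx.mul_left (comm_z ha)) hx.inv_left, C.F.pi_mul hx (comm_z ha), hxe, ← hlin, ← hxe,
      ← C.F.pi_mul hx hx.inv_left, mul_inv_cancel, C.F.pi_one]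
  have h1 : C.F.mu (a * a) = om (C.F.mu (a * a)) := by
    rw [← hxe, ← C.F.pi_mu x hx _ haa.1]
    congr 1
    conv_lhs => rw [← heq]
    group
  exact (C.F.mu_eq_zero _ haa.1).1 (om_eq_self h1.symm)

/-- Squares are constant along the monomial conjugation. -/
theorem sq_step {l m g : List ℕ} (hm : m ∈ RL) (hg : g ∈ gU)
    (e : LFType10.cmp m g = LFType10.cmp g l) {a : G} (ha : a ∈ Ct C.F) (hae : Coded (C.F.pi a) l)
    {b : G} (hb : b ∈ Ct C.F) (hbe : Coded (C.F.pi b) m) : a * a = b * b := by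
  obtain ⟨p, hp, rfl⟩ := List.mem_map.1 hg
  obtain ⟨h, hh, he⟩ := realL_mono C.F (evenMono_check p (by simp [hp]))
  have hU : ∀ u, InU u → InU (C.F.pi h u) := fun u hu => by
    have hc := u_check
    simp only [Bool.and_eq_true] at hc
    show enc (C.F.pi h u) ∈ Ulist
    rw [he]
    exact List.contains_iff_mem.1 (List.all_eq_true.1
      (List.all_eq_true.1 hc.1.1.1.1.1.1.1.1.2 _ (List.mem_map.2 ⟨p, hp, rfl⟩)) _ hu)
  have hz : Commute (h * a * h⁻¹) z := comm_z (conj_Ct C hh hU ha)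
  rw [← sq_eq C (conj_Ct C hh hU ha) hb fun u => ?_]
  · rcases sq_cases C ha with h1 | h1
    · rw [h1, show h * a * h⁻¹ * (h * a * h⁻¹) = h * (a * a) * h⁻¹ by group, h1]; group
    · rw [h1, show h * a * h⁻¹ * (h * a * h⁻¹) = h * (a * a) * h⁻¹ by group, h1, hh.eq, mul_inv_cancel_right]
  · have hh' := hh.inv_left
    have e1 : C.F.pi (h * a * h⁻¹) (C.F.pi h (C.F.pi h⁻¹ u)) = C.F.pi b (C.F.pi h (C.F.pi h⁻¹ u)) := by
      rw [← C.F.pi_mul hz hh, inv_mul_cancel_right, C.F.pi_mul hh (comm_z ha)]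
      refine enc_injective ?_
      rw [he, hae, ← app_cmp, ← e, app_cmp, ← he, ← hbe]
    rw [← C.F.pi_mul hh hh', mul_inv_cancel, C.F.pi_one] at e1
    exact e1

theorem elementary_Ct : ∀ a ∈ Ct C.F, a * a = 1 := by
  classical
  have hc := u_check
  simp only [Bool.and_eq_true, Bool.not_eq_true', beq_eq_false_iff_ne, Bool.or_eq_true, beq_iff_eq] at hc
  obtain ⟨⟨⟨⟨⟨⟨⟨⟨-, horb⟩, h23⟩, h231⟩, h12⟩, h13⟩, h1⟩, h2⟩, h3⟩ := hc
  have hlen : RL.length = 16 := by decide +kernel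
  have m : ∀ i < 16, RL.getD i [] ∈ RL := fun i hi => by
    rw [List.getD_eq_getElem _ _ (by omega)]; exact List.getElem_mem _
  obtain ⟨a1, ha1, e1⟩ := exists_lift C (m 1 (by norm_num))
  -- the square is constant away from the identity
  have orb : ∀ k, ∀ l ∈ orbC k, l ∈ RL ∧ ∀ b ∈ Ct C.F, Coded (C.F.pi b) l → b * b = a1 * a1 := by
    intro k
    induction k with
    | zero =>
      intro l hl
      rw [orbC, List.mem_singleton] at hl
      subst hl
      exact ⟨m 1 (by norm_num), fun b hb hbe => sq_eq C hb ha1 fun u => congrFun (hbe.eq e1) u⟩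
    | succ k ih =>
      intro l hl
      rw [orbC, conjStep, List.mem_filter] at hl
      refine ⟨hl.1, fun b hb hbe => ?_⟩
      simp only [Bool.or_eq_true, List.contains_iff_mem, List.any_eq_true, beq_iff_eq] at hl
      rcases hl.2 with h | ⟨g, hg, l', hl', e⟩
      · exact (ih l h).2 b hb hbe
      · obtain ⟨a, ha, hae⟩ := exists_lift C (ih l' hl').1
        rw [← sq_step C hl.1 hg e ha hae hb hbe]
        exact (ih l' hl').2 a ha hae
  have const : ∀ a ∈ Ct C.F, ∀ l ∈ RL, Coded (C.F.pi a) l → l ≠ idL → a * a = a1 * a1 := by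
    intro a ha l hl hae hne
    have := List.all_eq_true.1 horb l hl
    simp only [Bool.or_eq_true, beq_iff_eq, List.contains_iff_mem] at this
    exact (orb 6 l (this.resolve_left hne)).2 a ha hae
  obtain ⟨a2, ha2, e2⟩ := exists_lift C (m 2 (by norm_num))
  obtain ⟨a3, ha3, e3⟩ := exists_lift C (m 3 (by norm_num))
  set c := a1 * a1 with hc'
  have hcC : ∀ a ∈ Ct C.F, Commute c a := by
    intro a ha
    rcases sq_cases C ha1 with e | e
    · rw [hc', e]; exact Commute.one_left _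
    · rw [hc', e]; exact (comm_z ha).symm
  have hc2 : c * c = 1 := by
    rcases sq_cases C ha1 with e | e
    · rw [hc', e, one_mul]
    · rw [hc', e]; exact C.F.z_sq
  have key : ∀ {a b : G}, a ∈ Ct C.F → b ∈ Ct C.F → a * a = c → b * b = c →
      a * b * (a * b) = c → a * b = b * a * c := by
    intro a b ha hb ea eb eab
    have ia : a⁻¹ = a * c := inv_eq_of_mul_eq_one_right (by rw [← mul_assoc, ea, hc2])
    have ib : b⁻¹ = b * c := inv_eq_of_mul_eq_one_right (by rw [← mul_assoc, eb, hc2])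
    have h1 : a * b = c * (b⁻¹ * a⁻¹) := by rw [← mul_inv_rev, eq_mul_inv_iff_mul_eq, eab]
    rw [h1, ia, ib, show c * (b * c * (a * c)) = c * (b * (c * a)) * c by group, (hcC a ha).eq,
      show c * (b * (a * c)) * c = c * (b * a) * (c * c) by group, hc2, mul_one,
      (hcC _ (mul_mem hb ha)).eq]
  have h23m : LFType10.cmp (RL.getD 2 []) (RL.getD 3 []) ∈ RL := by decide +kernel
  have hcd23 : Coded (C.F.pi (a2 * a3)) (LFType10.cmp (RL.getD 2 []) (RL.getD 3 [])) := fun u => by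
    rw [C.F.pi_mul (comm_z ha2) (comm_z ha3)]
    exact e2.comp e3 u
  have q1 : a1 * a1 = c := rfl
  have q2 := const a2 ha2 _ (m 2 (by norm_num)) e2 h2
  have q3 := const a3 ha3 _ (m 3 (by norm_num)) e3 h3
  have prod : ∀ {a b : G}, a ∈ Ct C.F → b ∈ Ct C.F → b * b = c → ∀ {la lb : List ℕ}, la ∈ RL → lb ∈ RL →
      Coded (C.F.pi a) la → Coded (C.F.pi b) lb → la ≠ lb → a * b * (a * b) = c := by
    intro a b ha hb eb la lb hla hlb ea eb' hne
    obtain ⟨l, hl, hle⟩ := code_Ct C (mul_mem ha hb)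
    refine const _ (mul_mem ha hb) l hl hle fun e => hne (code_inj hla hlb ea ?_)
    intro u
    have h1 : C.F.pi (a * b) (C.F.pi b u) = C.F.pi b u :=
      congrFun (hle.eq (g := id) (by rw [e]; exact coded_id)) _
    have hbb : C.F.pi (b * b) u = u := C.F.pi_eq_self_of_mem (by
      rcases sq_cases C hb with e' | e' <;> rw [e']
      exacts [one_mem _, C.F.z_mem]) u
    rw [C.F.pi_mul (comm_z ha) (comm_z hb), ← C.F.pi_mul (comm_z hb) (comm_z hb), hbb] at h1
    rw [h1]
    exact eb' u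
  have q12 := key ha1 ha2 q1 q2 (prod ha1 ha2 q2 (m 1 (by norm_num)) (m 2 (by norm_num)) e1 e2 h12)
  have q13 := key ha1 ha3 q1 q3 (prod ha1 ha3 q3 (m 1 (by norm_num)) (m 3 (by norm_num)) e1 e3 h13)
  have q23' := const _ (mul_mem ha2 ha3) _ h23m hcd23 h23
  have q1_23 := key ha1 (mul_mem ha2 ha3) q1 q23'
    (prod ha1 (mul_mem ha2 ha3) q23' (m 1 (by norm_num)) h23m e1 hcd23 (Ne.symm h231))
  have hc1 : c = 1 := by
    have e : a1 * (a2 * a3) = a2 * a3 * a1 := by
      calc a1 * (a2 * a3) = (a1 * a2) * a3 := by group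
        _ = a2 * a1 * (c * a3) := by rw [q12]; group
        _ = a2 * (a1 * a3) * c := by rw [(hcC a3 ha3).eq]; group
        _ = a2 * a3 * a1 * (c * c) := by rw [q13]; group
        _ = a2 * a3 * a1 := by rw [hc2, mul_one]
    rw [e] at q1_23
    exact left_eq_mul.1 q1_23
  intro a ha
  obtain ⟨l, hl, hle⟩ := code_Ct C ha
  by_cases hid : l = idL
  · refine sq_Ut (F := C.F) ?_
    rw [← inter_Q C.F, Subgroup.mem_inf]
    exact ⟨ha, C.F.faithful _ (comm_z ha) fun u => congrFun (hle.eq (g := id) (by rw [hid]; exact coded_id)) u⟩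
  · rw [const a ha l hl hle hid, hc1]

end Cfsg.Agent.LFType10
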