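import Cfsg.Agent.LFType10.ThompsonB
import Cfsg.Agent.LFType10.Elem

/-!
A Sylow 2-subgroup of the centraliser of the involution and its only elementary abelian subgroup of
largest order.
-/
set_option autoImplicit false

namespace Cfsg.Agent.LFType10

open Cfsg.Agent.LFType23

theorem p_check : ((PG.all fun g => PL.all fun l => PL.contains (LFType10.cmp g l)) &&
    PL.contains idL && (PL.all fun l => Ulist.all fun a => Ulist.contains (app l a)) &&
    RL.all PL.contains && PL.length == 256 &&
    (PL.all fun l => (List.range 12).map (fun k => app l (2 ^ k)) == l)) = true := by decide +kernel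

theorem cmp_idL : ∀ g ∈ PG, LFType10.cmp g idL = g := by decide +kernel

theorem cmp_assoc (a b c : List ℕ) : LFType10.cmp (LFType10.cmp a b) c = LFType10.cmp a (LFType10.cmp b c) := by
  simp only [LFType10.cmp, List.map_map]
  exact List.map_congr_left fun x _ => app_cmp a b x

theorem idL_cmp {m : List ℕ} (hm : m ∈ PL) : LFType10.cmp idL m = m := by
  have key : ∀ l ∈ PL, LFType10.cmp idL l = l := by decide +kernel
  exact key m hm

theorem PL_mul {l m : List ℕ} (hl : l ∈ PL) (hm : m ∈ PL) : LFType10.cmp l m ∈ PL := by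
  have hc := p_check
  simp only [Bool.and_eq_true, beq_iff_eq] at hc
  have hcl : closB PG PL PLc = true := by
    have h := clos_check
    simp only [Bool.and_eq_true] at h
    exact h.2
  simp only [closB, Bool.and_eq_true, beq_iff_eq] at hcl
  obtain ⟨⟨h0, -⟩, hall⟩ := hcl
  have key : ∀ i, i < PL.length → LFType10.cmp (PL.getD i []) m ∈ PL := by
    intro i
    induction i using Nat.strong_induction_on with
    | _ i ih =>
      intro hi
      have := List.all_eq_true.1 hall i (List.mem_range.2 hi)
      simp only [Bool.or_eq_true, Bool.and_eq_true, beq_iff_eq, decide_eq_true_eq] at this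
      rcases this with rfl | ⟨hlt, e⟩
      · rw [h0, idL_cmp hm]; exact hm
      · rw [e, cmp_assoc]
        have h1 := ih _ hlt (lt_trans hlt hi)
        rcases e' : PG[(PLc.getD i (0, 0)).1]? with _ | g
        · rw [List.getD_eq_getElem?_getD (l := PG), e', Option.getD_none, idL_cmp h1]; exact h1
        · rw [List.getD_eq_getElem?_getD (l := PG), e', Option.getD_some]
          exact List.contains_iff_mem.1 (List.all_eq_true.1
            (List.all_eq_true.1 hc.1.1.1.1.1 g (List.mem_of_getElem? e')) _ h1)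
  obtain ⟨i, hi, rfl⟩ := List.getElem_of_mem hl
  have := key i hi
  rwa [List.getD_eq_getElem _ _ hi] at this

theorem PL_code_inj {f : V → V} {l m : List ℕ} (hl : l ∈ PL) (hm : m ∈ PL) (el : Coded f l) (em : Coded f m) :
    l = m := by
  have hc := p_check
  simp only [Bool.and_eq_true, beq_iff_eq] at hc
  rw [← beq_iff_eq.1 (List.all_eq_true.1 hc.2 l hl), ← beq_iff_eq.1 (List.all_eq_true.1 hc.2 m hm)]
  exact List.map_congr_left fun k hk => coded_unique el em (Nat.pow_lt_pow_right (by norm_num) (List.mem_range.1 hk))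

variable {G : Type*} [Group G] [Finite G] {z : G} {Q : Subgroup G} (C : Ctx z Q)

/-- The Sylow subgroup as a monoid. -/
def sylMonoid : Submonoid G where
  carrier := {h | Commute h z ∧ ∃ l ∈ PL, Coded (C.F.pi h) l}
  one_mem' := ⟨Commute.one_left z, idL, by
    have hc := p_check
    simp only [Bool.and_eq_true, List.contains_iff_mem] at hc
    exact hc.1.1.1.1.2, fun u => by rw [C.F.pi_one]; exact coded_id u⟩
  mul_mem' := by
    rintro a b ⟨ha, l, hl, el⟩ ⟨hb, m, hm, em⟩
    exact ⟨ha.mul_left hb, _, PL_mul hl hm, fun u => by rw [C.F.pi_mul ha hb]; exact el.comp em u⟩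

/-- The Sylow subgroup. -/
def Syl : Subgroup G where
  toSubmonoid := sylMonoid C
  inv_mem' {f} hf := by
    have h1 : f⁻¹ = f ^ (orderOf f - 1) := by
      apply inv_eq_of_mul_eq_one_left
      rw [← pow_succ, Nat.sub_add_cancel (orderOf_pos f), pow_orderOf_eq_one]
    rw [h1]
    exact (sylMonoid C).pow_mem hf _

theorem mem_Syl {h : G} : h ∈ Syl C ↔ Commute h z ∧ ∃ l ∈ PL, Coded (C.F.pi h) l := Iff.rfl

theorem Ct_le_Syl : Ct C.F ≤ Syl C := fun a ha => by
  obtain ⟨l, hl, e⟩ := code_Ct C ha
  have hc := p_check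
  simp only [Bool.and_eq_true] at hc
  exact ⟨comm_z ha, l, List.contains_iff_mem.1 (List.all_eq_true.1 hc.1.1.2 l hl), e⟩

theorem Q_le_Syl : Q ≤ Syl C := fun a ha => by
  refine ⟨C.F.le_cent a ha, idL, ?_, fun u => by rw [C.F.pi_eq_self_of_mem ha]; exact coded_id u⟩
  have hc := p_check
  simp only [Bool.and_eq_true, List.contains_iff_mem] at hc
  exact hc.1.1.1.1.2

theorem Syl_inU {h : G} (hh : h ∈ Syl C) {u : V} (hu : InU u) : InU (C.F.pi h u) := by
  obtain ⟨-, l, hl, e⟩ := hh
  have hc := p_check
  simp only [Bool.and_eq_true] at hc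
  show enc _ ∈ Ulist
  rw [e]
  exact List.contains_iff_mem.1 (List.all_eq_true.1 (List.all_eq_true.1 hc.1.1.1.2 l hl) _ hu)

theorem card_Syl : Nat.card (Syl C) = 2 ^ 21 := by
  classical
  have hlen : PL.length = 256 := by decide +kernel
  have hnd : PL.Nodup := by
    have h := elem_check
    simp only [Bool.and_eq_true, decide_eq_true_eq] at h
    exact h.2
  choose a ha hae using fun l : {l // l ∈ PL.toFinset} => C.realL_P _ (List.mem_toFinset.1 l.2)
  let φ : {l // l ∈ PL.toFinset} × Q → Syl C := fun p =>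
    ⟨a p.1 * p.2, mul_mem ⟨ha p.1, _, List.mem_toFinset.1 p.1.2, hae p.1⟩ (Q_le_Syl C p.2.2)⟩
  have hpi : ∀ p, Coded (C.F.pi (φ p : G)) p.1.1 := fun p u => by
    show enc (C.F.pi (a p.1 * p.2) u) = _
    rw [C.F.pi_mul (ha _) (C.F.le_cent _ p.2.2), C.F.pi_eq_self_of_mem p.2.2]
    exact hae p.1 u
  have hbij : Function.Bijective φ := by
    constructor
    · intro p p' e
      have e1 : p.1 = p'.1 := Subtype.ext (PL_code_inj (List.mem_toFinset.1 p.1.2)
        (List.mem_toFinset.1 p'.1.2) (hpi p) (by rw [e]; exact hpi p'))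
      refine Prod.ext e1 (Subtype.ext ?_)
      have := congrArg Subtype.val e
      simp only [φ, e1] at this
      exact mul_left_cancel this
    · rintro ⟨x, hxz, l, hl, hlx⟩
      let L : {l // l ∈ PL.toFinset} := ⟨l, List.mem_toFinset.2 hl⟩
      have hq : (a L)⁻¹ * x ∈ Q := C.F.faithful _ ((ha L).inv_left.mul_left hxz) fun u => by
        rw [C.F.pi_mul (ha L).inv_left hxz,
          show C.F.pi x u = C.F.pi (a L) u from congrFun (hlx.eq (hae L)) u, C.F.pi_inv_apply (ha L)]
      exact ⟨(L, ⟨_, hq⟩), Subtype.ext (mul_inv_cancel_left _ _)⟩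
  rw [← Nat.card_congr (Equiv.ofBijective φ hbij), Nat.card_prod, Nat.card_eq_finsetCard,
    List.toFinset_card_of_nodup hnd, hlen, C.F.card_le]
  norm_num

theorem fixed_sq {W : Finset V} {f g : V → V} (hW : ∀ u ∈ W, f u = u ∧ g u = u)
    (hgl : ∀ u, g (om u) = om (g u)) (hga : ∀ u w, g (u + w) = g u + g w)
    (hfa : ∀ u w, f (u + w) = f u + f w) (hfl : ∀ u, f (om u) = om (om (f u))) :
    W.card * W.card ≤ (Finset.univ.filter fun u => g u = u).card := by
  classical
  rw [← Finset.card_product]
  refine Finset.card_le_card_of_injOn (fun p => p.1 + om p.2) (fun p hp => ?_) ?_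
  · rw [Finset.mem_coe, Finset.mem_product] at hp
    simp only [Finset.mem_coe, Finset.mem_filter, Finset.mem_univ, true_and]
    rw [hga, hgl, (hW _ hp.1).2, (hW _ hp.2).2]
  · intro p hp q hq e
    rw [Finset.mem_coe, Finset.mem_product] at hp hq
    simp only at e
    have cancel : ∀ {x y : V}, x + y = 0 → x = y := fun {x y} h => by
      calc x = x + (y + y) := by rw [add_self, add_zero]
        _ = (x + y) + y := by rw [add_assoc]
        _ = y := by rw [h, zero_add]
    have h1 : p.1 + q.1 = om (p.2 + q.2) := cancel (by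
      rw [om_add, show p.1 + q.1 + (om p.2 + om q.2) = (p.1 + om p.2) + (q.1 + om q.2) by abel, e, add_self])
    have hf : f (om (p.2 + q.2)) = om (p.2 + q.2) := by
      rw [← h1, hfa, (hW _ hp.1).1, (hW _ hq.1).1]
    rw [hfl, hfa, (hW _ hp.2).1, (hW _ hq.2).1] at hf
    have h2 : om (p.2 + q.2) = 0 := om_eq_self hf
    rw [h2] at h1
    have h3 : p.2 + q.2 = 0 := by
      have := congrArg (fun v => om (om v)) h2
      simpa [om_cube, show om 0 = 0 by decide] using this
    exact Prod.ext (cancel h1) (cancel h3)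

/-- Every elementary abelian subgroup of order at least 2^11 of the Sylow subgroup is the centraliser of
the preimage of the subspace. -/
theorem eq_Ct {B : Subgroup G} (hB : B ≤ Syl C) (hcomm : ∀ a ∈ B, ∀ b ∈ B, a * b = b * a)
    (hsq : ∀ a ∈ B, a * a = 1) (hcard : 2 ^ 11 ≤ Nat.card B) : B = Ct C.F := by
  classical
  choose code hcode hcoded using fun b : B => (hB b.2).2
  set S : Finset (List ℕ) := (Set.range code).toFinite.toFinset with hS
  have memS : ∀ {l}, l ∈ S ↔ ∃ b, code b = l := by simp [hS]
  have hmul : ∀ b b' : B, code (b * b') = LFType10.cmp (code b) (code b') := fun b b' =>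
    PL_code_inj (hcode _) (PL_mul (hcode b) (hcode b')) (hcoded _) fun u => by
      rw [Subgroup.coe_mul, C.F.pi_mul (hB b.2).1 (hB b'.2).1]
      exact (hcoded b).comp (hcoded b') u
  have hone : code 1 = idL := PL_code_inj (hcode _) (by
      have hc := p_check
      simp only [Bool.and_eq_true, List.contains_iff_mem] at hc
      exact hc.1.1.1.1.2) (hcoded _) fun u => by
    rw [OneMemClass.coe_one, C.F.pi_one]; exact coded_id u
  -- the fixed space
  let W0 : AddSubgroup V :=
    { carrier := {u | ∃ b ∈ B, b ∈ Q ∧ C.F.mu b = u}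
      add_mem' := by
        rintro _ _ ⟨a, ha, ha', rfl⟩ ⟨b, hb, hb', rfl⟩
        exact ⟨a * b, mul_mem ha hb, mul_mem ha' hb', C.F.mu_mul a ha' b hb'⟩
      zero_mem' := ⟨1, one_mem _, one_mem _, C.F.mu_one⟩
      neg_mem' := by
        rintro _ ⟨a, ha, ha', rfl⟩
        exact ⟨a, ha, ha', by rw [eq_neg_iff_add_eq_zero, add_self]⟩ }
  have hiso : ∀ a ∈ W0, ∀ b ∈ W0, bf a b = 0 := by
    rintro _ ⟨a, ha, ha', rfl⟩ _ ⟨b, hb, hb', rfl⟩
    exact (C.F.commute_iff ha' hb').1 (hcomm a ha b hb)
  set W : Finset V := Finset.univ.filter (fun u => u ∈ W0) with hW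
  have hW64 : W.card ≤ 64 := by
    have := card_isotropic hiso
    rwa [Nat.card_eq_fintype_card, Fintype.card_subtype] at this
  have hWfix : ∀ u ∈ W, ∀ b : B, C.F.pi b u = u := by
    intro u hu b
    rw [hW, Finset.mem_filter] at hu
    obtain ⟨a, ha, ha', rfl⟩ := hu.2
    rw [← C.F.pi_mu _ (hB b.2).1 a ha', hcomm b b.2 a ha, mul_inv_cancel_right]
  have hsize : Nat.card B ≤ S.card * (2 * W.card) := by
    choose rep hrep using fun l : {l // l ∈ S} => memS.1 l.2
    choose wrep hwB hwQ hwe using fun w : {w // w ∈ W} => ((Finset.mem_filter.1 w.2).2 : w.1 ∈ W0)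
    let ψ : {l // l ∈ S} × ({w // w ∈ W} × Bool) → G := fun p =>
      rep p.1 * (wrep p.2.1 * if p.2.2 then z else 1)
    have : (B : Set G) ⊆ Set.range ψ := by
      intro b hb
      let L : {l // l ∈ S} := ⟨code ⟨b, hb⟩, memS.2 ⟨_, rfl⟩⟩
      have hr : (rep L : G) ∈ B := (rep L).2
      have hq : (rep L : G)⁻¹ * b ∈ Q := C.F.faithful _ ((hB hr).1.inv_left.mul_left (hB hb).1) fun u => by
        rw [C.F.pi_mul (hB hr).1.inv_left (hB hb).1,
          show C.F.pi b u = C.F.pi (rep L) u from
            congrFun ((hcoded ⟨b, hb⟩).eq (by rw [show code ⟨b, hb⟩ = code (rep L) from (hrep L).symm]; exact hcoded (rep L))) u,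
          C.F.pi_inv_apply (hB hr).1]
      let w : {w // w ∈ W} := ⟨C.F.mu ((rep L : G)⁻¹ * b), Finset.mem_filter.2 ⟨Finset.mem_univ _,
        _, mul_mem (inv_mem hr) hb, hq, rfl⟩⟩
      rcases (C.F.mu_eq_iff hq (hwQ w)).1 (hwe w).symm with e | e
      · exact ⟨(L, w, false), by simp [ψ, ← e]⟩
      · exact ⟨(L, w, true), by simp [ψ, ← e]⟩
    have h1 := Set.ncard_le_ncard this (Set.finite_range _)
    rw [← Nat.card_coe_set_eq] at h1
    refine h1.trans ?_
    rw [← Set.image_univ]
    refine (Set.ncard_image_le Set.finite_univ).trans ?_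
    rw [Set.ncard_univ, Nat.card_prod, Nat.card_prod, Nat.card_eq_finsetCard, Nat.card_eq_finsetCard,
      Nat.card_eq_fintype_card, Fintype.card_bool]
    exact le_of_eq (by ring)
  -- linear parts
  let isLin : List ℕ → Bool := fun l => LFType10.cmp l omL == LFType10.cmp omL l
  set SL : Finset (List ℕ) := S.filter (fun l => isLin l = true) with hSL
  have hSLin : ∀ l ∈ SL, l ∈ linInv := by
    intro l hl
    rw [hSL, Finset.mem_filter, memS] at hl
    obtain ⟨⟨b, rfl⟩, hl2⟩ := hl
    rw [linInv, List.mem_filter, Bool.and_eq_true]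
    refine ⟨hcode b, hl2, beq_iff_eq.2 ?_⟩
    rw [← hmul, show b * b = 1 from Subtype.ext (hsq b b.2), hone]
  have hS_comm : ∀ l ∈ S, ∀ m ∈ S, LFType10.cmp l m = LFType10.cmp m l := by
    intro l hl m hm
    obtain ⟨a, rfl⟩ := memS.1 hl
    obtain ⟨b, rfl⟩ := memS.1 hm
    rw [← hmul, ← hmul, show a * b = b * a from Subtype.ext (hcomm a a.2 b b.2)]
  have hS_mul : ∀ l ∈ S, ∀ m ∈ S, LFType10.cmp l m ∈ S := by
    intro l hl m hm
    obtain ⟨a, rfl⟩ := memS.1 hl
    obtain ⟨b, rfl⟩ := memS.1 hm
    exact memS.2 ⟨a * b, hmul a b⟩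
  have hSL_mul : ∀ l ∈ SL, ∀ m ∈ SL, LFType10.cmp l m ∈ SL := by
    intro l hl m hm
    rw [hSL, Finset.mem_filter] at hl hm ⊢
    refine ⟨hS_mul l hl.1 m hm.1, ?_⟩
    have e1 := beq_iff_eq.1 hl.2
    have e2 := beq_iff_eq.1 hm.2
    show (LFType10.cmp (LFType10.cmp l m) omL == LFType10.cmp omL (LFType10.cmp l m)) = true
    rw [beq_iff_eq, cmp_assoc, e2, ← cmp_assoc, e1, cmp_assoc]
  have hlayer : ∀ k, 2 ^ k ≤ SL.card → ∃ H ∈ elem k, (∀ l ∈ H, l ∈ SL) ∧ H.length ≤ 2 ^ k := by
    intro k
    induction k with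
    | zero =>
      intro _
      refine ⟨[idL], by simp [elem], fun l hl => ?_, by simp⟩
      rw [List.mem_singleton] at hl
      subst hl
      refine Finset.mem_filter.2 ⟨memS.2 ⟨1, hone⟩, ?_⟩
      show (LFType10.cmp idL omL == LFType10.cmp omL idL) = true
      decide +kernel
    | succ k ih =>
      intro hk
      obtain ⟨H, hH, hsub, hlen⟩ := ih (le_trans (Nat.pow_le_pow_right (by norm_num) (Nat.le_succ k)) hk)
      obtain ⟨g, hg, hgH⟩ : ∃ g ∈ SL, g ∉ H := by
        by_contra hall
        push Not at hall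
        have : SL ⊆ H.toFinset := fun x hx => List.mem_toFinset.2 (hall x hx)
        have := (Finset.card_le_card this).trans (List.toFinset_card_le _)
        have hp : 2 ^ k < 2 ^ (k + 1) := Nat.pow_lt_pow_right (by norm_num) (by omega)
        omega
      refine ⟨extend H g, ?_, fun l hl => ?_, ?_⟩
      · rw [elem, layer, List.mem_eraseDups, List.mem_flatMap]
        refine ⟨H, hH, List.mem_map.2 ⟨g, List.mem_filter.2 ⟨hSLin g hg, ?_⟩, rfl⟩⟩
        simp only [Bool.and_eq_true, Bool.not_eq_true', List.all_eq_true, beq_iff_eq]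
        refine ⟨?_, fun h hh => hS_comm g (Finset.mem_filter.1 hg).1 h (Finset.mem_filter.1 (hsub h hh)).1⟩
        simp [hgH]
      · rw [extend, List.mem_filter, Bool.or_eq_true, List.contains_iff_mem, List.contains_iff_mem,
          List.mem_map] at hl
        rcases hl.2 with h | ⟨x, hx, rfl⟩
        · exact hsub l h
        · exact hSL_mul g hg x (hsub x hx)
      · have hnd : linInv.Nodup := by
          have h := elem_check
          simp only [Bool.and_eq_true, decide_eq_true_eq] at h
          exact h.1.1.2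
        rw [← List.toFinset_card_of_nodup (l := extend H g) (hnd.filter _)]
        refine (Finset.card_le_card (t := (H ++ H.map (LFType10.cmp g)).toFinset) fun x hx => ?_).trans ?_
        · rw [List.mem_toFinset, extend, List.mem_filter, Bool.or_eq_true, List.contains_iff_mem,
            List.contains_iff_mem] at hx
          rw [List.mem_toFinset, List.mem_append]
          exact hx.2
        · refine (List.toFinset_card_le _).trans ?_
          rw [List.length_append, List.length_map, pow_succ]
          omega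
  have hec := elem_check
  simp only [Bool.and_eq_true] at hec
  obtain ⟨⟨⟨⟨⟨⟨he5, he4⟩, hfix⟩, hRin⟩, -⟩, hRnd⟩, -⟩ := hec
  have hSL32 : SL.card < 32 := by
    by_contra h
    obtain ⟨H, hH, -⟩ := hlayer 5 (by norm_num; omega)
    rw [List.isEmpty_iff] at he5
    rw [he5] at hH
    exact absurd hH List.not_mem_nil
  have hidSL : idL ∈ SL := by
    refine Finset.mem_filter.2 ⟨memS.2 ⟨1, hone⟩, ?_⟩
    show (LFType10.cmp idL omL == LFType10.cmp omL idL) = true
    decide +kernel
  have hBz : ∀ b : B, Commute (b : G) z := fun b => (hB b.2).1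
  by_cases hall : ∀ l ∈ S, isLin l = true
  · have hSeq : SL = S := Finset.filter_true_of_mem hall
    have h16 : 16 ≤ SL.card := by
      rw [hSeq]
      by_contra h
      have : S.card * (2 * W.card) ≤ 15 * (2 * 64) := Nat.mul_le_mul (by omega) (by omega)
      omega
    obtain ⟨H, hH, hsub, hlen⟩ := hlayer 4 (by norm_num; omega)
    have hSH : SL ⊆ H.toFinset := by
      intro g hg
      rw [List.mem_toFinset]
      by_contra hgH
      have hmem : extend H g ∈ elem 5 := by
        rw [elem, layer, List.mem_eraseDups, List.mem_flatMap]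
        refine ⟨H, hH, List.mem_map.2 ⟨g, List.mem_filter.2 ⟨hSLin g hg, ?_⟩, rfl⟩⟩
        simp only [Bool.and_eq_true, Bool.not_eq_true', List.all_eq_true, beq_iff_eq]
        exact ⟨by simp [hgH], fun h hh => hS_comm g (Finset.mem_filter.1 hg).1 h (Finset.mem_filter.1 (hsub h hh)).1⟩
      rw [List.isEmpty_iff] at he5
      rw [he5] at hmem
      exact List.not_mem_nil hmem
    have h16' : SL.card ≤ 16 := (Finset.card_le_card hSH).trans ((List.toFinset_card_le _).trans hlen)
    have hWge : 64 ≤ W.card := by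
      rw [← hSeq] at hsize
      by_contra h
      have : SL.card * (2 * W.card) ≤ 16 * (2 * 63) := Nat.mul_le_mul h16' (by omega)
      omega
    have hfixH : ∀ u ∈ W, ∀ l ∈ H, app l (enc u) = enc u := by
      intro u hu l hl
      obtain ⟨b, rfl⟩ := memS.1 (Finset.mem_filter.1 (hsub l hl)).1
      rw [← hcoded b u, hWfix u hu b]
    have hRH : RL.all H.contains = true := by
      have h := List.all_eq_true.1 he4 H hH
      rw [Bool.or_eq_true] at h
      rcases h with h | h
      · exact h
      · have := fixN_bound H W hfixH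
        rw [decide_eq_true_eq] at h
        omega
    have hUW : ∀ u, InU u → u ∈ W := by
      have hcard : (Finset.univ.filter fun u : V => ∀ l ∈ RL, app l (enc u) = enc u).card ≤ 64 :=
        (fixN_bound RL _ fun u hu => (Finset.mem_filter.1 hu).2).trans (by decide +kernel)
      have hsub' : W ⊆ Finset.univ.filter fun u : V => ∀ l ∈ RL, app l (enc u) = enc u := fun u hu =>
        Finset.mem_filter.2 ⟨Finset.mem_univ _, fun l hl =>
          hfixH u hu l (List.contains_iff_mem.1 (List.all_eq_true.1 hRH l hl))⟩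
      have heq := Finset.eq_of_subset_of_card_le hsub' (hcard.trans hWge)
      intro u hu
      rw [heq, Finset.mem_filter]
      refine ⟨Finset.mem_univ _, fun l hl => ?_⟩
      have hc := u_check
      simp only [Bool.and_eq_true, beq_iff_eq] at hc
      have h2 := List.all_eq_true.1 hc.1.1.1.1.1.1.1.1.1.1.1.1.2 l hl
      simp only [Bool.and_eq_true] at h2
      exact beq_iff_eq.1 (List.all_eq_true.1 h2.1 _ hu)
    have hle : B ≤ Ct C.F := by
      intro b hb
      refine mem_Ct.2 fun x hx => ?_
      obtain ⟨a, ha, ha', e⟩ := (Finset.mem_filter.1 (hUW _ hx.2)).2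
      rcases (C.F.mu_eq_iff hx.1 ha').1 e.symm with e' | e'
      · rw [e']; exact hcomm b hb a ha
      · rw [e']; exact (show Commute b a from hcomm b hb a ha).mul_right (hBz ⟨b, hb⟩)
    exact Subgroup.eq_of_le_of_card_ge hle (by rw [card_Ct C]; exact hcard)
  · exfalso
    push Not at hall
    obtain ⟨f0, hf0, hf0'⟩ := hall
    have hf0' : isLin f0 = false := Bool.eq_false_iff.2 hf0'
    have hsemiPL : ∀ l ∈ PL, isLin l = true ∨ LFType10.cmp l omL = LFType10.cmp omL (LFType10.cmp omL l) := by
      decide +kernel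
    have hPLS : ∀ l ∈ S, l ∈ PL := fun l hl => by obtain ⟨b, rfl⟩ := memS.1 hl; exact hcode b
    have hinv : ∀ l ∈ S, LFType10.cmp f0 (LFType10.cmp f0 l) = l := by
      intro l hl
      obtain ⟨a, rfl⟩ := memS.1 hf0
      obtain ⟨b, rfl⟩ := memS.1 hl
      rw [← hmul, ← hmul, ← mul_assoc, show a * a = 1 from Subtype.ext (hsq a a.2), one_mul]
    have hS2 : S.card ≤ 2 * SL.card := by
      have h1 : (S \ SL).card ≤ SL.card := by
        refine Finset.card_le_card_of_injOn (fun l => LFType10.cmp f0 l) (fun l hl => ?_) ?_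
        · rw [Finset.mem_coe, Finset.mem_sdiff] at hl
          have hlS := hl.1
          have hnl : ¬ isLin l = true := fun h => hl.2 (Finset.mem_filter.2 ⟨hlS, h⟩)
          have el := (hsemiPL l (hPLS l hlS)).resolve_left hnl
          have ef := (hsemiPL f0 (hPLS f0 hf0)).resolve_left (by rw [hf0']; decide)
          refine Finset.mem_filter.2 ⟨hS_mul f0 hf0 l hlS, ?_⟩
          show (LFType10.cmp (LFType10.cmp f0 l) omL == LFType10.cmp omL (LFType10.cmp f0 l)) = true
          have h3 : ∀ x, LFType10.cmp omL (LFType10.cmp omL (LFType10.cmp omL (LFType10.cmp omL x))) =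
              LFType10.cmp omL x := by
            intro x
            have o4 : LFType10.cmp (LFType10.cmp (LFType10.cmp omL omL) omL) omL = omL := by decide +kernel
            rw [← cmp_assoc, ← cmp_assoc, ← cmp_assoc, o4]
          rw [beq_iff_eq, cmp_assoc, el, ← cmp_assoc f0, ef, cmp_assoc, cmp_assoc, ← cmp_assoc f0 omL l, ef,
            cmp_assoc, cmp_assoc, h3]
        · intro l hl m hm e
          have := congrArg (LFType10.cmp f0) e
          rwa [hinv l (Finset.mem_sdiff.1 hl).1, hinv m (Finset.mem_sdiff.1 hm).1] at this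
      have h2 : S.card ≤ (S \ SL).card + SL.card := by
        rw [Finset.card_sdiff_add_card_eq_card (Finset.filter_subset _ _)]
      omega
    by_cases hg : ∃ g ∈ SL, g ≠ idL
    · obtain ⟨g, hgS, hgne⟩ := hg
      obtain ⟨a, rfl⟩ := memS.1 hf0
      obtain ⟨b, rfl⟩ := memS.1 (Finset.mem_filter.1 hgS).1
      have hlinb : ∀ u, C.F.pi b (om u) = om (C.F.pi b u) := fun u =>
        congrFun (((hcoded b).comp om_coded).eq (g := om ∘ C.F.pi b)
          (by rw [beq_iff_eq.1 (Finset.mem_filter.1 hgS).2]; exact Coded.comp om_coded (hcoded b))) u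
      have hsa : ∀ u, C.F.pi a (om u) = om (om (C.F.pi a u)) := fun u =>
        congrFun (((hcoded a).comp om_coded).eq (g := om ∘ om ∘ C.F.pi a)
          (by rw [(hsemiPL _ (hcode a)).resolve_left (by rw [hf0']; decide)]
              exact Coded.comp om_coded (Coded.comp om_coded (hcoded a)))) u
      have h256 : W.card * W.card ≤ 256 := by
        refine (fixed_sq (f := C.F.pi a) (g := C.F.pi b) (fun u hu => ⟨hWfix u hu a, hWfix u hu b⟩)
          hlinb (C.F.pi_add (hBz b)) (C.F.pi_add (hBz a)) hsa).trans ?_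
        refine (fixN_bound [code b] _ fun u hu l hl => ?_).trans ?_
        · rw [List.mem_singleton] at hl
          subst hl
          rw [← hcoded b u, (Finset.mem_filter.1 hu).2]
        · have h := List.all_eq_true.1 hfix (code b) (hSLin _ hgS)
          simp only [Bool.or_eq_true, beq_iff_eq, decide_eq_true_eq] at h
          exact h.resolve_left hgne
      have hW16 : W.card ≤ 16 := by
        by_contra h
        have : 17 * 17 ≤ W.card * W.card := Nat.mul_le_mul (by omega) (by omega)
        omega
      have : S.card * (2 * W.card) ≤ 62 * (2 * 16) := Nat.mul_le_mul (by omega) (by omega)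
      omega
    · push Not at hg
      have h1 : SL.card ≤ 1 := Finset.card_le_one.2 fun x hx y hy => (hg x hx).trans (hg y hy).symm
      have : S.card * (2 * W.card) ≤ 2 * (2 * 64) := Nat.mul_le_mul (by omega) (by omega)
      omega

end Cfsg.Agent.LFType10
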